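import Cfsg.Agent.H847.Bs.Defs2
import Cfsg.Agent.H358.Bs.Amb
import Cfsg.Agent.H847.Bs.Stmts
import Cfsg.Agent.H450.Bs.GenU_m3
import Cfsg.Agent.H881.Bs.HermMinus_m3
import Mathlib
import Cfsg.Agent.H847.Bs.Defs
import Cfsg.Agent.H796.Bs.Comb_m3
import Cfsg.Agent.FastGrp
import Cfsg.Agent.Prune
set_option linter.all false

section
prune_inst 0x7f00000000000000000000000000000000000000000000000000000000000000000000000000000000000000000000000000000000000000000000000000000000000000000000000000000000000000003ffffffffcffffffffffffffffffbeffbdffffffff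

-- part: H978/Bs/SU_mg
section
prune_inst 0xfdeff8bbb8e9dfdfff7e6fa698cffc7d94bfffa6dff973ffec69ffcbdfdb0249e1f38debeb51fc0f77e23418ec7b03f9ffceffe26bd87ffffd1ff45ffbffcffdf7bd0951d68c340fbc0fff63f0778e7f000000000300000000000000000000000200000000
set_option linter.all false
open scoped Cfsg.Agent.FastGrp

-- part: H978/Bs/Three
section
/-!
# S5733: orthogonal decompositions into three subspaces (helper978)
-/

set_option autoImplicit false
set_option linter.unusedSectionVars false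

namespace Cfsg.Agent.H978.Bs

open Cfsg.Agent.H847.Bs Module

section

variable {F V : Type*} [Field F] [AddCommGroup V] [Module F V] {Φ : Frm F V}

theorem B_zero_left (y : V) : Φ.B 0 y = 0 := by
  have h := Φ.smul_left 0 0 y
  rwa [zero_smul, zero_mul] at h

theorem B_zero_right (x : V) (hs : Φ.s 0 = 0) : Φ.B x 0 = 0 := by
  have h := Φ.smul_right 0 x 0
  rwa [zero_smul, hs, zero_mul] at h

theorem Orth.symm {D U : Submodule F V} (h : Φ.Orth D U) : Φ.Orth U D := fun x hx y hy => Φ.refl _ _ (h y hy x hx)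

/-- `V = W ⟂ D ⟂ U` -/
structure Dec3 (Φ : Frm F V) (W D U : Submodule F V) : Prop where
  sum : ∀ x : V, ∃ w ∈ W, ∃ d ∈ D, ∃ u ∈ U, w + d + u = x
  wd : Φ.Orth W D
  wu : Φ.Orth W U
  du : Φ.Orth D U
  nw : Φ.NdOn W
  nd : Φ.NdOn D
  nu : Φ.NdOn U

variable {W D U : Submodule F V}

namespace Dec3

variable (H : Dec3 Φ W D U)
include H

theorem indep {w d u : V} (hw : w ∈ W) (hd : d ∈ D) (hu : u ∈ U) (h : w + d + u = 0) : w = 0 ∧ d = 0 ∧ u = 0 := by
  refine ⟨H.nw w hw fun y hy => ?_, H.nd d hd fun y hy => ?_, H.nu u hu fun y hy => ?_⟩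
  · have h1 : Φ.B (w + d + u) y = 0 := by rw [h]; exact B_zero_left y
    rwa [Φ.add_left, Φ.add_left, Orth.symm H.wd d hd y hy, Orth.symm H.wu u hu y hy, add_zero, add_zero] at h1
  · have h1 : Φ.B (w + d + u) y = 0 := by rw [h]; exact B_zero_left y
    rwa [Φ.add_left, Φ.add_left, H.wd w hw y hy, Orth.symm H.du u hu y hy, add_zero, zero_add] at h1
  · have h1 : Φ.B (w + d + u) y = 0 := by rw [h]; exact B_zero_left y
    rwa [Φ.add_left, Φ.add_left, H.wu w hw y hy, H.du d hd y hy, add_zero, zero_add] at h1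

theorem bij : Function.Bijective (W.subtype.coprod (D.subtype.coprod U.subtype)) := by
  constructor
  · rw [injective_iff_map_eq_zero]
    rintro ⟨w, d, u⟩ h
    have h1 : (w : V) + d + u = 0 := by
      have h2 : (w : V) + (d + u) = 0 := h
      rw [add_assoc]; exact h2
    obtain ⟨h2, h3, h4⟩ := H.indep w.2 d.2 u.2 h1
    rw [Submodule.coe_eq_zero] at h2 h3 h4
    rw [h2, h3, h4]
    rfl
  · intro x
    obtain ⟨w, hw, d, hd, u, hu, h⟩ := H.sum x
    refine ⟨(⟨w, hw⟩, ⟨d, hd⟩, ⟨u, hu⟩), ?_⟩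
    show w + (d + u) = x
    rw [← add_assoc, h]

/-- coordinates -/
noncomputable def e : (W × D × U) ≃ₗ[F] V := LinearEquiv.ofBijective _ H.bij

theorem e_apply (w : W) (d : D) (u : U) : H.e (w, d, u) = (w : V) + (d + u) := rfl

/-- the automorphism with given restrictions -/
noncomputable def Θ : (W ≃ₗ[F] W) × (D ≃ₗ[F] D) × (U ≃ₗ[F] U) →* (V ≃ₗ[F] V) where
  toFun p := H.e.symm ≪≫ₗ (p.1.prodCongr (p.2.1.prodCongr p.2.2)) ≪≫ₗ H.e
  map_one' := by
    ext x
    show H.e (H.e.symm x) = x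
    exact H.e.apply_symm_apply x
  map_mul' p p' := by
    ext x
    show H.e _ = H.e ((p.1.prodCongr (p.2.1.prodCongr p.2.2)) (H.e.symm (H.e _)))
    rw [H.e.symm_apply_apply]
    rfl

theorem Θ_apply (p : (W ≃ₗ[F] W) × (D ≃ₗ[F] D) × (U ≃ₗ[F] U)) (w : W) (d : D) (u : U) :
    H.Θ p ((w : V) + (d + u)) = (p.1 w : V) + (p.2.1 d + p.2.2 u) := by
  rw [← e_apply H]
  show H.e ((p.1.prodCongr (p.2.1.prodCongr p.2.2)) (H.e.symm (H.e _))) = _
  rw [H.e.symm_apply_apply]
  rfl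

theorem Θ_W (p : (W ≃ₗ[F] W) × (D ≃ₗ[F] D) × (U ≃ₗ[F] U)) (w : W) : H.Θ p (w : V) = p.1 w := by
  have h := H.Θ_apply p w 0 0
  simpa using h

theorem Θ_D (p : (W ≃ₗ[F] W) × (D ≃ₗ[F] D) × (U ≃ₗ[F] U)) (d : D) : H.Θ p (d : V) = p.2.1 d := by
  have h := H.Θ_apply p 0 d 0
  simpa using h

theorem Θ_U (p : (W ≃ₗ[F] W) × (D ≃ₗ[F] D) × (U ≃ₗ[F] U)) (u : U) : H.Θ p (u : V) = p.2.2 u := by
  have h := H.Θ_apply p 0 0 u
  simpa using h

theorem Θ_inj : Function.Injective H.Θ := by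
  intro p p' h
  refine Prod.ext ?_ (Prod.ext ?_ ?_)
  · ext w
    rw [← H.Θ_W p w, h, H.Θ_W]
  · ext w
    rw [← H.Θ_D p w, h, H.Θ_D]
  · ext w
    rw [← H.Θ_U p w, h, H.Θ_U]

theorem Θ_det [Module.Finite F V] (p : (W ≃ₗ[F] W) × (D ≃ₗ[F] D) × (U ≃ₗ[F] U)) :
    LinearMap.det (H.Θ p : V →ₗ[F] V) = LinearMap.det (p.1 : W →ₗ[F] W) *
      (LinearMap.det (p.2.1 : D →ₗ[F] D) * LinearMap.det (p.2.2 : U →ₗ[F] U)) := by
  have h : (H.Θ p : V →ₗ[F] V) = (H.e : (W × D × U) →ₗ[F] V) ∘ₗ (LinearMap.prodMap (p.1 : W →ₗ[F] W)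
      (LinearMap.prodMap (p.2.1 : D →ₗ[F] D) (p.2.2 : U →ₗ[F] U))) ∘ₗ (H.e.symm : V →ₗ[F] (W × D × U)) := rfl
  rw [h, LinearMap.det_conj, LinearMap.det_prodMap, LinearMap.det_prodMap]

theorem B_sum (w w' : W) (d d' : D) (u u' : U) :
    Φ.B ((w : V) + (d + u)) ((w' : V) + (d' + u')) = Φ.B w w' + (Φ.B d d' + Φ.B u u') := by
  rw [Φ.add_left, Φ.add_left, Φ.add_right, Φ.add_right, Φ.add_right, Φ.add_right, Φ.add_right, Φ.add_right,
    H.wd w w.2 d' d'.2, H.wu w w.2 u' u'.2, Orth.symm H.wd d d.2 w' w'.2, H.du d d.2 u' u'.2,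
    Orth.symm H.wu u u.2 w' w'.2, Orth.symm H.du u u.2 d' d'.2]
  ring

theorem q_sum (w : W) (d : D) (u : U) : Φ.q ((w : V) + (d + u)) = Φ.q w + (Φ.q d + Φ.q u) := by
  rw [Φ.q_add, Φ.q_add _ _ (H.du d d.2 u u.2)]
  rw [Φ.add_right, H.wd w w.2 d d.2, H.wu w w.2 u u.2, add_zero]

theorem exists_sum (x : V) : ∃ (w : W) (d : D) (u : U), x = (w : V) + (d + u) := by
  obtain ⟨w, hw, d, hd, u, hu, h⟩ := H.sum x
  exact ⟨⟨w, hw⟩, ⟨d, hd⟩, ⟨u, hu⟩, by rw [← h]; exact add_assoc _ _ _⟩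

theorem Θ_mem (p : (W ≃ₗ[F] W) × (D ≃ₗ[F] D) × (U ≃ₗ[F] U)) : H.Θ p ∈ Φ.Iso ↔
    p.1 ∈ (Φ.on W).Iso ∧ p.2.1 ∈ (Φ.on D).Iso ∧ p.2.2 ∈ (Φ.on U).Iso := by
  constructor
  · rintro ⟨h1, h2⟩
    refine ⟨⟨fun x y => ?_, fun x => ?_⟩, ⟨fun x y => ?_, fun x => ?_⟩, ⟨fun x y => ?_, fun x => ?_⟩⟩
    · have := h1 x y
      rwa [H.Θ_W, H.Θ_W] at this
    · have := h2 x
      rwa [H.Θ_W] at this
    · have := h1 x y
      rwa [H.Θ_D, H.Θ_D] at this
    · have := h2 x
      rwa [H.Θ_D] at this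
    · have := h1 x y
      rwa [H.Θ_U, H.Θ_U] at this
    · have := h2 x
      rwa [H.Θ_U] at this
  · rintro ⟨⟨a1, a2⟩, ⟨b1, b2⟩, c1, c2⟩
    refine ⟨fun x y => ?_, fun x => ?_⟩
    · obtain ⟨w, d, u, rfl⟩ := H.exists_sum x
      obtain ⟨w', d', u', rfl⟩ := H.exists_sum y
      rw [H.Θ_apply, H.Θ_apply, H.B_sum, H.B_sum]
      have e1 : Φ.B (p.1 w : V) (p.1 w') = Φ.B w w' := a1 w w'
      have e2 : Φ.B (p.2.1 d : V) (p.2.1 d') = Φ.B d d' := b1 d d'
      have e3 : Φ.B (p.2.2 u : V) (p.2.2 u') = Φ.B u u' := c1 u u'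
      rw [e1, e2, e3]
    · obtain ⟨w, d, u, rfl⟩ := H.exists_sum x
      rw [H.Θ_apply, H.q_sum, H.q_sum]
      have e1 : Φ.q (p.1 w : V) = Φ.q w := a2 w
      have e2 : Φ.q (p.2.1 d : V) = Φ.q d := b2 d
      have e3 : Φ.q (p.2.2 u : V) = Φ.q u := c2 u
      rw [e1, e2, e3]

end Dec3

/-- restriction to an invariant subspace -/
theorem exists_res [Module.Finite F V] {g : V ≃ₗ[F] V} {W : Submodule F V} (h : _root_.Cfsg.Agent.H847.Bs.Inv g W) :
    ∃ a : W ≃ₗ[F] W, ∀ w : W, (a w : V) = g w := by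
  let f : W →ₗ[F] W := (g : V →ₗ[F] V).restrict (p := W) (q := W) h
  have hf : Function.Injective f := by
    intro x y hxy
    apply Subtype.ext
    apply g.injective
    exact congrArg Subtype.val hxy
  exact ⟨LinearEquiv.ofInjectiveEndo f hf, fun w => rfl⟩

theorem Dec3.exists_Θ [Module.Finite F V] (H : Dec3 Φ W D U) {g : V ≃ₗ[F] V} (hW : _root_.Cfsg.Agent.H847.Bs.Inv g W) (hD : _root_.Cfsg.Agent.H847.Bs.Inv g D) (hU : _root_.Cfsg.Agent.H847.Bs.Inv g U) :
    ∃ p, H.Θ p = g := by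
  obtain ⟨a, ha⟩ := exists_res hW
  obtain ⟨b, hb⟩ := exists_res hD
  obtain ⟨c, hc⟩ := exists_res hU
  refine ⟨(a, b, c), ?_⟩
  ext x
  obtain ⟨w, d, u, rfl⟩ := H.exists_sum x
  rw [H.Θ_apply, map_add, map_add, ha, hb, hc]

/-! ### The elements `Θ (a, b, v)`, `b` irreducible, `v` without small invariant subspaces -/

section ti

variable [Module.Finite F V]

/-- `b` is irreducible, the nonzero `v`-invariant subspaces have dimension more than `K`, `dim W < dim D ≤ K` -/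
structure Big (H : Dec3 Φ W D U) (K : ℕ) (p : (W ≃ₗ[F] W) × (D ≃ₗ[F] D) × (U ≃ₗ[F] U)) : Prop where
  irr : Irr p.2.1 ⊤
  big : ∀ Y : Submodule F U, _root_.Cfsg.Agent.H847.Bs.Inv p.2.2 Y → Y ≠ ⊥ → K < finrank F Y
  wd : finrank F W < finrank F D
  dK : finrank F D ≤ K

variable {H : Dec3 Φ W D U} {K : ℕ} {p : (W ≃ₗ[F] W) × (D ≃ₗ[F] D) × (U ≃ₗ[F] U)}

/-- small invariant subspaces lie in `W ⊕ D` -/
theorem Big.le (E : Big H K p) {Y : Submodule F V} (hY : _root_.Cfsg.Agent.H847.Bs.Inv (H.Θ p) Y) (hc : finrank F Y ≤ K) {x : V} (hx : x ∈ Y) :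
    ∃ (w : W) (d : D), x = (w : V) + d := by
  let π : V →ₗ[F] U := (LinearMap.snd F D U) ∘ₗ (LinearMap.snd F W (D × U)) ∘ₗ (H.e.symm : V →ₗ[F] (W × D × U))
  have hπ : ∀ (w : W) (d : D) (u : U), π ((w : V) + (d + u)) = u := by
    intro w d u
    rw [← Dec3.e_apply H]
    show ((H.e.symm (H.e (w, d, u))).2).2 = u
    rw [H.e.symm_apply_apply]
  have hinv : _root_.Cfsg.Agent.H847.Bs.Inv p.2.2 (Y.map π) := by
    rintro _ ⟨y, hy, rfl⟩
    refine ⟨H.Θ p y, hY y hy, ?_⟩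
    obtain ⟨w, d, u, rfl⟩ := H.exists_sum y
    rw [H.Θ_apply, hπ, hπ]
  have h1 : Y.map π = ⊥ := by
    by_contra h
    have h2 := E.big _ hinv h
    have h3 := Submodule.finrank_map_le π Y
    omega
  obtain ⟨w, d, u, rfl⟩ := H.exists_sum x
  have h2 : π ((w : V) + (d + u)) ∈ Y.map π := ⟨_, hx, rfl⟩
  rw [h1, Submodule.mem_bot, hπ] at h2
  exact ⟨w, d, by rw [h2, Submodule.coe_zero, add_zero]⟩

theorem Big.inv_D (_E : Big H K p) : _root_.Cfsg.Agent.H847.Bs.Inv (H.Θ p) D := by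
  intro d hd
  rw [H.Θ_D p ⟨d, hd⟩]
  exact (p.2.1 _).2

theorem Big.inv_W (_E : Big H K p) : _root_.Cfsg.Agent.H847.Bs.Inv (H.Θ p) W := by
  intro d hd
  rw [H.Θ_W p ⟨d, hd⟩]
  exact (p.1 _).2

theorem Big.D_irr (E : Big H K p) : ∀ Y ≤ D, _root_.Cfsg.Agent.H847.Bs.Inv (H.Θ p) Y → Y = ⊥ ∨ Y = D := by
  intro Y hY hi
  have h1 : _root_.Cfsg.Agent.H847.Bs.Inv p.2.1 (Y.comap D.subtype) := by
    intro d hd
    have h2 := hi _ hd
    rw [Submodule.subtype_apply, H.Θ_D] at h2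
    exact h2
  rcases E.irr.min _ le_top h1 with h | h
  · left
    rw [eq_bot_iff]
    intro y hy
    have h2 : (⟨y, hY hy⟩ : D) ∈ Y.comap D.subtype := hy
    rw [h, Submodule.mem_bot] at h2
    exact congrArg Subtype.val h2
  · right
    exact le_antisymm hY (Submodule.comap_subtype_eq_top.1 h)

/-- `D` is the only irreducible invariant subspace of its dimension -/
theorem Big.uniq (E : Big H K p) {Y : Submodule F V} (hY : _root_.Cfsg.Agent.H847.Bs.Inv (H.Θ p) Y) (hirr : ∀ Z ≤ Y, _root_.Cfsg.Agent.H847.Bs.Inv (H.Θ p) Z → Z = ⊥ ∨ Z = Y)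
    (hc : finrank F Y = finrank F D) : Y = D := by
  have h1 : _root_.Cfsg.Agent.H847.Bs.Inv (H.Θ p) (Y ⊓ D) := fun x hx => ⟨hY x hx.1, E.inv_D x hx.2⟩
  rcases hirr _ inf_le_left h1 with h | h
  · exfalso
    let π : V →ₗ[F] W := (LinearMap.fst F W (D × U)) ∘ₗ (H.e.symm : V →ₗ[F] (W × D × U))
    have hπ : ∀ (w : W) (d : D) (u : U), π ((w : V) + (d + u)) = w := by
      intro w d u
      rw [← Dec3.e_apply H]
      show ((H.e.symm (H.e (w, d, u))).1) = w
      rw [H.e.symm_apply_apply]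
    have hinj : Function.Injective (π.domRestrict Y) := by
      rw [injective_iff_map_eq_zero]
      rintro ⟨y, hy⟩ h2
      obtain ⟨w, d, rfl⟩ := E.le hY (by rw [hc]; exact E.dK) hy
      have h3 : π ((w : V) + d) = 0 := h2
      have h4 := hπ w d 0
      rw [Submodule.coe_zero, add_zero, h3] at h4
      have h5 : (w : V) + d = d := by rw [← h4, Submodule.coe_zero, zero_add]
      have h6 : (w : V) + d ∈ Y ⊓ D := ⟨hy, by rw [h5]; exact d.2⟩
      rw [h, Submodule.mem_bot] at h6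
      exact Subtype.ext h6
    have h2 := LinearMap.finrank_le_finrank_of_injective hinj
    have := E.wd
    omega
  · have h2 : Y ≤ D := by rw [← h]; exact inf_le_right
    exact Submodule.eq_of_le_of_finrank_eq h2 hc

/-- an isometry which takes a big element to a big element -/
theorem Big.ti {p' : (W ≃ₗ[F] W) × (D ≃ₗ[F] D) × (U ≃ₗ[F] U)} (E : Big H K p) (E' : Big H K p') {g : V ≃ₗ[F] V}
    (hg : g ∈ Φ.Iso) (h : g * H.Θ p * g⁻¹ = H.Θ p') : _root_.Cfsg.Agent.H847.Bs.Inv g W ∧ _root_.Cfsg.Agent.H847.Bs.Inv g D ∧ _root_.Cfsg.Agent.H847.Bs.Inv g U := by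
  have hc : ∀ x : V, H.Θ p' (g x) = g (H.Θ p x) := by
    intro x
    rw [← h]
    show g (H.Θ p (g.symm (g x))) = _
    rw [g.symm_apply_apply]
  have hmap : ∀ Y : Submodule F V, _root_.Cfsg.Agent.H847.Bs.Inv (H.Θ p) Y → _root_.Cfsg.Agent.H847.Bs.Inv (H.Θ p') (Y.map (g : V →ₗ[F] V)) := by
    rintro Y hY _ ⟨y, hy, rfl⟩
    exact ⟨_, hY y hy, (hc y).symm⟩
  have hfr : ∀ Y : Submodule F V, finrank F (Y.map (g : V →ₗ[F] V)) = finrank F Y := fun Y =>
    LinearEquiv.finrank_map_eq g Y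
  have hD : D.map (g : V →ₗ[F] V) = D := by
    refine E'.uniq (hmap D E.inv_D) ?_ (hfr D)
    intro Z hZ hi
    have h1 : _root_.Cfsg.Agent.H847.Bs.Inv (H.Θ p) (Z.comap (g : V →ₗ[F] V)) := by
      intro x hx
      have h2 := hi _ hx
      have h3 : H.Θ p' (g x) ∈ Z := h2
      rw [hc] at h3
      exact h3
    have h2 : Z.comap (g : V →ₗ[F] V) ≤ D := by
      intro x hx
      obtain ⟨y, hy, hxy⟩ := hZ hx
      have : y = x := g.injective hxy
      rwa [← this]
    have h3 : (Z.comap (g : V →ₗ[F] V)).map (g : V →ₗ[F] V) = Z :=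
      Submodule.map_comap_eq_of_surjective g.surjective Z
    rcases E.D_irr _ h2 h1 with h | h
    · left
      rw [← h3, h, Submodule.map_bot]
    · right
      rw [← h3, h]
  have hDi : _root_.Cfsg.Agent.H847.Bs.Inv g D := fun d hd => by rw [← hD]; exact ⟨d, hd, rfl⟩
  have hWi : _root_.Cfsg.Agent.H847.Bs.Inv g W := by
    intro w hw
    have h1 : g w ∈ W.map (g : V →ₗ[F] V) := ⟨w, hw, rfl⟩
    obtain ⟨w', d', h2⟩ := E'.le (hmap W E.inv_W) (by rw [hfr]; have := E.wd; have := E.dK; omega) h1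
    have h3 : (d' : V) = 0 := by
      apply H.nd d' d'.2
      intro y hy
      rw [← hD] at hy
      obtain ⟨z, hz, rfl⟩ := hy
      have h4 : Φ.B (g w) (g z) = 0 := by rw [hg.1]; exact H.wd w hw z hz
      rw [h2, Φ.add_left] at h4
      have h5 : Φ.B (w' : V) (g z) = 0 := H.wd w' w'.2 _ (hDi z hz)
      rw [h5, zero_add] at h4
      exact h4
    rw [h2, h3, add_zero]
    exact w'.2
  have hW : W.map (g : V →ₗ[F] V) = W := by
    refine Submodule.eq_of_le_of_finrank_eq ?_ (hfr W)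
    rintro _ ⟨w, hw, rfl⟩
    exact hWi w hw
  refine ⟨hWi, hDi, ?_⟩
  intro u hu
  obtain ⟨w', d', u', h1⟩ := H.exists_sum (g u)
  have h2 : (w' : V) = 0 := by
    apply H.nw w' w'.2
    intro y hy
    rw [← hW] at hy
    obtain ⟨z, hz, rfl⟩ := hy
    have h4 : Φ.B (g u) (g z) = 0 := by rw [hg.1]; exact Orth.symm H.wu u hu z hz
    rw [h1, Φ.add_left, Φ.add_left] at h4
    have h5 : Φ.B (d' : V) (g z) = 0 := Orth.symm H.wd d' d'.2 _ (hWi z hz)
    have h6 : Φ.B (u' : V) (g z) = 0 := Orth.symm H.wu u' u'.2 _ (hWi z hz)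
    rw [h5, h6, add_zero, add_zero] at h4
    exact h4
  have h3 : (d' : V) = 0 := by
    apply H.nd d' d'.2
    intro y hy
    rw [← hD] at hy
    obtain ⟨z, hz, rfl⟩ := hy
    have h4 : Φ.B (g u) (g z) = 0 := by rw [hg.1]; exact Orth.symm H.du u hu z hz
    rw [h1, Φ.add_left, Φ.add_left] at h4
    have h5 : Φ.B (w' : V) (g z) = 0 := H.wd w' w'.2 _ (hDi z hz)
    have h6 : Φ.B (u' : V) (g z) = 0 := Orth.symm H.du u' u'.2 _ (hDi z hz)
    rw [h5, h6, zero_add, add_zero] at h4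
    exact h4
  rw [h1, h2, h3, zero_add, zero_add]
  exact u'.2

end ti

end

end Cfsg.Agent.H978.Bs
end

-- part: H978/Bs/Herm
section
/-!
# S5733: hermitian spaces (helper978)

* `det_pow` : the determinant of an isometry is a root of unity of order `r + 1`;
* `exists_dec3` : `V = W ⟂ D ⟂ U` with given dimensions.
-/

set_option autoImplicit false
set_option linter.unusedSectionVars false

namespace Cfsg.Agent.H978.Bs

open Cfsg.Agent.H847.Bs Module

section

variable {F V : Type*} [Field F] [AddCommGroup V] [Module F V] {Φ : Frm F V} {r : ℕ}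

theorem IsHerm_on (h : IsHerm r Φ) {X : Submodule F V} (hX : Φ.NdOn X) : IsHerm r (Φ.on X) where
  nd x hx := Subtype.ext (hX x x.2 fun y hy => hx ⟨y, hy⟩)
  card := h.card
  s := h.s
  q x := h.q x
  symm x y := h.symm x y

theorem B_ne (h : IsHerm r Φ) [Nontrivial V] : ∃ x y, Φ.B x y ≠ 0 := by
  obtain ⟨x, hx⟩ := exists_ne (0 : V)
  by_contra hcon
  push Not at hcon
  exact hx (h.nd x (hcon x))

theorem herm_pow_add (h : IsHerm r Φ) [Nontrivial V] (a b : F) : (a + b) ^ r = a ^ r + b ^ r := by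
  obtain ⟨x, y, hxy⟩ := B_ne h
  have h1 := Φ.smul_right (a + b) x y
  rw [add_smul, Φ.add_right, Φ.smul_right, Φ.smul_right, h.s, h.s, h.s, ← add_mul] at h1
  exact (mul_right_cancel₀ hxy h1).symm

theorem r_ne_zero (h : IsHerm r Φ) [Finite F] : r ≠ 0 := by
  rintro rfl
  have h1 := h.card
  have h2 : 0 < Nat.card F := Nat.card_pos
  omega

/-- the field automorphism -/
def sig (h : IsHerm r Φ) [Nontrivial V] [Finite F] : F →+* F where
  toFun a := a ^ r
  map_one' := one_pow r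
  map_mul' a b := mul_pow a b r
  map_zero' := zero_pow (r_ne_zero h)
  map_add' := herm_pow_add h

variable [Finite F] [Module.Finite F V]

theorem B_zero_right' (h : IsHerm r Φ) (x : V) : Φ.B x 0 = 0 :=
  B_zero_right x (by rw [h.s, zero_pow (r_ne_zero h)])

theorem B_sum_left {ι : Type*} (t : Finset ι) (f : ι → V) (y : V) : Φ.B (∑ i ∈ t, f i) y = ∑ i ∈ t, Φ.B (f i) y := by
  classical
  induction t using Finset.induction_on with
  | empty => rw [Finset.sum_empty, Finset.sum_empty]; exact B_zero_left y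
  | insert a s ha ih => rw [Finset.sum_insert ha, Finset.sum_insert ha, Φ.add_left, ih]

theorem B_sum_right (h : IsHerm r Φ) {ι : Type*} (t : Finset ι) (x : V) (f : ι → V) :
    Φ.B x (∑ i ∈ t, f i) = ∑ i ∈ t, Φ.B x (f i) := by
  classical
  induction t using Finset.induction_on with
  | empty => rw [Finset.sum_empty, Finset.sum_empty]; exact B_zero_right' h x
  | insert a s ha ih => rw [Finset.sum_insert ha, Finset.sum_insert ha, Φ.add_right, ih]

theorem det_pow (h : IsHerm r Φ) {g : V ≃ₗ[F] V} (hg : g ∈ Φ.Iso) : LinearMap.det (g : V →ₗ[F] V) ^ (r + 1) = 1 := by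
  rcases subsingleton_or_nontrivial V with hV | hV
  · rw [LinearMap.det_eq_one_of_subsingleton, one_pow]
  classical
  let b := Module.finBasis F V
  let G : Matrix (Fin (finrank F V)) (Fin (finrank F V)) F := Matrix.of fun i j => Φ.B (b i) (b j)
  let A := LinearMap.toMatrix b b (g : V →ₗ[F] V)
  have hAe : ∀ i j, A i j = b.repr (g (b j)) i := fun i j => LinearMap.toMatrix_apply b b _ i j
  have hA : ∀ j, g (b j) = ∑ i, A i j • b i := by
    intro j
    conv_lhs => rw [← b.sum_repr (g (b j))]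
    exact Finset.sum_congr rfl fun i _ => by rw [hAe]
  have h1 : A.transpose * G * A.map (sig h) = G := by
    ext j k
    have h2 := hg.1 (b j) (b k)
    rw [hA, hA, B_sum_left] at h2
    rw [Matrix.mul_apply]
    show _ = Φ.B (b j) (b k)
    rw [← h2]
    simp only [Matrix.mul_apply, Matrix.transpose_apply, Matrix.map_apply, B_sum_right h, Φ.smul_left, Φ.smul_right, h.s,
      Finset.sum_mul]
    rw [Finset.sum_comm]
    refine Finset.sum_congr rfl fun i _ => Finset.sum_congr rfl fun l _ => ?_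
    show A i j * Φ.B (b i) (b l) * (A l k) ^ r = A i j * ((A l k) ^ r * Φ.B (b i) (b l))
    ring
  have h2 : G.det ≠ 0 := by
    intro h0
    obtain ⟨v, hv, hv0⟩ := Matrix.exists_vecMul_eq_zero_iff.2 h0
    apply hv
    have h3 : ∑ i, v i • b i = 0 := by
      apply h.nd
      intro y
      rw [← b.sum_repr y, B_sum_right h]
      refine Finset.sum_eq_zero fun j _ => ?_
      rw [Φ.smul_right, B_sum_left]
      have h4 := congrFun hv0 j
      have h5 : ∑ i, v i * Φ.B (b i) (b j) = 0 := h4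
      have h6 : ∑ i, Φ.B (v i • b i) (b j) = 0 := by
        rw [← h5]
        exact Finset.sum_congr rfl fun i _ => Φ.smul_left _ _ _
      rw [h6, mul_zero]
    have h4 := b.linearIndependent
    rw [Fintype.linearIndependent_iff] at h4
    ext i
    exact h4 v h3 i
  have h3 := congrArg Matrix.det h1
  rw [Matrix.det_mul, Matrix.det_mul, Matrix.det_transpose] at h3
  have h4 : (A.map (sig h)).det = A.det ^ r := by
    have h5 := (RingHom.map_det (sig h) A).symm
    exact h5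
  rw [h4] at h3
  have h5 : A.det ^ (r + 1) * G.det = 1 * G.det := by
    rw [one_mul]
    calc A.det ^ (r + 1) * G.det = A.det * G.det * A.det ^ r := by ring
      _ = G.det := h3
  have h6 := mul_right_cancel₀ h2 h5
  rw [LinearMap.det_toMatrix] at h6
  exact h6

/-! ### Decompositions -/

theorem r_gt (h : IsHerm r Φ) : 1 < r := by
  have h1 := h.card
  have h2 : 1 < Nat.card F := Finite.one_lt_card
  by_contra h3
  have h4 : r ≤ 1 := by omega
  have h5 : r ^ 2 ≤ 1 ^ 2 := Nat.pow_le_pow_left h4 2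
  omega

theorem exists_pow_ne (h : IsHerm r Φ) : ∃ a : F, a ^ r ≠ a := by
  have hr := r_gt h
  have hc : Nat.card Fˣ = r ^ 2 - 1 := by rw [Nat.card_units, h.card]
  obtain ⟨u, hu⟩ := IsCyclic.exists_generator (α := Fˣ)
  have ho : orderOf u = r ^ 2 - 1 := by rw [orderOf_eq_card_of_forall_mem_zpowers hu, hc]
  refine ⟨u, fun h1 => ?_⟩
  have h2 : u ^ r = u := by
    apply Units.ext
    rw [Units.val_pow_eq_pow_val, h1]
  have h3 : u ^ (r - 1) = 1 := by
    have h4 : u ^ (r - 1) * u = 1 * u := by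
      rw [← pow_succ, Nat.sub_add_cancel hr.le, h2, one_mul]
    exact mul_right_cancel h4
  have h4 := orderOf_dvd_of_pow_eq_one h3
  rw [ho] at h4
  have h5 := Nat.le_of_dvd (by omega) h4
  have h6 : r * 2 ≤ r ^ 2 := by rw [pow_two]; exact Nat.mul_le_mul_left r hr
  omega

theorem exists_aniso (h : IsHerm r Φ) [Nontrivial V] : ∃ x, Φ.B x x ≠ 0 := by
  by_contra hcon
  push Not at hcon
  obtain ⟨x, y, hxy⟩ := B_ne h
  obtain ⟨a, ha⟩ := exists_pow_ne h
  have key : ∀ y, Φ.B x y + Φ.B y x = 0 := by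
    intro y
    have h1 := hcon (x + y)
    rwa [Φ.add_left, Φ.add_right, Φ.add_right, hcon x, hcon y, zero_add, add_zero] at h1
  have h1 := key y
  have h2 := key (a • y)
  rw [Φ.smul_left, Φ.smul_right, h.s] at h2
  have h3 : Φ.B y x = - Φ.B x y := eq_neg_of_add_eq_zero_right h1
  rw [h3] at h2
  have h4 : (a ^ r - a) * Φ.B x y = 0 := by rw [← h2]; ring
  rcases mul_eq_zero.1 h4 with h5 | h5
  · exact ha (sub_eq_zero.1 h5)
  · exact hxy h5

/-- the orthogonal complement -/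
def perp (Φ : Frm F V) (W : Submodule F V) : Submodule F V where
  carrier := {u | ∀ w ∈ W, Φ.B u w = 0}
  zero_mem' := fun w _ => B_zero_left w
  add_mem' := by
    intro a b ha hb w hw
    rw [Φ.add_left, ha w hw, hb w hw, add_zero]
  smul_mem' := by
    intro c a ha w hw
    rw [Φ.smul_left, ha w hw, mul_zero]

theorem perp_orth (W : Submodule F V) : Φ.Orth W (perp Φ W) := fun _ hx _ hy => Φ.refl _ _ (hy _ hx)

theorem isCompl_perp (h : IsHerm r Φ) {W : Submodule F V} (hW : Φ.NdOn W) : IsCompl W (perp Φ W) := by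
  have hd : Disjoint W (perp Φ W) := by
    rw [Submodule.disjoint_def]
    exact fun x h1 h2 => hW x h1 h2
  let b := Module.finBasis F W
  let f : V →ₗ[F] (Fin (finrank F W) → F) :=
    { toFun := fun x i => Φ.B x (b i)
      map_add' := fun x y => by ext i; exact Φ.add_left _ _ _
      map_smul' := fun a x => by ext i; exact Φ.smul_left _ _ _ }
  have hf : LinearMap.ker f ≤ perp Φ W := by
    intro x hx w hw
    have h1 : ∀ i, Φ.B x (b i) = 0 := fun i => congrFun (LinearMap.mem_ker.1 hx) i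
    have h2 : w = ∑ i, (b.repr ⟨w, hw⟩ i) • (b i : V) := by
      have h3 : W.subtype (∑ i, (b.repr ⟨w, hw⟩ i) • b i) = w := by rw [b.sum_repr]; rfl
      rw [map_sum] at h3
      exact h3.symm
    rw [h2, B_sum_right h]
    refine Finset.sum_eq_zero fun i _ => ?_
    rw [Φ.smul_right, h1, mul_zero]
  have h1 := LinearMap.finrank_range_add_finrank_ker f
  have h2 : finrank F (LinearMap.range f) ≤ finrank F W := by
    have h3 := Submodule.finrank_le (LinearMap.range f)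
    rwa [Module.finrank_fin_fun] at h3
  have h3 := Submodule.finrank_mono hf
  have h4 := Submodule.finrank_sup_add_finrank_inf_eq W (perp Φ W)
  rw [hd.eq_bot, finrank_bot] at h4
  have h5 : W ⊔ perp Φ W = ⊤ := by
    apply Submodule.eq_top_of_finrank_eq
    have h6 := Submodule.finrank_le (W ⊔ perp Φ W)
    omega
  exact ⟨hd, codisjoint_iff.2 h5⟩

theorem nd_perp (h : IsHerm r Φ) {W : Submodule F V} (hW : Φ.NdOn W) : Φ.NdOn (perp Φ W) := by
  intro x hx hy
  apply h.nd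
  intro y
  have h1 : y ∈ W ⊔ perp Φ W := by rw [(isCompl_perp h hW).sup_eq_top]; trivial
  obtain ⟨w, hw, u, hu, rfl⟩ := Submodule.mem_sup.1 h1
  rw [Φ.add_right, hx w hw, hy u hu, add_zero]

theorem exists_nd (h : IsHerm r Φ) {k : ℕ} (hk : k ≤ finrank F V) : ∃ W : Submodule F V, Φ.NdOn W ∧ finrank F W = k := by
  induction k with
  | zero => exact ⟨⊥, fun x hx _ => (Submodule.mem_bot F).1 hx, finrank_bot F V⟩
  | succ k ih =>
    obtain ⟨W, hW, hWk⟩ := ih (by omega)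
    have hP := nd_perp h hW
    have hc := Submodule.finrank_add_eq_of_isCompl (isCompl_perp h hW)
    have hnt : Nontrivial (perp Φ W) := by
      apply Module.nontrivial_of_finrank_pos (R := F)
      omega
    obtain ⟨⟨x, hx⟩, hxx⟩ := exists_aniso (IsHerm_on h hP)
    replace hxx : Φ.B x x ≠ 0 := hxx
    have hx0 : x ≠ 0 := by
      rintro rfl
      exact hxx (B_zero_left 0)
    refine ⟨W ⊔ Submodule.span F {x}, ?_, ?_⟩
    · intro z hz hzy
      obtain ⟨w, hw, _, hy, rfl⟩ := Submodule.mem_sup.1 hz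
      obtain ⟨a, rfl⟩ := Submodule.mem_span_singleton.1 hy
      have h1 : w = 0 := by
        apply hW w hw
        intro w' hw'
        have h2 := hzy w' (Submodule.mem_sup_left hw')
        rwa [Φ.add_left, Φ.smul_left, hx w' hw', mul_zero, add_zero] at h2
      have h2 := hzy x (Submodule.mem_sup_right (Submodule.mem_span_singleton_self x))
      rw [h1, zero_add, Φ.smul_left] at h2
      have h3 : a = 0 := (mul_eq_zero.1 h2).resolve_right hxx
      rw [h1, h3, zero_smul, add_zero]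
    · have h1 : W ⊓ Submodule.span F {x} = ⊥ := by
        rw [eq_bot_iff]
        rintro z ⟨hz1, hz2⟩
        obtain ⟨a, rfl⟩ := Submodule.mem_span_singleton.1 hz2
        rw [Submodule.mem_bot]
        have h3 : Φ.B (a • x) (a • x) = 0 := by
          rw [Φ.smul_left, hx _ hz1, mul_zero]
        rw [Φ.smul_left, Φ.smul_right, h.s, mul_eq_zero, mul_eq_zero] at h3
        have h4 : a = 0 := by
          rcases h3 with h3 | h3 | h3
          · exact h3
          · exact pow_eq_zero_iff (r_ne_zero h) |>.1 h3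
          · exact absurd h3 hxx
        rw [h4, zero_smul]
      have h2 := Submodule.finrank_sup_add_finrank_inf_eq W (Submodule.span F {x})
      rw [h1, finrank_bot, finrank_span_singleton hx0, hWk] at h2
      omega

theorem exists_dec3 (h : IsHerm r Φ) {a b : ℕ} (hab : a + b ≤ finrank F V) : ∃ W D U : Submodule F V,
    Dec3 Φ W D U ∧ finrank F W = a ∧ finrank F D = b ∧ a + b + finrank F U = finrank F V := by
  obtain ⟨W, hW, hWa⟩ := exists_nd h (show a ≤ finrank F V by omega)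
  have hP := nd_perp h hW
  have hc := isCompl_perp h hW
  have hcf := Submodule.finrank_add_eq_of_isCompl hc
  have hH := IsHerm_on h hP
  obtain ⟨D, hD, hDb⟩ := exists_nd hH (show b ≤ finrank F (perp Φ W) by omega)
  have hQ := nd_perp hH hD
  have hc' := isCompl_perp hH hD
  have hcf' := Submodule.finrank_add_eq_of_isCompl hc'
  have hm : ∀ X : Submodule F (perp Φ W), finrank F (X.map (perp Φ W).subtype) = finrank F X := fun X =>
    Submodule.finrank_map_subtype_eq (perp Φ W) X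
  refine ⟨W, D.map (perp Φ W).subtype, (perp (Φ.on (perp Φ W)) D).map (perp Φ W).subtype, ⟨?_, ?_, ?_, ?_, hW, ?_, ?_⟩,
    hWa, by rw [hm, hDb], by rw [hm]; omega⟩
  · intro x
    have h1 : x ∈ W ⊔ perp Φ W := by rw [hc.sup_eq_top]; trivial
    obtain ⟨w, hw, u, hu, rfl⟩ := Submodule.mem_sup.1 h1
    have h2 : (⟨u, hu⟩ : perp Φ W) ∈ D ⊔ perp (Φ.on (perp Φ W)) D := by rw [hc'.sup_eq_top]; trivial
    obtain ⟨d, hd, u', hu', h3⟩ := Submodule.mem_sup.1 h2
    refine ⟨w, hw, d, ⟨d, hd, rfl⟩, u', ⟨u', hu', rfl⟩, ?_⟩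
    have h4 := congrArg Subtype.val h3
    have h5 : (d : V) + u' = u := h4
    rw [add_assoc, h5]
  · rintro x hx _ ⟨d, hd, rfl⟩
    exact Φ.refl _ _ (d.2 x hx)
  · rintro x hx _ ⟨d, hd, rfl⟩
    exact Φ.refl _ _ (d.2 x hx)
  · rintro _ ⟨d, hd, rfl⟩ _ ⟨u, hu, rfl⟩
    exact perp_orth (Φ := Φ.on (perp Φ W)) D d hd u hu
  · rintro _ ⟨d, hd, rfl⟩ hy
    exact congrArg Subtype.val (hD d hd fun y hyD => hy _ ⟨y, hyD, rfl⟩)
  · rintro _ ⟨d, hd, rfl⟩ hy
    exact congrArg Subtype.val (hQ d hd fun y hyD => hy _ ⟨y, hyD, rfl⟩)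

end

end Cfsg.Agent.H978.Bs
end

-- part: H978/Bs/SU
section
/-!
# S5733, BS22: the trick for `SU` (helper978)
-/

set_option autoImplicit false
set_option linter.unusedSectionVars false

namespace Cfsg.Agent.H978.Bs

open Cfsg.Agent.H847.Bs Module Subgroup
open Cfsg.Agent.H851.Dg (nd)

section mu

variable {F : Type*} [Field F] [Finite F] {r : ℕ}

/-- the roots of unity -/
def mu (F : Type*) [Field F] (r : ℕ) : Subgroup Fˣ := (powMonoidHom (r + 1) : Fˣ →* Fˣ).ker

theorem mem_mu {u : Fˣ} : u ∈ mu F r ↔ u ^ (r + 1) = 1 := Iff.rfl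

theorem card_mu (hF : Nat.card F = r ^ 2) (hr : 1 < r) : Nat.card (mu F r) = r + 1 := by
  unfold mu
  rw [IsCyclic.card_powMonoidHom_ker, Nat.card_units, hF]
  apply Nat.gcd_eq_right
  refine ⟨r - 1, ?_⟩
  obtain ⟨k, rfl⟩ : ∃ k, r = k + 1 := ⟨r - 1, by omega⟩
  rw [Nat.add_sub_cancel]
  have : (k + 1) ^ 2 = (k + 1 + 1) * k + 1 := by ring
  omega

end mu

section SU

variable {F V : Type} [Field F] [Finite F] [AddCommGroup V] [Module F V] [Module.Finite F V] {Φ : Frm F V} {r : ℕ}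

theorem fin_gl (F V : Type) [Field F] [Finite F] [AddCommGroup V] [Module F V] [Module.Finite F V] :
    Finite (V ≃ₗ[F] V) := by
  have : Finite V := Module.finite_of_finite F
  exact Finite.of_injective (fun e : V ≃ₗ[F] V => (e : V → V)) DFunLike.coe_injective

/-- the determinant of isometries -/
noncomputable def dt (h : IsHerm r Φ) : Φ.Iso →* mu F r :=
  (LinearEquiv.det.comp Φ.Iso.subtype).codRestrict (mu F r) (fun g => by
    rw [mem_mu]
    apply Units.ext
    rw [Units.val_pow_eq_pow_val, Units.val_one]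
    have h1 : (((LinearEquiv.det.comp Φ.Iso.subtype) g : Fˣ) : F) = LinearMap.det ((g : V ≃ₗ[F] V) : V →ₗ[F] V) :=
      LinearEquiv.coe_det _
    rw [h1]
    exact det_pow h g.2)

theorem dt_val (h : IsHerm r Φ) (g : Φ.Iso) : (((dt h g : mu F r) : Fˣ) : F) = LinearMap.det ((g : V ≃ₗ[F] V) : V →ₗ[F] V) :=
  LinearEquiv.coe_det _

/-- the isometries with determinant in `mu ^ 4` -/
def AA (r : ℕ) (Φ : Frm F V) : Set (V ≃ₗ[F] V) :=
  {a | a ∈ Φ.Iso ∧ ∃ l : F, l ^ (r + 1) = 1 ∧ LinearMap.det (a : V →ₗ[F] V) = l ^ 4}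

theorem card_AA (h : IsHerm r Φ) : Nat.card Φ.Iso ≤ 4 * Nat.card (AA r Φ) := by
  have hfin := fin_gl F V
  let R : Subgroup (mu F r) := (powMonoidHom 4 : mu F r →* mu F r).range
  have h1 : (R.comap (dt h)).index ∣ R.index := by
    rw [index_comap]
    exact relIndex_dvd_index_of_normal R _
  have h2 : R.index ∣ 4 := by
    rw [IsCyclic.index_powMonoidHom_range]
    exact Nat.gcd_dvd_right _ _
  have h3 := Nat.le_of_dvd (by norm_num) (h1.trans h2)
  rw [← card_mul_index (R.comap (dt h)), mul_comm]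
  refine Nat.mul_le_mul h3 ?_
  refine Nat.card_le_card_of_injective (fun x : ↥(R.comap (dt h)) => (⟨x.1.1, x.1.2, ?_⟩ : AA r Φ)) ?_
  · obtain ⟨l, hl⟩ := x.2
    refine ⟨((l : Fˣ) : F), ?_, ?_⟩
    · rw [← Units.val_pow_eq_pow_val, mem_mu.1 l.2, Units.val_one]
    · rw [← dt_val h, ← hl]
      rfl
  · intro x y hxy
    exact Subtype.ext (Subtype.ext (congrArg (fun a : AA r Φ => (a : V ≃ₗ[F] V)) hxy))

end SU

/-- BS06 (3) -/
def HAdj : Prop := ∀ (r : ℕ) (F V : Type) [Field F] [Finite F] [AddCommGroup V] [Module F V] [Module.Finite F V]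
  (Φ : Frm F V), IsHerm r Φ → ∀ d : ℕ, finrank F V = d → Odd d → 9 ≤ d → ∀ κ : F, κ ^ (r + 1) = 1 →
  Nat.card Φ.Iso ≤ 4 * d * (r + 1) * Nat.card {x : V ≃ₗ[F] V // x ∈ Φ.Bm ∧ LinearMap.det (x : V →ₗ[F] V) = κ}

/-- BS11 -/
def HCount : Prop := ∃ c : ℝ, 0 < c ∧ ∃ K₀ : ℕ, ∀ (r : ℕ) (F V : Type) [Field F] [Finite F] [AddCommGroup V]
  [Module F V] [Module.Finite F V] (Φ : Frm F V), IsHerm r Φ → ∀ n K : ℕ, K₀ ≤ K → finrank F V = n → 2 * K < n →
  c / (K + 1) * (Nat.card Φ.Iso : ℝ) ≤ Nat.card ↥(Φ.SS K n)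

/-- BS01 (4) -/
def HTrick : Prop := ∀ (G : Type) [Group G] [Finite G] (M K₀ : Subgroup G) (E : Set G) (c ε : ℝ), 0 < c → 0 < ε →
  K₀ ≤ M → E ⊆ M → (∀ y ∈ E, ∀ k ∈ K₀, y * k ∈ E) → (∀ g, ∀ x ∈ E, g * x * g⁻¹ ∈ E → g ∈ M) →
  (∀ y ∈ E, ∃ z, ∃ k ∈ K₀, (∀ l ∈ K₀, z * l = l * z) ∧ y = z * k) → c * (Nat.card M : ℝ) ≤ Nat.card E → RB ε K₀ →
  ∀ H : Subgroup G, 4 * (nd H : ℝ) < c * min 1 ε * Nat.card G → ∃ g : G, ∀ k ∈ K₀, g * k * g⁻¹ ∈ H

/-- BS40 -/
def HBase : Prop := ∃ ε : ℝ, 0 < ε ∧ ∀ (r : ℕ) (F V : Type) [Field F] [Finite F] [AddCommGroup V] [Module F V]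
  [Module.Finite F V] (Φ : Frm F V), IsHerm r Φ → finrank F V = 4 → RB ε ↥(Φ.Iso ⊓ slV F V)

theorem RB_congr {c : ℝ} {G G' : Type*} [Group G] [Group G'] (e : G ≃* G') (h : RB c G) : RB c G' := by
  intro K hK
  have h1 : K.comap e.toMonoidHom ≠ ⊤ := by
    intro h2
    apply hK
    rw [eq_top_iff]
    intro x _
    have h3 : e.symm x ∈ K.comap e.toMonoidHom := by rw [h2]; trivial
    have h4 : e (e.symm x) ∈ K := h3
    rwa [e.apply_symm_apply] at h4
  have h2 := h _ h1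
  rw [Nat.card_congr e.toEquiv] at h2
  refine h2.trans (le_of_eq ?_)
  congr 1
  unfold nd
  refine Nat.card_congr (e.toEquiv.subtypeEquiv fun x => ?_)
  constructor
  · intro h3 g hg
    apply h3 (e.symm g)
    show e (e.symm g * x * (e.symm g)⁻¹) ∈ K
    rw [map_mul, map_mul, map_inv, e.apply_symm_apply]
    exact hg
  · intro h3 g hg
    apply h3 (e g)
    have h4 : e (g * x * g⁻¹) ∈ K := hg
    rwa [map_mul, map_mul, map_inv] at h4

section SU

variable {F V : Type} [Field F] [Finite F] [AddCommGroup V] [Module F V] [Module.Finite F V] {Φ : Frm F V} {r : ℕ}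

theorem dt_surj (hadj : HAdj) (h : IsHerm r Φ) {d : ℕ} (hd : finrank F V = d) (ho : Odd d) (h9 : 9 ≤ d) :
    Function.Surjective (dt h) := by
  intro κ
  have hκ : ((κ : Fˣ) : F) ^ (r + 1) = 1 := by
    rw [← Units.val_pow_eq_pow_val, mem_mu.1 κ.2, Units.val_one]
  have hfin := fin_gl F V
  have h1 := hadj r F V Φ h d hd ho h9 ((κ : Fˣ) : F) hκ
  have h2 : 0 < Nat.card Φ.Iso := Nat.card_pos
  have h3 : Nat.card {x : V ≃ₗ[F] V // x ∈ Φ.Bm ∧ LinearMap.det (x : V →ₗ[F] V) = ((κ : Fˣ) : F)} ≠ 0 := by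
    intro h4
    rw [h4, mul_zero] at h1
    omega
  obtain ⟨⟨x, hx, hdx⟩⟩ := (Nat.card_ne_zero.1 h3).1
  refine ⟨⟨x, hx.1⟩, ?_⟩
  apply Subtype.ext
  apply Units.ext
  rw [dt_val]
  exact hdx

variable {W D U : Submodule F V} (H : Dec3 Φ W D U)

theorem dt_prod (hW : IsHerm r (Φ.on W)) (hD : IsHerm r (Φ.on D)) (hU : IsHerm r (Φ.on U)) (a : (Φ.on W).Iso)
    (b : (Φ.on D).Iso) (v : (Φ.on U).Iso) : (((dt hW a * (dt hD b * dt hU v) : mu F r) : Fˣ) : F) =
      LinearMap.det ((a : W ≃ₗ[F] W) : W →ₗ[F] W) * (LinearMap.det ((b : D ≃ₗ[F] D) : D →ₗ[F] D) *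
        LinearMap.det ((v : U ≃ₗ[F] U) : U →ₗ[F] U)) := by
  rw [← dt_val hW, ← dt_val hD, ← dt_val hU]
  rfl

/-- the triples in `SU` -/
noncomputable def PS : Subgroup ((W ≃ₗ[F] W) × (D ≃ₗ[F] D) × (U ≃ₗ[F] U)) := (Φ.Iso ⊓ slV F V).comap H.Θ

theorem mem_PS {p : (W ≃ₗ[F] W) × (D ≃ₗ[F] D) × (U ≃ₗ[F] U)} : p ∈ PS H ↔ (p.1 ∈ (Φ.on W).Iso ∧
    p.2.1 ∈ (Φ.on D).Iso ∧ p.2.2 ∈ (Φ.on U).Iso) ∧ LinearMap.det (p.1 : W →ₗ[F] W) *
      (LinearMap.det (p.2.1 : D →ₗ[F] D) * LinearMap.det (p.2.2 : U →ₗ[F] U)) = 1 := by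
  rw [← H.Θ_mem, ← H.Θ_det]
  exact Iff.rfl

theorem mem_PS_of {p : (W ≃ₗ[F] W) × (D ≃ₗ[F] D) × (U ≃ₗ[F] U)} {g : V ≃ₗ[F] V} (hg : g ∈ Φ.Iso ⊓ slV F V)
    (hp : H.Θ p = g) : p ∈ PS H := by
  show H.Θ p ∈ Φ.Iso ⊓ slV F V
  rw [hp]
  exact hg

/-- into `SU` -/
noncomputable def ps : PS H →* ↥(Φ.Iso ⊓ slV F V) where
  toFun p := ⟨H.Θ p, p.2⟩
  map_one' := Subtype.ext (map_one H.Θ)
  map_mul' p p' := Subtype.ext (map_mul H.Θ p.1 p'.1)

theorem ps_inj : Function.Injective (ps H) := by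
  intro p p' h
  exact Subtype.ext (H.Θ_inj (congrArg Subtype.val h))

/-- `SU(W)` -/
noncomputable def kk : ↥((Φ.on W).Iso ⊓ slV F W) →* ↥(Φ.Iso ⊓ slV F V) where
  toFun a := ⟨H.Θ (a.1, 1, 1), (mem_PS H).2 ⟨⟨a.2.1, one_mem _, one_mem _⟩, by
    have h1 : LinearMap.det ((a.1 : W ≃ₗ[F] W) : W →ₗ[F] W) = 1 := a.2.2
    show LinearMap.det ((a.1 : W ≃ₗ[F] W) : W →ₗ[F] W) *
      (LinearMap.det (LinearMap.id : D →ₗ[F] D) * LinearMap.det (LinearMap.id : U →ₗ[F] U)) = 1
    rw [h1, LinearMap.det_id, LinearMap.det_id, one_mul, one_mul]⟩⟩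
  map_one' := Subtype.ext (map_one H.Θ)
  map_mul' a a' := by
    apply Subtype.ext
    show H.Θ (a.1 * a'.1, 1, 1) = H.Θ (a.1, 1, 1) * H.Θ (a'.1, 1, 1)
    rw [← map_mul, Prod.mk_mul_mk, Prod.mk_mul_mk, one_mul, one_mul]

theorem kk_inj : Function.Injective (kk H) := by
  intro a a' h
  have h1 := H.Θ_inj (congrArg Subtype.val h)
  exact Subtype.ext (congrArg Prod.fst h1)

/-- the elements of the trick -/
def EE (r K n : ℕ) : Set ↥(Φ.Iso ⊓ slV F V) :=
  {g | ∃ p, H.Θ p = (g : V ≃ₗ[F] V) ∧ p.1 ∈ AA r (Φ.on W) ∧ p.2.1 ∈ (Φ.on D).Bm ∧ p.2.2 ∈ (Φ.on U).SS K n}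

theorem card_M (h : IsHerm r Φ) (hadj : HAdj) (hd : finrank F D = 9) :
    (r + 1) * Nat.card (ps H).range ≤ Nat.card (Φ.on W).Iso * (Nat.card (Φ.on D).Iso * Nat.card (Φ.on U).Iso) := by
  have hW := IsHerm_on h H.nw
  have hD := IsHerm_on h H.nd
  have hU := IsHerm_on h H.nu
  have f1 := fin_gl F W
  have f2 := fin_gl F D
  have f3 := fin_gl F U
  let δ : (Φ.on W).Iso × (Φ.on D).Iso × (Φ.on U).Iso →* mu F r :=
    (dt hW).coprod ((dt hD).coprod (dt hU))
  have hδ : Function.Surjective δ := by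
    intro κ
    obtain ⟨x, hx⟩ := dt_surj hadj hD hd (by decide) le_rfl κ
    refine ⟨(1, x, 1), ?_⟩
    show dt hW 1 * (dt hD x * dt hU 1) = κ
    rw [map_one, map_one, one_mul, mul_one, hx]
  have h1 : Nat.card ((Φ.on W).Iso × (Φ.on D).Iso × (Φ.on U).Iso) = (r + 1) * Nat.card δ.ker := by
    rw [card_eq_card_quotient_mul_card_subgroup δ.ker,
      Nat.card_congr (QuotientGroup.quotientKerEquivOfSurjective δ hδ).toEquiv, card_mu h.card (r_gt h)]
  rw [Nat.card_prod, Nat.card_prod] at h1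
  rw [h1]
  refine Nat.mul_le_mul_left _ ?_
  rw [Nat.card_congr (MonoidHom.ofInjective (ps_inj H)).symm.toEquiv]
  refine Nat.card_le_card_of_injective (fun p : PS H => (⟨(⟨p.1.1, ((mem_PS H).1 p.2).1.1⟩,
    ⟨p.1.2.1, ((mem_PS H).1 p.2).1.2.1⟩, ⟨p.1.2.2, ((mem_PS H).1 p.2).1.2.2⟩), ?_⟩ : δ.ker)) ?_
  · rw [MonoidHom.mem_ker]
    apply Subtype.ext
    apply Units.ext
    exact (dt_prod hW hD hU ⟨p.1.1, ((mem_PS H).1 p.2).1.1⟩ ⟨p.1.2.1, ((mem_PS H).1 p.2).1.2.1⟩
      ⟨p.1.2.2, ((mem_PS H).1 p.2).1.2.2⟩).trans ((mem_PS H).1 p.2).2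
  · intro p p' hpp
    have h2 := congrArg (fun q : δ.ker => q.1) hpp
    refine Subtype.ext (Prod.ext ?_ (Prod.ext ?_ ?_))
    · exact congrArg (fun q : (Φ.on W).Iso × (Φ.on D).Iso × (Φ.on U).Iso => (q.1 : W ≃ₗ[F] W)) h2
    · exact congrArg (fun q : (Φ.on W).Iso × (Φ.on D).Iso × (Φ.on U).Iso => (q.2.1 : D ≃ₗ[F] D)) h2
    · exact congrArg (fun q : (Φ.on W).Iso × (Φ.on D).Iso × (Φ.on U).Iso => (q.2.2 : U ≃ₗ[F] U)) h2

theorem card_E (h : IsHerm r Φ) (hadj : HAdj) (hd : finrank F D = 9) (K n : ℕ) :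
    Nat.card (AA r (Φ.on W)) * Nat.card ↥((Φ.on U).SS K n) * Nat.card (Φ.on D).Iso ≤
      36 * (r + 1) * Nat.card (EE H r K n) := by
  have hW := IsHerm_on h H.nw
  have hD := IsHerm_on h H.nd
  have hU := IsHerm_on h H.nu
  have f1 := fin_gl F W
  have f2 := fin_gl F D
  have f3 := fin_gl F U
  have f4 := fin_gl F V
  let κ : AA r (Φ.on W) × ↥((Φ.on U).SS K n) → F := fun q =>
    (LinearMap.det ((q.1 : W ≃ₗ[F] W) : W →ₗ[F] W) * LinearMap.det ((q.2 : U ≃ₗ[F] U) : U →ₗ[F] U))⁻¹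
  have hκ : ∀ q, κ q ^ (r + 1) = 1 := by
    intro q
    show (_)⁻¹ ^ (r + 1) = 1
    rw [inv_pow, mul_pow, det_pow hW q.1.2.1, det_pow hU q.2.2.1, one_mul, inv_one]
  have hfib : ∀ q, Nat.card (Φ.on D).Iso ≤ 36 * (r + 1) *
      Nat.card {x : D ≃ₗ[F] D // x ∈ (Φ.on D).Bm ∧ LinearMap.det (x : D →ₗ[F] D) = κ q} := fun q =>
    hadj r F D (Φ.on D) hD 9 hd (by decide) le_rfl (κ q) (hκ q)
  have hft : Finite (AA r (Φ.on W) × ↥((Φ.on U).SS K n)) := inferInstance
  let _ : Fintype (AA r (Φ.on W) × ↥((Φ.on U).SS K n)) := Fintype.ofFinite _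
  have h1 : Nat.card (Σ q : AA r (Φ.on W) × ↥((Φ.on U).SS K n),
      {x : D ≃ₗ[F] D // x ∈ (Φ.on D).Bm ∧ LinearMap.det (x : D →ₗ[F] D) = κ q}) ≤ Nat.card (EE H r K n) := by
    refine Nat.card_le_card_of_injective (fun s => ⟨⟨H.Θ (s.1.1, s.2.1, s.1.2), (mem_PS H).2
      ⟨⟨s.1.1.2.1, s.2.2.1.1, s.1.2.2.1⟩, ?_⟩⟩, _, rfl, s.1.1.2, s.2.2.1, s.1.2.2⟩) ?_
    · show LinearMap.det ((s.1.1 : W ≃ₗ[F] W) : W →ₗ[F] W) * (LinearMap.det (s.2.1 : D →ₗ[F] D) *
        LinearMap.det ((s.1.2 : U ≃ₗ[F] U) : U →ₗ[F] U)) = 1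
      rw [s.2.2.2]
      have e1 : LinearMap.det ((s.1.1 : W ≃ₗ[F] W) : W →ₗ[F] W) * LinearMap.det ((s.1.2 : U ≃ₗ[F] U) : U →ₗ[F] U) ≠ 0 := by
        refine mul_ne_zero ?_ ?_
        · exact (LinearEquiv.isUnit_det' _).ne_zero
        · exact (LinearEquiv.isUnit_det' _).ne_zero
      show _ * ((_)⁻¹ * _) = 1
      rw [mul_comm (_)⁻¹, ← mul_assoc]
      exact mul_inv_cancel₀ e1
    · rintro ⟨⟨a, v⟩, x⟩ ⟨⟨a', v'⟩, x'⟩ hss
      have h2 := congrArg (fun g : EE H r K n => ((g : ↥(Φ.Iso ⊓ slV F V)) : V ≃ₗ[F] V)) hss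
      have h3 := H.Θ_inj h2
      have e1 : a = a' := Subtype.ext (congrArg Prod.fst h3)
      have e2 : v = v' := Subtype.ext (congrArg (fun q : (W ≃ₗ[F] W) × (D ≃ₗ[F] D) × (U ≃ₗ[F] U) => q.2.2) h3)
      have e3 : x.1 = x'.1 := congrArg (fun q : (W ≃ₗ[F] W) × (D ≃ₗ[F] D) × (U ≃ₗ[F] U) => q.2.1) h3
      subst e1
      subst e2
      congr 1
      exact Subtype.ext e3
  rw [Nat.card_sigma] at h1
  calc Nat.card (AA r (Φ.on W)) * Nat.card ↥((Φ.on U).SS K n) * Nat.card (Φ.on D).Iso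
      = ∑ _q : AA r (Φ.on W) × ↥((Φ.on U).SS K n), Nat.card (Φ.on D).Iso := by
        rw [Finset.sum_const, Finset.card_univ, ← Nat.card_eq_fintype_card, Nat.card_prod, smul_eq_mul]
    _ ≤ ∑ q : AA r (Φ.on W) × ↥((Φ.on U).SS K n), 36 * (r + 1) *
        Nat.card {x : D ≃ₗ[F] D // x ∈ (Φ.on D).Bm ∧ LinearMap.det (x : D →ₗ[F] D) = κ q} :=
        Finset.sum_le_sum fun q _ => hfib q
    _ = 36 * (r + 1) * ∑ q : AA r (Φ.on W) × ↥((Φ.on U).SS K n),
        Nat.card {x : D ≃ₗ[F] D // x ∈ (Φ.on D).Bm ∧ LinearMap.det (x : D →ₗ[F] D) = κ q} := by rw [Finset.mul_sum]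
    _ ≤ _ := Nat.mul_le_mul_left _ h1

theorem scal_mem (h : IsHerm r Φ) {l : F} (hl : l ^ (r + 1) = 1) (hl0 : l ≠ 0) :
    LinearEquiv.smulOfNeZero F V l hl0 ∈ Φ.Iso := by
  refine ⟨fun x y => ?_, fun x => ?_⟩
  · show Φ.B (l • x) (l • y) = Φ.B x y
    rw [Φ.smul_left, Φ.smul_right, h.s, ← mul_assoc, ← pow_succ', hl, one_mul]
  · rw [h.q, h.q]

theorem scal_comm {l : F} (hl0 : l ≠ 0) (a : V ≃ₗ[F] V) :
    LinearEquiv.smulOfNeZero F V l hl0 * a = a * LinearEquiv.smulOfNeZero F V l hl0 := by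
  ext x
  show l • a x = a (l • x)
  rw [map_smul]

theorem scal_det {l : F} (hl0 : l ≠ 0) :
    LinearMap.det (LinearEquiv.smulOfNeZero F V l hl0 : V →ₗ[F] V) = l ^ finrank F V := by
  have h : (LinearEquiv.smulOfNeZero F V l hl0 : V →ₗ[F] V) = l • LinearMap.id := rfl
  rw [h, LinearMap.det_smul, LinearMap.det_id, mul_one]

end SU

theorem ndV_eq {F V : Type} [Field F] [AddCommGroup V] [Module F V] {G H : Subgroup (V ≃ₗ[F] V)} :
    ndV G H = nd (H.subgroupOf G) := by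
  unfold ndV nd
  refine Nat.card_congr
    { toFun := fun x => ⟨⟨x.1, x.2.1⟩, fun g hg => x.2.2 g.1 g.2 hg⟩
      invFun := fun x => ⟨x.1.1, x.1.2, fun g hg hgx => x.2 ⟨g, hg⟩ hgx⟩
      left_inv := fun x => rfl
      right_inv := fun x => rfl }

/-- **BS22** -/
theorem trick_su (hbase : HBase) (hcount : HCount) (hadj : HAdj) (htrick : HTrick) : ∃ c : ℝ, 0 < c ∧ ∃ n₀ : ℕ,
    ∀ (r : ℕ) (F V : Type) [Field F] [Finite F] [AddCommGroup V] [Module F V] [Module.Finite F V] (Φ : Frm F V),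
    IsHerm r Φ → n₀ ≤ finrank F V → ∀ H ≤ Φ.Iso ⊓ slV F V,
    (ndV (Φ.Iso ⊓ slV F V) H : ℝ) < c * Nat.card ↥(Φ.Iso ⊓ slV F V) →
    ∃ W U : Submodule F V, Φ.Dec W U ∧ finrank F W = 4 ∧ HasOn (Φ.Iso ⊓ slV F V) H W U := by
  obtain ⟨ε, hε, hRB⟩ := hbase
  obtain ⟨c₁, hc₁, K₀, hcnt⟩ := hcount
  obtain ⟨K, hK⟩ : ∃ K, K = max K₀ 9 := ⟨_, rfl⟩
  have hK0 : K₀ ≤ K := hK ▸ le_max_left _ _
  have hK9 : 9 ≤ K := hK ▸ le_max_right _ _
  have hKp : (0 : ℝ) < (K : ℝ) + 1 := by positivity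
  let c : ℝ := c₁ / (K + 1) / 144
  have hc : 0 < c := by positivity
  have hm : 0 < min 1 ε := lt_min one_pos hε
  refine ⟨c * min 1 ε / 4, by positivity, 14 + 2 * K, ?_⟩
  intro r F V _ _ _ _ _ Φ h hn H hH hnd
  obtain ⟨W, D, U, HD, hW4, hD9, hUn⟩ := exists_dec3 h (a := 4) (b := 9) (by omega)
  have f4 := fin_gl F V
  have hrW := IsHerm_on h HD.nw
  have hrD := IsHerm_on h HD.nd
  have hrU := IsHerm_on h HD.nu
  obtain ⟨n, hn'⟩ : ∃ n, finrank F U = n := ⟨_, rfl⟩
  have hbig : ∀ p, p.2.1 ∈ (Φ.on D).Bm → p.2.2 ∈ (Φ.on U).SS K n → Big HD K p := fun p h1 h2 =>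
    ⟨h1.2, h2.2.1, by omega, by omega⟩
  have hbaseW : RB ε (kk HD).range := RB_congr (MonoidHom.ofInjective (kk_inj HD)) (hRB r F W (Φ.on W) hrW hW4)
  have hkM : (kk HD).range ≤ (ps HD).range := by
    rintro _ ⟨a, rfl⟩
    exact ⟨⟨(a.1, 1, 1), (kk HD a).2⟩, rfl⟩
  have hEM : EE HD r K n ⊆ (ps HD).range := by
    rintro g ⟨p, hp, -⟩
    exact ⟨⟨p, mem_PS_of HD g.2 hp⟩, Subtype.ext hp⟩
  have hEK : ∀ y ∈ EE HD r K n, ∀ k ∈ (kk HD).range, y * k ∈ EE HD r K n := by
    rintro y ⟨p, hp, ⟨h1, l, h2, h3⟩, h4, h5⟩ _ ⟨a, rfl⟩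
    refine ⟨p * (a.1, 1, 1), ?_, ⟨(mul_mem h1 a.2.1 :), l, h2, ?_⟩, ?_, ?_⟩
    · rw [map_mul, hp]
      rfl
    · have h6 : LinearMap.det ((a.1 : W ≃ₗ[F] W) : W →ₗ[F] W) = 1 := a.2.2
      show LinearMap.det ((p.1 : W →ₗ[F] W) ∘ₗ ((a.1 : W ≃ₗ[F] W) : W →ₗ[F] W)) = l ^ 4
      rw [LinearMap.det_comp, h3, h6, mul_one]
    · show p.2.1 * 1 ∈ _
      rw [mul_one]
      exact h4
    · show p.2.2 * 1 ∈ _
      rw [mul_one]
      exact h5
  have hTI : ∀ g, ∀ x ∈ EE HD r K n, g * x * g⁻¹ ∈ EE HD r K n → g ∈ (ps HD).range := by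
    rintro g x ⟨p, hp, -, h1, h2⟩ ⟨p', hp', -, h3, h4⟩
    obtain ⟨i1, i2, i3⟩ := (hbig p h1 h2).ti (hbig p' h3 h4) g.2.1 (by rw [hp, hp']; rfl)
    obtain ⟨q, hq⟩ := HD.exists_Θ i1 i2 i3
    exact ⟨⟨q, mem_PS_of HD g.2 hq⟩, Subtype.ext hq⟩
  have hz : ∀ y ∈ EE HD r K n, ∃ z, ∃ k ∈ (kk HD).range, (∀ l ∈ (kk HD).range, z * l = l * z) ∧ y = z * k := by
    rintro y ⟨p, hp, ⟨h1, l, h2, h3⟩, h4, h5⟩
    have hl0 : l ≠ 0 := by
      rintro rfl
      rw [zero_pow (Nat.succ_ne_zero r)] at h2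
      exact zero_ne_one h2
    obtain ⟨s, hs⟩ : ∃ s, s = LinearEquiv.smulOfNeZero F W l hl0 := ⟨_, rfl⟩
    have hsI : s ∈ (Φ.on W).Iso := hs ▸ scal_mem hrW h2 hl0
    have hsd : LinearMap.det (s : W →ₗ[F] W) = l ^ 4 := by rw [hs, scal_det, hW4]
    have hpm : p ∈ PS HD := mem_PS_of HD y.2 hp
    have hpm' := (mem_PS HD).1 hpm
    have hz : (s, p.2.1, p.2.2) ∈ PS HD := by
      refine (mem_PS HD).2 ⟨⟨hsI, hpm'.1.2⟩, ?_⟩
      show LinearMap.det (s : W →ₗ[F] W) * _ = 1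
      rw [hsd, ← h3]
      exact hpm'.2
    have hk : s⁻¹ * p.1 ∈ (Φ.on W).Iso ⊓ slV F W := by
      refine Subgroup.mem_inf.2 ⟨(Φ.on W).Iso.mul_mem ((Φ.on W).Iso.inv_mem hsI) h1, ?_⟩
      have e1 : s * (s⁻¹ * p.1) = p.1 := by rw [mul_inv_cancel_left]
      have e2 : LinearMap.det ((s : W →ₗ[F] W) ∘ₗ ((s⁻¹ * p.1 : W ≃ₗ[F] W) : W →ₗ[F] W)) = l ^ 4 := by
        rw [← h3]
        conv_rhs => rw [← e1]
        rfl
      rw [LinearMap.det_comp, hsd] at e2
      exact mul_left_cancel₀ (pow_ne_zero 4 hl0) (by rw [e2, mul_one])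
    refine ⟨⟨HD.Θ (s, p.2.1, p.2.2), hz⟩, kk HD ⟨_, hk⟩, ⟨_, rfl⟩, ?_, ?_⟩
    · rintro _ ⟨a, rfl⟩
      apply Subtype.ext
      show HD.Θ (s, p.2.1, p.2.2) * HD.Θ (a.1, 1, 1) = HD.Θ (a.1, 1, 1) * HD.Θ (s, p.2.1, p.2.2)
      rw [← map_mul, ← map_mul, Prod.mk_mul_mk, Prod.mk_mul_mk, Prod.mk_mul_mk, Prod.mk_mul_mk, one_mul, one_mul, mul_one,
        mul_one, hs, scal_comm]
    · apply Subtype.ext
      show (y : V ≃ₗ[F] V) = HD.Θ (s, p.2.1, p.2.2) * HD.Θ (s⁻¹ * p.1, 1, 1)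
      rw [← map_mul, Prod.mk_mul_mk, Prod.mk_mul_mk, mul_inv_cancel_left, mul_one, mul_one, ← hp]
  have hcard : c * (Nat.card (ps HD).range : ℝ) ≤ Nat.card (EE HD r K n) := by
    have i1 : ((r : ℝ) + 1) * (Nat.card (ps HD).range : ℝ) ≤
        (Nat.card (Φ.on W).Iso : ℝ) * ((Nat.card (Φ.on D).Iso : ℝ) * (Nat.card (Φ.on U).Iso : ℝ)) := by
      exact_mod_cast card_M HD h hadj hD9
    have i2 : (Nat.card (AA r (Φ.on W)) : ℝ) * (Nat.card ↥((Φ.on U).SS K n) : ℝ) * (Nat.card (Φ.on D).Iso : ℝ) ≤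
        36 * ((r : ℝ) + 1) * (Nat.card (EE HD r K n) : ℝ) := by
      exact_mod_cast card_E HD h hadj hD9 K n
    have i3 : (Nat.card (Φ.on W).Iso : ℝ) ≤ 4 * (Nat.card (AA r (Φ.on W)) : ℝ) := by
      exact_mod_cast card_AA hrW
    have i4 : c₁ / ((K : ℝ) + 1) * (Nat.card (Φ.on U).Iso : ℝ) ≤ (Nat.card ↥((Φ.on U).SS K n) : ℝ) :=
      hcnt r F U (Φ.on U) hrU n K hK0 hn' (by omega)
    have hr0 : (0 : ℝ) < (r : ℝ) + 1 := by (clear * -; positivity)
    have hq : 0 < c₁ / ((K : ℝ) + 1) := by positivity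
    have hce : c = c₁ / ((K : ℝ) + 1) / 144 := rfl
    rw [hce]
    generalize hqe : c₁ / ((K : ℝ) + 1) = q at *
    have j1 : q * (((r : ℝ) + 1) * (Nat.card (ps HD).range : ℝ)) ≤
        144 * ((r : ℝ) + 1) * (Nat.card (EE HD r K n) : ℝ) := by
      calc q * (((r : ℝ) + 1) * (Nat.card (ps HD).range : ℝ))
          ≤ q * ((Nat.card (Φ.on W).Iso : ℝ) * ((Nat.card (Φ.on D).Iso : ℝ) * (Nat.card (Φ.on U).Iso : ℝ))) :=
            mul_le_mul_of_nonneg_left i1 hq.le
        _ = (Nat.card (Φ.on W).Iso : ℝ) * (Nat.card (Φ.on D).Iso : ℝ) * (q * (Nat.card (Φ.on U).Iso : ℝ)) := by ring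
        _ ≤ (4 * (Nat.card (AA r (Φ.on W)) : ℝ)) * (Nat.card (Φ.on D).Iso : ℝ) * (Nat.card ↥((Φ.on U).SS K n) : ℝ) := by
            gcongr
        _ = 4 * ((Nat.card (AA r (Φ.on W)) : ℝ) * (Nat.card ↥((Φ.on U).SS K n) : ℝ) * (Nat.card (Φ.on D).Iso : ℝ)) := by
            ring
        _ ≤ 4 * (36 * ((r : ℝ) + 1) * (Nat.card (EE HD r K n) : ℝ)) := by gcongr
        _ = _ := by ring
    have j2 : ((r : ℝ) + 1) * (q / 144 * (Nat.card (ps HD).range : ℝ)) ≤ ((r : ℝ) + 1) * (Nat.card (EE HD r K n) : ℝ) := by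
      have j3 : ((r : ℝ) + 1) * (q / 144 * (Nat.card (ps HD).range : ℝ)) =
          (q * (((r : ℝ) + 1) * (Nat.card (ps HD).range : ℝ))) / 144 := by ring
      rw [j3, div_le_iff₀ (by norm_num)]
      calc _ ≤ _ := j1
        _ = _ := by ring
    exact le_of_mul_le_mul_left j2 hr0
  have hH4 : 4 * (nd (H.subgroupOf (Φ.Iso ⊓ slV F V)) : ℝ) < c * min 1 ε * Nat.card ↥(Φ.Iso ⊓ slV F V) := by
    rw [ndV_eq] at hnd
    linarith only [hnd]
  obtain ⟨g, hg⟩ := htrick ↥(Φ.Iso ⊓ slV F V) (ps HD).range (kk HD).range (EE HD r K n) c ε hc hε hkM hEM hEK hTI hz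
    hcard hbaseW (H.subgroupOf (Φ.Iso ⊓ slV F V)) hH4
  refine ⟨W.map ((g : V ≃ₗ[F] V) : V →ₗ[F] V), (D ⊔ U).map ((g : V ≃ₗ[F] V) : V →ₗ[F] V), ⟨⟨?_, ?_⟩, ?_⟩,
    (LinearEquiv.finrank_map_eq (g : V ≃ₗ[F] V) W).trans hW4, ?_⟩
  · rw [Submodule.disjoint_def]
    rintro _ ⟨w, hw, rfl⟩ ⟨v, hv, hvw⟩
    have h1 : v = w := (g : V ≃ₗ[F] V).injective hvw
    obtain ⟨d, hd, u, hu, h2⟩ := Submodule.mem_sup.1 hv
    have h3 : w + (-d) + (-u) = 0 := by rw [← h1, ← h2]; abel
    have h4 := (HD.indep hw (Submodule.neg_mem D hd) (Submodule.neg_mem U hu) h3).1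
    rw [h4, map_zero]
  · rw [codisjoint_iff, eq_top_iff]
    intro x _
    obtain ⟨w, d, u, h1⟩ := HD.exists_sum ((g : V ≃ₗ[F] V).symm x)
    have h2 : x = (g : V ≃ₗ[F] V) w + (g : V ≃ₗ[F] V) (d + u) := by
      rw [← map_add, ← h1, LinearEquiv.apply_symm_apply]
    rw [h2]
    exact Submodule.add_mem_sup ⟨w, w.2, rfl⟩ ⟨_, Submodule.add_mem_sup d.2 u.2, rfl⟩
  · rintro _ ⟨w, hw, rfl⟩ _ ⟨v, hv, rfl⟩
    obtain ⟨d, hd, u, hu, rfl⟩ := Submodule.mem_sup.1 hv
    have h1 := g.2.1.1 w (d + u)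
    have h2 : Φ.B w (d + u) = 0 := by rw [Φ.add_right, HD.wd w hw d hd, HD.wu w hw u hu, add_zero]
    rw [h2] at h1
    exact h1
  · intro x hx hxW hxU
    have hk : (⟨(g : V ≃ₗ[F] V)⁻¹ * x * (g : V ≃ₗ[F] V), mul_mem (mul_mem (inv_mem g.2) hx) g.2⟩ :
        ↥(Φ.Iso ⊓ slV F V)) ∈ (kk HD).range := by
      have e1 : ∀ v : V, ((g : V ≃ₗ[F] V)⁻¹ * x * (g : V ≃ₗ[F] V)) v = (g : V ≃ₗ[F] V).symm (x ((g : V ≃ₗ[F] V) v)) :=
        fun v => rfl
      have e2 : ∀ v ∈ D ⊔ U, ((g : V ≃ₗ[F] V)⁻¹ * x * (g : V ≃ₗ[F] V)) v = v := by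
        intro v hv
        have h1 : x ((g : V ≃ₗ[F] V) v) = (g : V ≃ₗ[F] V) v := hxU _ ⟨v, hv, rfl⟩
        rw [e1, h1, LinearEquiv.symm_apply_apply]
      have e3 : _root_.Cfsg.Agent.H847.Bs.Inv ((g : V ≃ₗ[F] V)⁻¹ * x * (g : V ≃ₗ[F] V)) W := by
        intro w hw
        obtain ⟨w', hw', h1⟩ := hxW _ ⟨w, hw, rfl⟩
        have h2 : x ((g : V ≃ₗ[F] V) w) = (g : V ≃ₗ[F] V) w' := h1.symm
        rw [e1, h2, LinearEquiv.symm_apply_apply]
        exact hw'
      obtain ⟨p, hp⟩ := HD.exists_Θ e3 (fun v hv => by rw [e2 v (Submodule.mem_sup_left hv)]; exact hv)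
        (fun v hv => by rw [e2 v (Submodule.mem_sup_right hv)]; exact hv)
      have e4 : p.2.1 = 1 := by
        ext v
        rw [← HD.Θ_D p v, hp, e2 v (Submodule.mem_sup_left v.2)]
        rfl
      have e5 : p.2.2 = 1 := by
        ext v
        rw [← HD.Θ_U p v, hp, e2 v (Submodule.mem_sup_right v.2)]
        rfl
      have e6 : p ∈ PS HD := mem_PS_of HD (mul_mem (mul_mem (inv_mem g.2) hx) g.2) hp
      have e7 := (mem_PS HD).1 e6
      refine ⟨⟨p.1, e7.1.1, ?_⟩, ?_⟩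
      · have e8 := e7.2
        rw [e4, e5] at e8
        have e9 : LinearMap.det ((1 : D ≃ₗ[F] D) : D →ₗ[F] D) = 1 := LinearMap.det_id
        have e10 : LinearMap.det ((1 : U ≃ₗ[F] U) : U →ₗ[F] U) = 1 := LinearMap.det_id
        rw [e9, e10, mul_one, mul_one] at e8
        exact e8
      · apply Subtype.ext
        have e11 : (p.1, (1 : D ≃ₗ[F] D), (1 : U ≃ₗ[F] U)) = p := Prod.ext rfl (Prod.ext e4.symm e5.symm)
        exact (congrArg HD.Θ e11).trans hp
    have h1 := hg _ hk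
    have h2 : (g : V ≃ₗ[F] V) * ((g : V ≃ₗ[F] V)⁻¹ * x * (g : V ≃ₗ[F] V)) * (g : V ≃ₗ[F] V)⁻¹ ∈ H := h1
    have h3 : (g : V ≃ₗ[F] V) * ((g : V ≃ₗ[F] V)⁻¹ * x * (g : V ≃ₗ[F] V)) * (g : V ≃ₗ[F] V)⁻¹ = x := by group
    rwa [h3] at h2

theorem htrick : HTrick := fun _ _ _ _ _ _ _ _ hc hε hKM hEM hEK hTI hz hcard hRB H hH =>
  Cfsg.Agent.H358.Bs.trick hc hε hKM hEM hEK hTI hz hcard hRB H hH

/-- **BS22**, in the form of `H847.Bs.S22`; the only other hypotheses are the count `S11` and BS06 (3). -/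
theorem s22 (h11 : S11) (hadj : HAdj) : S22 := by
  intro h40
  have hbase : HBase := by
    obtain ⟨ε, hε, h⟩ := h40
    exact ⟨ε, hε, fun r F V _ _ _ _ _ Φ hΦ hd => h F V r Φ hΦ hd⟩
  have hcount : HCount := by
    obtain ⟨c, hc, K₀, h⟩ := h11
    exact ⟨c, hc, K₀, fun r F V _ _ _ _ _ Φ hΦ n K hK hn hKn => h F V r Φ n K hΦ hK hn hKn⟩
  obtain ⟨c, hc, n₀, h⟩ := trick_su hbase hcount hadj htrick
  exact ⟨c, hc, n₀, fun F V _ _ _ _ _ r Φ hΦ hn H hH hlt => h r F V Φ hΦ hn H hH hlt⟩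

end Cfsg.Agent.H978.Bs
end

-- part: H881/Bs/ConjPlus
section
/-!
# S5733: counting of conjugates of split elements `(t, s t)` on `L × L`
-/

set_option autoImplicit false

namespace Cfsg.Agent.H881.Bs

open Cfsg.Agent.H847.Bs

section plus

variable {F V L : Type*} [Field F] [AddCommGroup V] [Module F V] [Field L] [Algebra F L]

/-- the element `(t, u)` of `GL(L × L)`, transported to `V` -/
def mu2 (e : V ≃ₗ[F] (L × L)) (t u : Lˣ) : V ≃ₗ[F] V := e ≪≫ₗ ((mul F t).prodCongr (mul F u)) ≪≫ₗ e.symm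

theorem mu2_apply (e : V ≃ₗ[F] (L × L)) (t u : Lˣ) (v : V) : mu2 e t u v = e.symm (t * (e v).1, u * (e v).2) := rfl

theorem e_mu2 (e : V ≃ₗ[F] (L × L)) (t u : Lˣ) (v : V) : e (mu2 e t u v) = (t * (e v).1, u * (e v).2) := by
  rw [mu2_apply, e.apply_symm_apply]

theorem mu2_injective (e : V ≃ₗ[F] (L × L)) {s t u v : Lˣ} (h : mu2 e s u = mu2 e t v) : s = t ∧ u = v := by
  have h1 : mu2 e s u (e.symm (1, 1)) = mu2 e t v (e.symm (1, 1)) := by rw [h]
  have h2 := congrArg e h1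
  rw [e_mu2, e_mu2, e.apply_symm_apply] at h2
  have h3 := Prod.mk.inj h2
  refine ⟨Units.ext ?_, Units.ext ?_⟩
  · simpa using h3.1
  · simpa using h3.2

/-- the first summand -/
def sA (e : V ≃ₗ[F] (L × L)) : Submodule F V := (LinearMap.ker (LinearMap.snd F L L)).comap (e : V →ₗ[F] L × L)

/-- the second summand -/
def sB (e : V ≃ₗ[F] (L × L)) : Submodule F V := (LinearMap.ker (LinearMap.fst F L L)).comap (e : V →ₗ[F] L × L)

theorem mem_sA (e : V ≃ₗ[F] (L × L)) {v : V} : v ∈ sA e ↔ (e v).2 = 0 := by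
  rw [sA, Submodule.mem_comap, LinearMap.mem_ker]
  rfl

theorem mem_sB (e : V ≃ₗ[F] (L × L)) {v : V} : v ∈ sB e ↔ (e v).1 = 0 := by
  rw [sB, Submodule.mem_comap, LinearMap.mem_ker]
  rfl

theorem isCompl_sAB (e : V ≃ₗ[F] (L × L)) : IsCompl (sA e) (sB e) := by
  constructor
  · rw [Submodule.disjoint_def]
    intro v h1 h2
    rw [mem_sA] at h1
    rw [mem_sB] at h2
    exact (LinearEquiv.map_eq_zero_iff e).1 (Prod.ext h2 h1)
  · rw [codisjoint_iff, eq_top_iff]
    intro v _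
    rw [Submodule.mem_sup]
    refine ⟨e.symm ((e v).1, 0), ?_, e.symm (0, (e v).2), ?_, ?_⟩
    · rw [mem_sA, e.apply_symm_apply]
    · rw [mem_sB, e.apply_symm_apply]
    · rw [← map_add]
      apply e.injective
      rw [e.apply_symm_apply]
      simp

/-- `A ≃ L` -/
noncomputable def eA (e : V ≃ₗ[F] (L × L)) : sA e ≃ₗ[F] L :=
  { toFun := fun v => (e v).1
    map_add' := fun v w => by rw [Submodule.coe_add, map_add]; rfl
    map_smul' := fun a v => by rw [Submodule.coe_smul, map_smul]; rfl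
    invFun := fun x => ⟨e.symm (x, 0), by rw [mem_sA, e.apply_symm_apply]⟩
    left_inv := fun v => by
      apply Subtype.ext
      apply e.injective
      rw [e.apply_symm_apply]
      exact Prod.ext rfl ((mem_sA e).1 v.2).symm
    right_inv := fun x => by
      change (e (e.symm (x, 0))).1 = x
      rw [e.apply_symm_apply] }

/-- `A' ≃ L` -/
noncomputable def eB (e : V ≃ₗ[F] (L × L)) : sB e ≃ₗ[F] L :=
  { toFun := fun v => (e v).2
    map_add' := fun v w => by rw [Submodule.coe_add, map_add]; rfl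
    map_smul' := fun a v => by rw [Submodule.coe_smul, map_smul]; rfl
    invFun := fun x => ⟨e.symm (0, x), by rw [mem_sB, e.apply_symm_apply]⟩
    left_inv := fun v => by
      apply Subtype.ext
      apply e.injective
      rw [e.apply_symm_apply]
      exact Prod.ext ((mem_sB e).1 v.2).symm rfl
    right_inv := fun x => by
      change (e (e.symm (0, x))).2 = x
      rw [e.apply_symm_apply] }

theorem irr_sA (e : V ≃ₗ[F] (L × L)) {t u : Lˣ} (h : Gen F (t : L)) : Irr (mu2 e t u) (sA e) where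
  inv := by
    intro v hv
    rw [mem_sA] at hv ⊢
    rw [e_mu2, hv, mul_zero]
  ne_bot := by
    intro h0
    have h1 : e.symm (1, 0) ∈ sA e := by rw [mem_sA, e.apply_symm_apply]
    rw [h0, Submodule.mem_bot, LinearEquiv.map_eq_zero_iff] at h1
    exact one_ne_zero (congrArg Prod.fst h1)
  min := by
    intro Y hYA hY
    have h1 := (irr_mul h).min ((Y.map (e : V →ₗ[F] L × L)).map (LinearMap.fst F L L)) le_top (by
      rintro x ⟨_, ⟨y, hy, rfl⟩, rfl⟩
      refine ⟨_, ⟨mu2 e t u y, hY y hy, rfl⟩, ?_⟩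
      change (e (mu2 e t u y)).1 = t * (e y).1
      rw [e_mu2])
    rcases h1 with h1 | h1
    · left
      rw [eq_bot_iff]
      intro v hv
      have h2 : (e v).1 ∈ ((Y.map (e : V →ₗ[F] L × L)).map (LinearMap.fst F L L)) := ⟨_, ⟨v, hv, rfl⟩, rfl⟩
      rw [h1, Submodule.mem_bot] at h2
      rw [Submodule.mem_bot]
      exact (LinearEquiv.map_eq_zero_iff e).1 (Prod.ext h2 ((mem_sA e).1 (hYA hv)))
    · right
      refine le_antisymm hYA fun v hv => ?_
      have h2 : (e v).1 ∈ ((Y.map (e : V →ₗ[F] L × L)).map (LinearMap.fst F L L)) := by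
        rw [h1]; exact Submodule.mem_top
      obtain ⟨_, ⟨y, hy, rfl⟩, hye⟩ := h2
      have h3 : e y = e v := Prod.ext hye (((mem_sA e).1 (hYA hy)).trans ((mem_sA e).1 hv).symm)
      rwa [← e.injective h3]

/-- exchange of the two summands -/
def sw (e : V ≃ₗ[F] (L × L)) : V ≃ₗ[F] (L × L) := e ≪≫ₗ LinearEquiv.prodComm F L L

theorem sA_sw (e : V ≃ₗ[F] (L × L)) : sA (sw e) = sB e := by
  ext v
  rw [mem_sA, mem_sB]
  rfl

theorem mu2_sw (e : V ≃ₗ[F] (L × L)) (t u : Lˣ) : mu2 (sw e) t u = mu2 e u t := by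
  refine LinearEquiv.ext fun v => ?_
  rw [mu2_apply, mu2_apply]
  rfl

theorem irr_sB (e : V ≃ₗ[F] (L × L)) {t u : Lˣ} (h : Gen F (u : L)) : Irr (mu2 e t u) (sB e) := by
  have h1 := irr_sA (sw e) (t := u) (u := t) h
  rwa [sA_sw, mu2_sw] at h1

theorem finrank_sA (e : V ≃ₗ[F] (L × L)) : Module.finrank F (sA e) = Module.finrank F L := (eA e).finrank_eq

theorem finrank_sB (e : V ≃ₗ[F] (L × L)) : Module.finrank F (sB e) = Module.finrank F L := (eB e).finrank_eq

theorem aeval_mu2 (e : V ≃ₗ[F] (L × L)) (t u : Lˣ) (p : Polynomial F) (v : V) :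
    Polynomial.aeval (mu2 e t u : V →ₗ[F] V) p v =
      e.symm (Polynomial.aeval (t : L) p * (e v).1, Polynomial.aeval (u : L) p * (e v).2) := by
  have h1 := aeval_conj e (mu2 e t u : V →ₗ[F] V) (((mul F t).prodCongr (mul F u) : (L × L) ≃ₗ[F] (L × L)) :
    (L × L) →ₗ[F] (L × L)) (fun v => e_mu2 e t u v) p v
  rw [← e.symm_apply_apply (Polynomial.aeval (mu2 e t u : V →ₗ[F] V) p v), h1]
  congr 1
  have h2 : ∀ (x : L), Polynomial.aeval (((mul F t).prodCongr (mul F u) : (L × L) ≃ₗ[F] (L × L)) :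
      (L × L) →ₗ[F] (L × L)) p (x, 0) = (Polynomial.aeval (t : L) p * x, 0) := by
    intro x
    rw [← aeval_mul t p x]
    exact (aeval_lin (LinearMap.inl F L L) (mul F t : L →ₗ[F] L) (((mul F t).prodCongr (mul F u) :
      (L × L) ≃ₗ[F] (L × L)) : (L × L) →ₗ[F] (L × L)) (fun y => Prod.ext rfl (mul_zero (u : L)).symm) p x).symm
  have h3 : ∀ (x : L), Polynomial.aeval (((mul F t).prodCongr (mul F u) : (L × L) ≃ₗ[F] (L × L)) :
      (L × L) →ₗ[F] (L × L)) p (0, x) = (0, Polynomial.aeval (u : L) p * x) := by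
    intro x
    rw [← aeval_mul u p x]
    exact (aeval_lin (LinearMap.inr F L L) (mul F u : L →ₗ[F] L) (((mul F t).prodCongr (mul F u) :
      (L × L) ≃ₗ[F] (L × L)) : (L × L) →ₗ[F] (L × L)) (fun y => Prod.ext (mul_zero (t : L)).symm rfl) p x).symm
  have h4 : e v = ((e v).1, 0) + (0, (e v).2) := by
    rw [Prod.mk_add_mk, add_zero, zero_add]
  rw [h4, map_add, h2, h3, Prod.mk_add_mk, add_zero, zero_add, Prod.mk_add_mk, add_zero, zero_add]

/-- two elements with different minimal polynomials -/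
theorem aeval_ne_zero {t u : L} [FiniteDimensional F L] (h : minpoly F t ≠ minpoly F u) :
    Polynomial.aeval u (minpoly F t) ≠ 0 := by
  intro h0
  have h1 : minpoly F u ∣ minpoly F t := minpoly.dvd _ _ h0
  have hiu : IsIntegral F u := Algebra.IsIntegral.isIntegral _
  have hit : IsIntegral F t := Algebra.IsIntegral.isIntegral _
  have h2 : Irreducible (minpoly F t) := minpoly.irreducible hit
  have h3 : Irreducible (minpoly F u) := minpoly.irreducible hiu
  have h4 : Associated (minpoly F u) (minpoly F t) := (h3.dvd_irreducible_iff_associated h2).1 h1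
  exact h (Polynomial.eq_of_monic_of_associated (minpoly.monic hit) (minpoly.monic hiu) h4.symm)

theorem mem_sA_iff [FiniteDimensional F L] (e : V ≃ₗ[F] (L × L)) {t u : Lˣ}
    (h : minpoly F (t : L) ≠ minpoly F (u : L)) {v : V} :
    v ∈ sA e ↔ Polynomial.aeval (mu2 e t u : V →ₗ[F] V) (minpoly F (t : L)) v = 0 := by
  rw [mem_sA, aeval_mu2, minpoly.aeval, zero_mul, LinearEquiv.map_eq_zero_iff, Prod.mk_eq_zero]
  simp [aeval_ne_zero h]

theorem mem_sB_iff [FiniteDimensional F L] (e : V ≃ₗ[F] (L × L)) {t u : Lˣ}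
    (h : minpoly F (t : L) ≠ minpoly F (u : L)) {v : V} :
    v ∈ sB e ↔ Polynomial.aeval (mu2 e t u : V →ₗ[F] V) (minpoly F (u : L)) v = 0 := by
  rw [mem_sB, aeval_mu2, minpoly.aeval, zero_mul, LinearEquiv.map_eq_zero_iff, Prod.mk_eq_zero]
  simp [aeval_ne_zero (Ne.symm h)]

/-- `A` and `A'` are not isomorphic -/
theorem not_iso [FiniteDimensional F L] (e : V ≃ₗ[F] (L × L)) {t u : Lˣ}
    (h : minpoly F (t : L) ≠ minpoly F (u : L)) :
    ¬ ∃ φ : sA e ≃ₗ[F] sB e, ∀ a : sA e, ∀ ha : mu2 e t u a ∈ sA e,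
      ((φ ⟨mu2 e t u a, ha⟩ : sB e) : V) = mu2 e t u (φ a) := by
  rintro ⟨φ, hφ⟩
  -- `ψ = eB ∘ φ ∘ eA⁻¹` satisfies `ψ (t x) = u ψ(x)`
  set! ψ : L ≃ₗ[F] L := (eA e).symm ≪≫ₗ φ ≪≫ₗ eB e with hψ
  have h1 : ∀ x, ψ (mul F t x) = mul F u (ψ x) := by
    intro x
    have h2 : mu2 e t u ((eA e).symm x : sA e) = ((eA e).symm (mul F t x) : sA e) := by
      apply e.injective
      rw [e_mu2]
      change (t * (e (e.symm (x, 0))).1, u * (e (e.symm (x, 0))).2) = e (e.symm (t * x, 0))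
      rw [e.apply_symm_apply, e.apply_symm_apply, mul_zero]
    have h3 := hφ ((eA e).symm x) (by rw [h2]; exact ((eA e).symm (mul F t x)).2)
    have h4 : (⟨mu2 e t u ((eA e).symm x : sA e), by rw [h2]; exact ((eA e).symm (mul F t x)).2⟩ : sA e) =
        (eA e).symm (mul F t x) := Subtype.ext h2
    rw [h4] at h3
    change (e ((φ ((eA e).symm (mul F t x)) : sB e) : V)).2 = u * (e ((φ ((eA e).symm x) : sB e) : V)).2
    rw [h3, e_mu2]
  have h2 := aeval_conj ψ (mul F t : L →ₗ[F] L) (mul F u : L →ₗ[F] L) h1 (minpoly F (t : L)) (ψ.symm 1)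
  rw [aeval_mul, minpoly.aeval, zero_mul, map_zero, ψ.apply_symm_apply, aeval_mul, mul_one] at h2
  exact aeval_ne_zero h h2.symm

/-- the centraliser preserves `A` and acts on it as a multiplication -/
theorem comm_sA [FiniteDimensional F L] (e : V ≃ₗ[F] (L × L)) {t u : Lˣ} (ht : Gen F (t : L))
    (h : minpoly F (t : L) ≠ minpoly F (u : L)) {g : V ≃ₗ[F] V} (hg : g * mu2 e t u = mu2 e t u * g) :
    (∀ v ∈ sB e, g v ∈ sB e) ∧ ∃ c : L, ∀ v ∈ sA e, e (g v) = (c * (e v).1, 0) := by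
  have hg' : ∀ v, g (mu2 e t u v) = mu2 e t u (g v) := fun v => congrArg (fun f : V ≃ₗ[F] V => f v) hg
  have hA : ∀ v ∈ sA e, g v ∈ sA e := by
    intro v hv
    rw [mem_sA_iff e h] at hv ⊢
    rw [← aeval_conj g (mu2 e t u : V →ₗ[F] V) (mu2 e t u : V →ₗ[F] V) hg', hv, map_zero]
  have hB : ∀ v ∈ sB e, g v ∈ sB e := by
    intro v hv
    rw [mem_sB_iff e h] at hv ⊢
    rw [← aeval_conj g (mu2 e t u : V →ₗ[F] V) (mu2 e t u : V →ₗ[F] V) hg', hv, map_zero]
  refine ⟨hB, ?_⟩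
  -- the restriction to `A`
  set! g' : L →ₗ[F] L := (LinearMap.fst F L L) ∘ₗ (e : V →ₗ[F] L × L) ∘ₗ (g : V →ₗ[F] V) ∘ₗ
    (e.symm : L × L →ₗ[F] V) ∘ₗ (LinearMap.inl F L L) with hg''
  have h1 : ∀ x, g' (t * x) = t * g' x := by
    intro x
    change (e (g (e.symm (t * x, 0)))).1 = t * (e (g (e.symm (x, 0)))).1
    have h2 : e.symm (t * x, (0 : L)) = mu2 e t u (e.symm (x, 0)) := by
      rw [mu2_apply, e.apply_symm_apply, mul_zero]
    rw [h2, hg', e_mu2]
  have h2 := eq_mul_of_comm ht h1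
  refine ⟨g' 1, fun v hv => Prod.ext ?_ ((mem_sA e).1 (hA v hv))⟩
  rw [← h2]
  change _ = (e (g (e.symm ((e v).1, 0)))).1
  have h3 : ((e v).1, (0 : L)) = e v := Prod.ext rfl ((mem_sA e).1 hv).symm
  rw [h3, e.symm_apply_apply]

/-- **Counting split elements.** -/
theorem plus_count [Finite V] [Finite L] [FiniteDimensional F L] (e : V ≃ₗ[F] (L × L)) (G : Subgroup (V ≃ₗ[F] V))
    (hG : ∀ g ∈ G, (∀ v ∈ sA e, g v = v) → (∀ v ∈ sB e, g v ∈ sB e) → g = 1) (s : Lˣ → Lˣ)
    (E : Set Lˣ) (hE : ∀ t ∈ E, Gen F (t : L) ∧ minpoly F (t : L) ≠ minpoly F (s t : L)) :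
    Nat.card G * Nat.card E ≤ 2 * Module.finrank F L * Nat.card Lˣ *
      Nat.card {z : V ≃ₗ[F] V // ∃ g ∈ G, ∃ t ∈ E, z = g * mu2 e t (s t) * g⁻¹} := by
  classical
  have hfin : Finite (V ≃ₗ[F] V) := Finite.of_injective (fun g : V ≃ₗ[F] V => (g : V → V)) DFunLike.coe_injective
  have hinj : Function.Injective (fun t => mu2 e t (s t)) := fun t t' h => (mu2_injective e h).1
  have h1 := conj_count G ((fun t => mu2 e t (s t)) '' E) (2 * Module.finrank F L) (Nat.card Lˣ) ?_ ?_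
  · have h2 : Nat.card ((fun t => mu2 e t (s t)) '' E) = Nat.card E := Nat.card_image_of_injective hinj E
    rw [h2] at h1
    refine h1.trans (Nat.mul_le_mul_left _ (le_of_eq (Nat.card_congr (Equiv.subtypeEquivRight fun z => ?_))))
    constructor
    · rintro ⟨g, hg, _, ⟨t, ht, rfl⟩, rfl⟩
      exact ⟨g, hg, t, ht, rfl⟩
    · rintro ⟨g, hg, t, ht, rfl⟩
      exact ⟨g, hg, _, ⟨t, ht, rfl⟩, rfl⟩
  · rintro _ ⟨t, ht, rfl⟩
    have hit : IsIntegral F (t : L) := Algebra.IsIntegral.isIntegral _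
    have his : IsIntegral F (s t : L) := Algebra.IsIntegral.isIntegral _
    have h0 : minpoly F (t : L) * minpoly F (s t : L) ≠ 0 := mul_ne_zero (minpoly.ne_zero hit) (minpoly.ne_zero his)
    have h2 : Nat.card {t' // t' ∈ (fun t => mu2 e t (s t)) '' E ∧ ∃ g ∈ G, g * mu2 e t (s t) * g⁻¹ = t'} ≤
        Nat.card ((minpoly F (t : L) * minpoly F (s t : L)).rootSet L) := by
      refine Nat.card_le_card_of_injective (fun z => ⟨((z.2.1.choose : Lˣ) : L), ?_⟩) ?_
      · rw [Polynomial.mem_rootSet]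
        refine ⟨h0, ?_⟩
        obtain ⟨g, hg, h3⟩ := z.2.2
        have h4 : g * mu2 e t (s t) * g⁻¹ = mu2 e z.2.1.choose (s z.2.1.choose) := h3.trans z.2.1.choose_spec.2.symm
        have h5 : ∀ v, g (mu2 e t (s t) v) = mu2 e z.2.1.choose (s z.2.1.choose) (g v) := by
          intro v
          have h6 : g * mu2 e t (s t) = mu2 e z.2.1.choose (s z.2.1.choose) * g := by rw [← h4]; group
          exact congrArg (fun f : V ≃ₗ[F] V => f v) h6
        have h6 := aeval_conj g (mu2 e t (s t) : V →ₗ[F] V) (mu2 e z.2.1.choose (s z.2.1.choose) : V →ₗ[F] V) h5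
          (minpoly F (t : L) * minpoly F (s t : L)) (g.symm (e.symm (1, 0)))
        rw [aeval_mu2, map_mul, map_mul, minpoly.aeval, minpoly.aeval, zero_mul, mul_zero, zero_mul, zero_mul,
          g.apply_symm_apply, aeval_mu2, e.apply_symm_apply, mul_one, mul_zero] at h6
        have h7 : e.symm ((0 : L), (0 : L)) = 0 := by
          rw [LinearEquiv.map_eq_zero_iff]; rfl
        rw [h7, map_zero] at h6
        have h8 := (LinearEquiv.map_eq_zero_iff e.symm).1 h6.symm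
        exact congrArg Prod.fst h8
      · intro z z' h
        have h3 : ((z.2.1.choose : Lˣ) : L) = ((z'.2.1.choose : Lˣ) : L) := congrArg Subtype.val h
        have h4 := Units.ext h3
        refine Subtype.ext ?_
        rw [← z.2.1.choose_spec.2, ← z'.2.1.choose_spec.2, h4]
    refine h2.trans ((card_rootSet_le _).trans ?_)
    rw [Polynomial.natDegree_mul (minpoly.ne_zero hit) (minpoly.ne_zero his), two_mul]
    exact add_le_add (minpoly.natDegree_le (t : L)) (minpoly.natDegree_le (s t : L))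
  · rintro _ ⟨t, ht, rfl⟩
    -- the multiplier on `A`
    have key : ∀ g : {g // g ∈ G ∧ g * mu2 e t (s t) = mu2 e t (s t) * g},
        ∃ c : Lˣ, ∀ v ∈ sA e, e (g.1 v) = (c * (e v).1, 0) := by
      intro g
      obtain ⟨-, c, hc⟩ := comm_sA e (hE t ht).1 (hE t ht).2 g.2.2
      have hc0 : c ≠ 0 := by
        rintro rfl
        have h2 := hc (e.symm (1, 0)) (by rw [mem_sA, e.apply_symm_apply])
        rw [zero_mul] at h2
        have h3 : g.1 (e.symm (1, 0)) = 0 := (LinearEquiv.map_eq_zero_iff e).1 h2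
        rw [LinearEquiv.map_eq_zero_iff, LinearEquiv.map_eq_zero_iff] at h3
        exact one_ne_zero (congrArg Prod.fst h3)
      exact ⟨Units.mk0 c hc0, hc⟩
    refine Nat.card_le_card_of_injective (fun g => (key g).choose) ?_
    intro g g' h
    have h2 : (key g).choose = (key g').choose := h
    have h3 := (key g).choose_spec
    have h4 := (key g').choose_spec
    rw [← h2] at h4
    have h5 : (g'.1)⁻¹ * g.1 = 1 := by
      refine hG _ (G.mul_mem (G.inv_mem g'.2.1) g.2.1) (fun v hv => ?_) (fun v hv => ?_)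
      · change (g'.1).symm (g.1 v) = v
        rw [LinearEquiv.symm_apply_eq]
        exact e.injective ((h3 v hv).trans (h4 v hv).symm)
      · have h6 : (g'.1)⁻¹ * mu2 e t (s t) = mu2 e t (s t) * (g'.1)⁻¹ := by
          have h7 := g'.2.2
          calc (g'.1)⁻¹ * mu2 e t (s t) = (g'.1)⁻¹ * (mu2 e t (s t) * g'.1) * (g'.1)⁻¹ := by group
            _ = (g'.1)⁻¹ * (g'.1 * mu2 e t (s t)) * (g'.1)⁻¹ := by rw [h7]
            _ = mu2 e t (s t) * (g'.1)⁻¹ := by group
        exact (comm_sA e (hE t ht).1 (hE t ht).2 h6).1 _ ((comm_sA e (hE t ht).1 (hE t ht).2 g.2.2).1 v hv)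
    exact Subtype.ext (inv_mul_eq_one.1 h5).symm

end plus

end Cfsg.Agent.H881.Bs
end

-- part: H881/Bs/HermPlus
section
/-!
# S5733 (BS06): split type isometries of hermitian spaces of even dimension
-/

set_option autoImplicit false
set_option linter.unusedSectionVars false

namespace Cfsg.Agent.H881.Bs

open Cfsg.Agent.H847.Bs Module

section conj

variable {F V : Type*} [Field F] [AddCommGroup V] [Module F V] {Φ : Frm F V}

theorem conj_apply (g x : V ≃ₗ[F] V) (v : V) : (g * x * g⁻¹) (g v) = g (x v) := by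
  change g (x (g.symm (g v))) = _
  rw [g.symm_apply_apply]

theorem irr_conj_map {x g : V ≃ₗ[F] V} {A : Submodule F V} (h : Irr x A) :
    Irr (g * x * g⁻¹) (A.map (g : V →ₗ[F] V)) where
  inv := by
    rintro _ ⟨v, hv, rfl⟩
    exact ⟨x v, h.inv v hv, (conj_apply g x v).symm⟩
  ne_bot := fun h0 => h.ne_bot ((Submodule.map_eq_bot_iff (e := g) (p := A)).1 h0)
  min := by
    intro Y hYA hY
    have h1 := h.min (Y.comap (g : V →ₗ[F] V)) (by
      intro v hv
      obtain ⟨w, hw, hwv⟩ := hYA hv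
      rwa [← g.injective hwv]) (by
      intro v hv
      rw [Submodule.mem_comap] at hv ⊢
      have h2 := hY _ hv
      change (g * x * g⁻¹) (g v) ∈ Y at h2
      rw [conj_apply] at h2
      exact h2)
    rcases h1 with h1 | h1
    · left
      rw [eq_bot_iff]
      intro v hv
      obtain ⟨w, hw, rfl⟩ := hYA hv
      have h2 : w ∈ Y.comap (g : V →ₗ[F] V) := hv
      rw [h1, Submodule.mem_bot] at h2
      rw [h2, map_zero]
      exact Submodule.zero_mem _
    · right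
      refine le_antisymm hYA ?_
      rintro _ ⟨w, hw, rfl⟩
      rw [← h1] at hw
      exact hw

/-- the split type is invariant under isometries -/
theorem Bp_conj {x g : V ≃ₗ[F] V} (hx : x ∈ Φ.Bp) (hg : g ∈ Φ.Iso) : g * x * g⁻¹ ∈ Φ.Bp := by
  obtain ⟨hxI, A, A', hc, hA, hA', hi, hi', hf, hn⟩ := hx
  refine ⟨Φ.Iso.mul_mem (Φ.Iso.mul_mem hg hxI) (Φ.Iso.inv_mem hg), A.map (g : V →ₗ[F] V), A'.map (g : V →ₗ[F] V),
    ?_, ?_, ?_, irr_conj_map hi, irr_conj_map hi', ?_, ?_⟩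
  · exact (OrderIso.isCompl_iff (Submodule.orderIsoMapComap g)).1 hc
  · refine ⟨?_, ?_⟩
    · rintro _ ⟨a, ha, rfl⟩ _ ⟨b, hb, rfl⟩
      exact (hg.1 a b).trans (hA.1 a ha b hb)
    · rintro _ ⟨a, ha, rfl⟩
      exact (hg.2 a).trans (hA.2 a ha)
  · refine ⟨?_, ?_⟩
    · rintro _ ⟨a, ha, rfl⟩ _ ⟨b, hb, rfl⟩
      exact (hg.1 a b).trans (hA'.1 a ha b hb)
    · rintro _ ⟨a, ha, rfl⟩
      exact (hg.2 a).trans (hA'.2 a ha)
  · rw [LinearEquiv.finrank_map_eq, LinearEquiv.finrank_map_eq, hf]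
  · rintro ⟨φ, hφ⟩
    apply hn
    refine ⟨(g.submoduleMap A) ≪≫ₗ φ ≪≫ₗ (g.submoduleMap A').symm, fun a ha => ?_⟩
    have h1 : (g * x * g⁻¹) ((g.submoduleMap A a : A.map (g : V →ₗ[F] V)) : V) = g (x a) := by
      rw [LinearEquiv.submoduleMap_apply]
      exact conj_apply g x a
    have h2 : (g * x * g⁻¹) ((g.submoduleMap A a : A.map (g : V →ₗ[F] V)) : V) ∈ A.map (g : V →ₗ[F] V) := by
      rw [h1]
      exact ⟨x a, ha, rfl⟩
    have h3 := hφ (g.submoduleMap A a) h2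
    have h4 : (⟨(g * x * g⁻¹) ((g.submoduleMap A a : A.map (g : V →ₗ[F] V)) : V), h2⟩ : A.map (g : V →ₗ[F] V)) =
        g.submoduleMap A ⟨x a, ha⟩ := by
      apply Subtype.ext
      exact h1.trans (LinearEquiv.submoduleMap_apply g A ⟨x a, ha⟩).symm
    rw [h4] at h3
    apply g.injective
    have h5 : ∀ b : A'.map (g : V →ₗ[F] V), g (((g.submoduleMap A').symm b : A') : V) = b := by
      intro b
      have := congrArg Subtype.val ((g.submoduleMap A').apply_symm_apply b)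
      rwa [LinearEquiv.submoduleMap_apply] at this
    change g (((g.submoduleMap A').symm (φ (g.submoduleMap A ⟨x a, ha⟩)) : A') : V) =
      g (x (((g.submoduleMap A').symm (φ (g.submoduleMap A a)) : A') : V))
    rw [h5, h3, ← h5 (φ (g.submoduleMap A a)), conj_apply]

end conj

section form

variable {F : Type*} [Field F] [Finite F] {r : ℕ} {L : Type*} [Field L] [Algebra F L] [Finite L]

theorem exists_root_r (hF : Nat.card F = r ^ 2) (hpos : 1 ≤ finrank F L) (z : L) :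
    (z ^ (r ^ (2 * finrank F L - 1))) ^ r = z := by
  have := Fintype.ofFinite L
  rw [← pow_mul, ← pow_succ, Nat.sub_add_cancel (by omega), ← card_ext hF, Nat.card_eq_fintype_card,
    FiniteField.pow_card]

variable (L) in
/-- the split hermitian form on `L × L` -/
noncomputable def plusFrm (hF : Nat.card F = r ^ 2) : Frm F (L × L) where
  B u v := Algebra.trace F L (u.1 * v.2 ^ r) + Algebra.trace F L (v.1 * u.2 ^ r) ^ r
  q _ := 0
  s a := a ^ r
  add_left x y z := by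
    rw [Prod.fst_add, Prod.snd_add, add_mul, map_add, add_pow_r (F := F) hF, mul_add, map_add, add_pow_r (F := F) hF]
    ring
  add_right x y z := by
    rw [Prod.fst_add, Prod.snd_add, add_mul, map_add, add_pow_r (F := F) hF, mul_add, map_add, add_pow_r (F := F) hF]
    ring
  smul_left a x y := by
    rw [Prod.smul_fst, Prod.smul_snd, smul_mul_assoc, map_smul, smul_eq_mul]
    have h1 : (a • x.2) ^ r = (a ^ r) • x.2 ^ r := smul_pow a x.2 r
    rw [h1, mul_smul_comm, map_smul, smul_eq_mul, mul_pow, pow_r_r hF, mul_add]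
  smul_right a x y := by
    rw [Prod.smul_fst, Prod.smul_snd, smul_mul_assoc, map_smul, smul_eq_mul]
    have h1 : (a • y.2) ^ r = (a ^ r) • y.2 ^ r := smul_pow a y.2 r
    rw [h1, mul_smul_comm, map_smul, smul_eq_mul, mul_pow, mul_add]
  refl x y h := by
    have hr := two_le_r hF
    have h1 : Algebra.trace F L (y.1 * x.2 ^ r) + Algebra.trace F L (x.1 * y.2 ^ r) ^ r =
        (Algebra.trace F L (x.1 * y.2 ^ r) + Algebra.trace F L (y.1 * x.2 ^ r) ^ r) ^ r := by
      rw [add_pow_r (F := F) hF, pow_r_r hF]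
      ring
    rw [h1, h, zero_pow (by omega)]
  q_add _ _ _ := (add_zero 0).symm

theorem isHerm_plus (hF : Nat.card F = r ^ 2) (hpos : 1 ≤ finrank F L) : IsHerm r (plusFrm L hF) where
  nd x h := by
    have hr := two_le_r hF
    have h1 : x.1 = 0 := by
      by_contra hx
      obtain ⟨y, hy⟩ := exists_trace_ne (F := F) hx
      apply hy
      have h2 := h (0, y ^ (r ^ (2 * finrank F L - 1)))
      change Algebra.trace F L (x.1 * (y ^ (r ^ (2 * finrank F L - 1))) ^ r) +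
        Algebra.trace F L (0 * x.2 ^ r) ^ r = 0 at h2
      rwa [exists_root_r hF hpos, zero_mul, map_zero, zero_pow (by omega), add_zero] at h2
    have h2 : x.2 = 0 := by
      by_contra hx
      obtain ⟨y, hy⟩ := exists_trace_ne (F := F) (pow_ne_zero r hx)
      apply hy
      have h2 := h (y, 0)
      change Algebra.trace F L (x.1 * 0 ^ r) + Algebra.trace F L (y * x.2 ^ r) ^ r = 0 at h2
      rw [zero_pow (by omega), mul_zero, map_zero, zero_add] at h2
      rw [mul_comm]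
      exact eq_zero_of_pow_eq_zero h2
    exact Prod.ext h1 h2
  card := hF
  s _ := rfl
  q _ := rfl
  symm x y := by
    change Algebra.trace F L (y.1 * x.2 ^ r) + Algebra.trace F L (x.1 * y.2 ^ r) ^ r =
        (Algebra.trace F L (x.1 * y.2 ^ r) + Algebra.trace F L (y.1 * x.2 ^ r) ^ r) ^ r
    rw [add_pow_r (F := F) hF, pow_r_r hF]
    ring

variable (F) in
/-- the action on the second summand -/
noncomputable def sAct (r : ℕ) (t : Lˣ) : Lˣ := (t⁻¹) ^ (r ^ (2 * finrank F L - 1))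

theorem sAct_pow (hF : Nat.card F = r ^ 2) (hpos : 1 ≤ finrank F L) (t : Lˣ) : ((sAct F r t : Lˣ) : L) ^ r = (t : L)⁻¹ := by
  unfold sAct
  rw [Units.val_pow_eq_pow_val, exists_root_r hF hpos, Units.val_inv_eq_inv_val]

variable {V : Type*} [AddCommGroup V] [Module F V] {Φ : Frm F V}

theorem mu2_mem (hF : Nat.card F = r ^ 2) (hpos : 1 ≤ finrank F L) (hΦ : IsHerm r Φ) (e : V ≃ₗ[F] (L × L))
    (he : ∀ x y, (plusFrm L hF).B (e x) (e y) = Φ.B x y) (t : Lˣ) : mu2 e t (sAct F r t) ∈ Φ.Iso := by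
  refine ⟨fun x y => ?_, fun x => by rw [hΦ.q, hΦ.q]⟩
  rw [← he, ← he, e_mu2, e_mu2]
  change Algebra.trace F L ((t * (e x).1) * ((sAct F r t : Lˣ) * (e y).2) ^ r) +
    Algebra.trace F L ((t * (e y).1) * ((sAct F r t : Lˣ) * (e x).2) ^ r) ^ r =
    Algebra.trace F L ((e x).1 * (e y).2 ^ r) + Algebra.trace F L ((e y).1 * (e x).2 ^ r) ^ r
  have h0 : (t : L) ≠ 0 := t.ne_zero
  have h1 : ∀ a b : L, (t * a) * ((sAct F r t : Lˣ) * b) ^ r = a * b ^ r := by
    intro a b
    rw [mul_pow, sAct_pow hF hpos]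
    field_simp
  rw [h1, h1]

theorem ti_sA (hF : Nat.card F = r ^ 2) (hΦ : IsHerm r Φ) (e : V ≃ₗ[F] (L × L))
    (he : ∀ x y, (plusFrm L hF).B (e x) (e y) = Φ.B x y) : Φ.TI (sA e) := by
  have hr := two_le_r hF
  refine ⟨fun x hx y hy => ?_, fun x _ => hΦ.q x⟩
  rw [mem_sA] at hx hy
  rw [← he]
  change Algebra.trace F L ((e x).1 * (e y).2 ^ r) + Algebra.trace F L ((e y).1 * (e x).2 ^ r) ^ r = 0
  rw [hx, hy, zero_pow (by omega), mul_zero, mul_zero, map_zero, zero_pow (by omega), add_zero]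

theorem ti_sB (hF : Nat.card F = r ^ 2) (hΦ : IsHerm r Φ) (e : V ≃ₗ[F] (L × L))
    (he : ∀ x y, (plusFrm L hF).B (e x) (e y) = Φ.B x y) : Φ.TI (sB e) := by
  have hr := two_le_r hF
  refine ⟨fun x hx y hy => ?_, fun x _ => hΦ.q x⟩
  rw [mem_sB] at hx hy
  rw [← he]
  change Algebra.trace F L ((e x).1 * (e y).2 ^ r) + Algebra.trace F L ((e y).1 * (e x).2 ^ r) ^ r = 0
  rw [hx, hy, zero_mul, zero_mul, map_zero, zero_pow (by omega), add_zero]

theorem fix_eq_one (hF : Nat.card F = r ^ 2) (hΦ : IsHerm r Φ) (e : V ≃ₗ[F] (L × L))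
    (he : ∀ x y, (plusFrm L hF).B (e x) (e y) = Φ.B x y) {g : V ≃ₗ[F] V} (hg : g ∈ Φ.Iso)
    (hA : ∀ v ∈ sA e, g v = v) (hB : ∀ v ∈ sB e, g v ∈ sB e) : g = 1 := by
  have hdec : ∀ v : V, ∃ a ∈ sA e, ∃ b ∈ sB e, a + b = v := by
    intro v
    have h1 : v ∈ sA e ⊔ sB e := by rw [(isCompl_sAB e).sup_eq_top]; exact Submodule.mem_top
    exact Submodule.mem_sup.1 h1
  have hB1 : ∀ v ∈ sB e, g v = v := by
    intro v hv
    have h1 : ∀ y, Φ.B (g v - v) y = 0 := by
      intro y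
      apply Φ.refl
      obtain ⟨a, ha, b, hb, rfl⟩ := hdec y
      have h2 : g v - v ∈ sB e := (sB e).sub_mem (hB v hv) hv
      have h3 : Φ.B a (g v - v) = 0 := by
        have h4 : Φ.B a (g v) = Φ.B a v := by
          conv_lhs => rw [← hA a ha]
          exact hg.1 a v
        have h5 : Φ.B a (g v) = Φ.B a (g v - v) + Φ.B a v := by rw [← Φ.add_right, sub_add_cancel]
        rw [h4] at h5
        exact (left_eq_add.1 (by rw [add_comm] at h5; exact h5))
      rw [Φ.add_left, h3, (ti_sB hF hΦ e he).1 b hb _ h2, add_zero]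
    exact sub_eq_zero.1 (hΦ.nd _ h1)
  refine LinearEquiv.ext fun v => ?_
  obtain ⟨a, ha, b, hb, rfl⟩ := hdec v
  rw [map_add, hA a ha, hB1 b hb]
  rfl

/-- the bad units -/
theorem bad_pow (hF : Nat.card F = r ^ 2) (hpos : 1 ≤ finrank F L) {t : Lˣ} (ht : Gen F (t : L))
    (h : minpoly F (t : L) = minpoly F (sAct F r t : L)) : t ^ (r ^ finrank F L + 1) = 1 := by
  have hLf := Fintype.ofFinite L
  have hr := two_le_r hF
  obtain ⟨i, hi⟩ := eq_pow_of_minpoly_eq h
  -- `t ^ (r ^ (2 i + 1)) = t⁻¹`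
  have h0 : (t : L) ≠ 0 := t.ne_zero
  have h1 : (t : L) ^ (r ^ (2 * i + 1)) = (t : L)⁻¹ := by
    rw [← sAct_pow hF hpos t, hi, hF, ← pow_mul, ← pow_mul, ← pow_succ]
  have h2 : (t : L) ^ (Nat.card F ^ (2 * i + 1)) = t := by
    rw [hF, ← pow_mul, two_mul, pow_add, pow_mul, h1, inv_pow, h1, inv_inv]
  -- hence the same for all elements of `L`
  have h3 : ∀ x : L, x ^ (Nat.card F ^ (2 * i + 1)) = x := by
    intro x
    have hadd : ∀ n : ℕ, ∀ a b : L, (a + b) ^ (Nat.card F ^ n) = a ^ (Nat.card F ^ n) + b ^ (Nat.card F ^ n) := by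
      intro n a b
      rw [hF, ← pow_mul]
      exact add_pow_rn (F := F) hF _ a b
    refine ht.mem (fun x => x ^ (Nat.card F ^ (2 * i + 1)) = x) (fun a => ?_) h2 (fun x y hx hy => ?_)
      (fun x y hx hy => ?_) x
    · have hFf := Fintype.ofFinite F
      rw [← map_pow, Nat.card_eq_fintype_card, FiniteField.pow_card_pow]
    · rw [hadd, hx, hy]
    · rw [mul_pow, hx, hy]
  -- `finrank ∣ 2 i + 1`
  have hq : 2 ≤ Nat.card F := Finite.one_lt_card
  have hper : ∀ k : ℕ, ∀ x : L, x ^ (Nat.card F ^ (finrank F L * k)) = x := by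
    intro k x
    rw [pow_mul, ← Module.natCard_eq_pow_finrank, Nat.card_eq_fintype_card]
    exact FiniteField.pow_card_pow k x
  have hdvd : finrank F L ∣ 2 * i + 1 := by
    rw [Nat.dvd_iff_mod_eq_zero]
    by_contra hne
    have h4 : ∀ x : L, x ^ (Nat.card F ^ ((2 * i + 1) % finrank F L)) = x := by
      intro x
      have h5 := h3 x
      rw [← Nat.div_add_mod (2 * i + 1) (finrank F L), pow_add, pow_mul, hper] at h5
      exact h5
    have h5 : Nat.card L ≤ Nat.card F ^ ((2 * i + 1) % finrank F L) := by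
      refine le_trans (le_of_eq ?_) (card_pow_eq_le (L := L) (Nat.one_lt_pow hne hq))
      exact Nat.card_congr
        { toFun := fun x => ⟨x, h4 x⟩
          invFun := fun x => x.1
          left_inv := fun _ => rfl
          right_inv := fun _ => rfl }
    rw [Module.natCard_eq_pow_finrank (K := F) (V := L)] at h5
    have h6 := (Nat.pow_le_pow_iff_right hq).1 h5
    have h7 := Nat.mod_lt (2 * i + 1) hpos
    omega
  obtain ⟨k, hk⟩ := hdvd
  have hko : Odd k := by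
    have h4 : Odd (finrank F L * k) := by rw [← hk]; exact odd_two_mul_add_one i
    exact (Nat.odd_mul.1 h4).2
  obtain ⟨l, rfl⟩ := hko
  have h4 : (t : L) ^ (r ^ finrank F L) = (t : L)⁻¹ := by
    rw [← h1, hk]
    have h5 : finrank F L * (2 * l + 1) = 2 * finrank F L * l + finrank F L := by ring
    rw [h5, pow_add, pow_mul r, ← card_ext hF, pow_mul, Nat.card_eq_fintype_card, FiniteField.pow_card_pow]
  apply Units.ext
  rw [Units.val_pow_eq_pow_val, Units.val_one, pow_succ, h4, inv_mul_cancel₀ h0]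

/-- the number of good units -/
theorem card_good (hF : Nat.card F = r ^ 2) (hpos : 1 ≤ finrank F L) : Nat.card Lˣ ≤
    Nat.card {t : Lˣ // Gen F (t : L) ∧ minpoly F (t : L) ≠ minpoly F (sAct F r t : L)} +
      (2 * r ^ finrank F L + (r ^ finrank F L + 1)) := by
  classical
  have hr := two_le_r hF
  have h1 : Nat.card Lˣ ≤ Nat.card {t : Lˣ // Gen F (t : L) ∧ minpoly F (t : L) ≠ minpoly F (sAct F r t : L)} +
      (Nat.card {t : Lˣ // ¬ Gen F (t : L)} + Nat.card {t : Lˣ // t ^ (r ^ finrank F L + 1) = 1}) := by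
    have := Fintype.ofFinite Lˣ
    rw [Nat.card_eq_fintype_card, Nat.card_eq_fintype_card, Nat.card_eq_fintype_card, Nat.card_eq_fintype_card,
      Fintype.card_subtype, Fintype.card_subtype, Fintype.card_subtype, ← Finset.card_univ]
    refine (Finset.card_le_card (t := Finset.filter (fun t : Lˣ => Gen F (t : L) ∧
      minpoly F (t : L) ≠ minpoly F (sAct F r t : L)) Finset.univ ∪ (Finset.filter (fun t : Lˣ => ¬ Gen F (t : L))
      Finset.univ ∪ Finset.filter (fun t : Lˣ => t ^ (r ^ finrank F L + 1) = 1) Finset.univ)) ?_).trans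
      ((Finset.card_union_le _ _).trans (Nat.add_le_add_left (Finset.card_union_le _ _) _))
    intro t _
    simp only [Finset.mem_union, Finset.mem_filter, Finset.mem_univ, true_and]
    by_cases h1 : Gen F (t : L)
    · by_cases h2 : minpoly F (t : L) = minpoly F (sAct F r t : L)
      · exact Or.inr (Or.inr (bad_pow hF hpos h1 h2))
      · exact Or.inl ⟨h1, h2⟩
    · exact Or.inr (Or.inl h1)
  have h2 : Nat.card {t : Lˣ // ¬ Gen F (t : L)} ≤ 2 * r ^ finrank F L := by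
    refine card_unit_not_gen_le.trans (card_not_gen_half.trans (Nat.mul_le_mul_left _ ?_))
    rw [hF, ← pow_mul]
    exact Nat.pow_le_pow_right (by omega) (Nat.mul_div_le _ _)
  have h3 := card_T (L := L) hF
  omega

end form

theorem num_plus {r e : ℕ} (hr : 2 ≤ r) (he : 1 ≤ e) :
    2 * (r : ℝ) ^ e + ((r : ℝ) ^ e + 1) ≤ 16 * (4 / 5 : ℝ) ^ (2 * e) * ((r : ℝ) ^ (2 * e) - 1) := by
  have hr' : (2 : ℝ) ≤ r := by exact_mod_cast hr
  have h1 : (1 : ℝ) ≤ ((16 / 25 : ℝ) * r) ^ e := one_le_pow₀ (by linarith only [hr'])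
  have h2 : (4 / 5 : ℝ) ^ (2 * e) * (r : ℝ) ^ (2 * e) = ((16 / 25 : ℝ) * r) ^ e * (r : ℝ) ^ e := by
    rw [← mul_pow, pow_mul, ← mul_pow]
    congr 1
    ring
  have h3 : (1 : ℝ) ≤ (r : ℝ) ^ e := one_le_pow₀ (by linarith only [hr'])
  have h4 : (4 : ℝ) ≤ (r : ℝ) ^ (2 * e) := by
    have h5 : (4 : ℝ) ≤ (r : ℝ) ^ 2 := by nlinarith only [hr']
    calc (4 : ℝ) ≤ (r : ℝ) ^ 2 := h5
      _ ≤ (r : ℝ) ^ (2 * e) := pow_le_pow_right₀ (by linarith only [hr']) (by omega)
  have h5 : (0 : ℝ) < (4 / 5 : ℝ) ^ (2 * e) := by positivity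
  have h6 : (r : ℝ) ^ e ≤ (4 / 5 : ℝ) ^ (2 * e) * (r : ℝ) ^ (2 * e) := by
    rw [h2]
    nlinarith only [h1, h3]
  have h7 : (4 / 5 : ℝ) ^ (2 * e) * (r : ℝ) ^ (2 * e) ≤ (4 / 3) * ((4 / 5 : ℝ) ^ (2 * e) * ((r : ℝ) ^ (2 * e) - 1)) := by
    nlinarith only [h4, h5]
  linarith only [h3, h6, h7]

section main

variable {F V : Type*} [Field F] [AddCommGroup V] [Module F V] [Finite F] [FiniteDimensional F V] {r d : ℕ} {Φ : Frm F V}

/-- **BS06 (2).** -/
theorem herm_plus (hΦ : IsHerm r Φ) (hd : finrank F V = d) (hev : Even d) (h2 : 2 ≤ d) :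
    ar d / d * (Nat.card Φ.Iso : ℝ) ≤ Nat.card Φ.Bp := by
  obtain ⟨e, rfl⟩ := hev
  have hVfin : Finite V := Module.finite_of_finite F
  have hGfin := finite_equiv' F V
  obtain ⟨p, hp⟩ := CharP.exists F
  have hpf : Fact p.Prime := ⟨CharP.char_is_prime F p⟩
  have he1 : 1 ≤ e := by omega
  have he0 : NeZero e := ⟨by omega⟩
  set! L := FiniteField.Extension F p e with hLdef
  have hL : finrank F L = e := FiniteField.finrank_extension F p e
  have hF := hΦ.card
  have hr := two_le_r hF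
  have hpos : 1 ≤ finrank F L := by omega
  obtain ⟨f, hf⟩ := exists_isom hΦ (isHerm_plus (L := L) hF hpos) (by rw [hd, Module.finrank_prod, hL])
  have h1 := plus_count f Φ.Iso (fun g hg hA hB => fix_eq_one hF hΦ f hf hg hA hB) (sAct F r)
    {t : Lˣ | Gen F (t : L) ∧ minpoly F (t : L) ≠ minpoly F (sAct F r t : L)} (fun t ht => ht)
  have h3 : Nat.card {z : V ≃ₗ[F] V // ∃ g ∈ Φ.Iso, ∃ t ∈ {t : Lˣ | Gen F (t : L) ∧
      minpoly F (t : L) ≠ minpoly F (sAct F r t : L)}, z = g * mu2 f t (sAct F r t) * g⁻¹} ≤ Nat.card Φ.Bp := by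
    refine Nat.card_le_card_of_injective (fun z => (⟨z.1, ?_⟩ : Φ.Bp)) fun a b h => Subtype.ext (Subtype.mk.inj h)
    obtain ⟨g, hg, t, ht, hz⟩ := z.2
    rw [hz]
    refine Bp_conj ⟨mu2_mem hF hpos hΦ f hf t, sA f, sB f, isCompl_sAB f, ti_sA hF hΦ f hf, ti_sB hF hΦ f hf,
      irr_sA f ht.1, irr_sB f ?_, by rw [finrank_sA, finrank_sB], not_iso f ht.2⟩ hg
    -- `s t` generates
    have h0 : (t : L) ≠ 0 := t.ne_zero
    have h4 : ((sAct F r t : Lˣ) : L) ^ r = (t : L)⁻¹ := sAct_pow hF hpos t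
    have hLf := Fintype.ofFinite L
    unfold Gen
    rw [eq_top_iff, ← ht.1]
    rw [Algebra.adjoin_le_iff, Set.singleton_subset_iff, SetLike.mem_coe]
    have h5 : (t : L) = (((sAct F r t : Lˣ) : L) ^ r) ^ (Nat.card L - 2) := by
      have h6 : 2 ≤ Nat.card L := Finite.one_lt_card
      have h7 : (((sAct F r t : Lˣ) : L) ^ r) ^ (Nat.card L - 2) * (((sAct F r t : Lˣ) : L) ^ r) = 1 := by
        rw [← pow_succ]
        have h8 : Nat.card L - 2 + 1 = Nat.card L - 1 := by omega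
        rw [h8, h4, inv_pow, Nat.card_eq_fintype_card, FiniteField.pow_card_sub_one_eq_one _ h0, inv_one]
      rw [h4] at h7 ⊢
      exact (eq_mul_inv_iff_mul_eq₀ (inv_ne_zero h0)).2 h7 |>.symm ▸ by rw [inv_inv, one_mul]
    rw [h5]
    exact Subalgebra.pow_mem _ (Subalgebra.pow_mem _ (Algebra.self_mem_adjoin_singleton F _) _) _
  have h4 := card_good (L := L) hF hpos
  have h5 : Nat.card Lˣ = r ^ (2 * e) - 1 := by
    rw [Nat.card_units, card_ext hF, hL]
  have hEeq : Nat.card {t : Lˣ | Gen F (t : L) ∧ minpoly F (t : L) ≠ minpoly F (sAct F r t : L)} =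
    Nat.card {t : Lˣ // Gen F (t : L) ∧ minpoly F (t : L) ≠ minpoly F (sAct F r t : L)} := rfl
  rw [hEeq] at h1
  set E := Nat.card {t : Lˣ // Gen F (t : L) ∧ minpoly F (t : L) ≠ minpoly F (sAct F r t : L)} with hE
  rw [hL] at h1 h4
  have h6 : (1 : ℕ) ≤ r ^ (2 * e) := Nat.one_le_pow _ _ (by omega)
  have h7 : ((Nat.card Lˣ : ℕ) : ℝ) = (r : ℝ) ^ (2 * e) - 1 := by
    rw [h5, Nat.cast_sub h6]
    push_cast
    ring
  have h4' : (Nat.card Lˣ : ℝ) ≤ E + (2 * (r : ℝ) ^ e + ((r : ℝ) ^ e + 1)) := by exact_mod_cast h4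
  have h8 := num_plus hr he1
  have h9 : ar (e + e) * (Nat.card Lˣ : ℝ) ≤ E := by
    unfold ar
    rw [← two_mul, h7]
    rw [h7] at h4'
    linarith only [h4', h8]
  have h1' : (Nat.card Φ.Iso : ℝ) * E ≤ 2 * e * (Nat.card Lˣ : ℝ) * Nat.card Φ.Bp := by
    have := h1.trans (Nat.mul_le_mul_left _ h3)
    exact_mod_cast this
  have h10 : (0 : ℝ) < Nat.card Lˣ := by exact_mod_cast Nat.card_pos
  have h11 : (0 : ℝ) ≤ Nat.card Φ.Iso := Nat.cast_nonneg _
  have hd0 : (0 : ℝ) < ((e + e : ℕ) : ℝ) := by exact_mod_cast (by omega : 0 < e + e)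
  rw [div_mul_eq_mul_div, div_le_iff₀ hd0]
  have h12 : ar (e + e) * (Nat.card Φ.Iso : ℝ) * (Nat.card Lˣ : ℝ) ≤
      (Nat.card Φ.Bp * ((e + e : ℕ) : ℝ)) * (Nat.card Lˣ : ℝ) := by
    calc ar (e + e) * (Nat.card Φ.Iso : ℝ) * (Nat.card Lˣ : ℝ) =
          (Nat.card Φ.Iso : ℝ) * (ar (e + e) * (Nat.card Lˣ : ℝ)) := by ring
      _ ≤ (Nat.card Φ.Iso : ℝ) * E := mul_le_mul_of_nonneg_left h9 h11
      _ ≤ 2 * e * (Nat.card Lˣ : ℝ) * Nat.card Φ.Bp := h1'
      _ = (Nat.card Φ.Bp * ((e + e : ℕ) : ℝ)) * (Nat.card Lˣ : ℝ) := by push_cast; ring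
  exact le_of_mul_le_mul_right h12 h10

end main

end Cfsg.Agent.H881.Bs
end

private theorem dce_ace9d529e7fb : _root_.True := by
  try have : _root_.True := by simp only [_root_.Cfsg.Agent.H978.Bs.sig.congr_simp]
  try have : _root_.True := by simp only [_root_.Cfsg.Agent.H978.Bs.EE.congr_simp]
  try have : _root_.True := by simp only [_root_.Cfsg.Agent.H978.Bs.Dec3.Θ.congr_simp]
  try have : _root_.True := by simp only [_root_.Cfsg.Agent.H881.Bs.sA.eq_1]
  try have : _root_.True := by simp only [_root_.Cfsg.Agent.H881.Bs.sB.eq_1]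
  exact _root_.True.intro
end

-- part: H181/Bs/SpRed_mg
section
set_option linter.all false
open scoped Cfsg.Agent.FastGrp

-- part: H181/Bs/SpRed
section
/-!
# S5733, BS25: reducible subgroups of the symplectic groups

`sp_red` : there are `c > 0`, `n₀` such that in every symplectic space `V` of dimension at least `n₀` at least `c |Sp(V)|`
elements of `Sp(V)` fix no image of `Y₀`, for every totally isotropic or nondegenerate subspace `Y₀ ≠ ⊥, ⊤`.
The block counts (BS07) and the count of the large block elements (BS10) are hypotheses `BlockSp`, `CountSp`.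
-/

set_option autoImplicit false

namespace Cfsg.Agent.H181.Bs

open Cfsg.Agent.H847.Bs Module

universe u v

/-- BS07, type minus -/
def BlockSp : Prop :=
  ∀ (F : Type u) (V : Type v) [Field F] [Finite F] [AddCommGroup V] [Module F V] [Module.Finite F V] (Φ : Frm F V),
    IsSp Φ → ∀ j : ℕ, 1 ≤ j → finrank F V = 2 * j → ar j / (2 * j) * Nat.card Φ.Iso ≤ Nat.card ↥Φ.Bm

/-- BS10 -/
def CountSp : Prop :=
  ∃ c : ℝ, 0 < c ∧ ∃ K₀ : ℕ, ∀ (F : Type u) (V : Type v) [Field F] [Finite F] [AddCommGroup V] [Module F V]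
    [Module.Finite F V] (Φ : Frm F V), IsSp Φ → ∀ n K : ℕ, K₀ ≤ K → finrank F V = 2 * n → K < n →
      c / (K + 1) * Nat.card Φ.Iso ≤ Nat.card ↥(Φ.SS K (2 * n))

section

variable {F : Type u} {V : Type v} [Field F] [AddCommGroup V] [Module F V] {Φ : Frm F V}

theorem dec_map {D U : Submodule F V} (h : Φ.Dec D U) {g : V ≃ₗ[F] V} (hg : g ∈ Φ.Iso) :
    Φ.Dec (D.map (g : V →ₗ[F] V)) (U.map (g : V →ₗ[F] V)) where
  compl := by
    refine IsCompl.of_eq ?_ ?_
    · rw [← Submodule.map_inf _ g.injective, h.compl.inf_eq_bot, Submodule.map_bot]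
    · rw [← Submodule.map_sup, h.compl.sup_eq_top, Submodule.map_top]
      exact LinearEquiv.range g
  orth := by
    rintro _ ⟨x, hx, rfl⟩ _ ⟨y, hy, rfl⟩
    show Φ.B (g x) (g y) = 0
    rw [hg.1]
    exact h.orth x hx y hy

theorem lb_of_bm {K : ℕ} (hK : K < finrank F V) {y : V ≃ₗ[F] V} (hy : y ∈ Φ.Bm) : LB K y := by
  intro Z hZ hZ0
  rcases hy.2.min Z le_top hZ with h | h
  · exact absurd h hZ0
  · rw [h, finrank_top]
    exact hK

theorem ar_ge {j : ℕ} (hj : 16 ≤ j) : (1 / 2 : ℝ) ≤ ar j := by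
  have h1 : (4 / 5 : ℝ) ^ j ≤ (4 / 5 : ℝ) ^ 16 := pow_le_pow_of_le_one (by norm_num) (by norm_num) hj
  have h2 : (4 / 5 : ℝ) ^ 16 ≤ 1 / 32 := by norm_num
  rw [ar]
  linarith only [h1]

variable [Finite F] [Module.Finite F V]

theorem core (h07 : BlockSp.{u, v}) {c₁ : ℝ} (hc₁ : 0 < c₁) {K₀ : ℕ}
    (h10 : ∀ (F : Type u) (V : Type v) [Field F] [Finite F] [AddCommGroup V] [Module F V]
      [Module.Finite F V] (Φ : Frm F V), IsSp Φ → ∀ n K : ℕ, K₀ ≤ K → finrank F V = 2 * n → K < n →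
      c₁ / (K + 1) * Nat.card Φ.Iso ≤ Nat.card ↥(Φ.SS K (2 * n)))
    (hΦ : IsSp Φ) {n k : ℕ} (hn : finrank F V = 2 * n) (hn0 : K₀ + 50 ≤ n) (hk1 : 1 ≤ k)
    (Y₀ : Submodule F V) (hY : finrank F Y₀ ≤ 2 * k) (hY' : finrank F Y₀ ≤ n)
    (hk : ∀ W, Φ.NdOn W → finrank F W < 2 * k → ∀ g ∈ Φ.Iso, ¬ Y₀.map ((g : V ≃ₗ[F] V) : V →ₗ[F] V) ≤ W) :
    min (min (c₁ / 3) (c₁ / (K₀ + 1))) (1 / 24) * Nat.card Φ.Iso ≤
      Nat.card {x : V ≃ₗ[F] V // x ∈ Φ.Iso ∧ ∀ g ∈ Φ.Iso, ¬ _root_.Cfsg.Agent.H847.Bs.Inv x (Y₀.map ((g : V ≃ₗ[F] V) : V →ₗ[F] V))} := by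
  have : Finite V := Module.finite_of_finite F
  have hI : (0 : ℝ) ≤ Nat.card Φ.Iso := Nat.cast_nonneg _
  -- the counts as needed
  have hSS : ∀ (K s : ℕ), K₀ ≤ K → K < n - s → ∀ U : Submodule F V, Φ.NdOn U → finrank F U = 2 * (n - s) →
      c₁ / (K + 1) * Nat.card (Φ.on U).Iso ≤ Nat.card ↥{y : U ≃ₗ[F] U | y ∈ (Φ.on U).Iso ∧ LB K y} := by
    intro K s hK hs U hU hUr
    refine le_trans (h10 F U (Φ.on U) (isSp_on hΦ hU) (n - s) K hK hUr hs) ?_
    have h1 : Nat.card ↥((Φ.on U).SS K (2 * (n - s))) ≤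
        Nat.card ↥{y : U ≃ₗ[F] U | y ∈ (Φ.on U).Iso ∧ LB K y} := by
      refine Nat.card_le_card_of_injective (fun y => ⟨y.1, y.2.1, ?_⟩) ?_
      · intro Z hZ hZ0
        exact y.2.2.1 Z hZ hZ0
      · intro a b e
        exact Subtype.ext (Subtype.mk.inj e)
    exact_mod_cast h1
  by_cases h3k : 3 * k ≤ n
  · by_cases h2k : K₀ ≤ 2 * k
    · have h1 := sum_le hΦ hn (K := 2 * k) (k := k) (Finset.range k) (fun _ => c₁ / (2 * k + 1)) (by
        intro s hs
        rw [Finset.mem_range] at hs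
        refine ⟨by omega, hs, by omega⟩) Y₀ hY hk (by
        intro s hs U hU hUr
        rw [Finset.mem_range] at hs
        have := hSS (2 * k) s h2k (by omega) U hU hUr
        push_cast at this
        exact this)
      refine le_trans ?_ h1
      refine mul_le_mul_of_nonneg_right ?_ hI
      rw [Finset.sum_const, Finset.card_range, nsmul_eq_mul]
      refine le_trans (min_le_left _ _) (le_trans (min_le_left _ _) ?_)
      have hkr : (1 : ℝ) ≤ k := by exact_mod_cast hk1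
      rw [← mul_div_assoc, div_le_div_iff₀ (by norm_num) (by positivity)]
      nlinarith only [hc₁, hkr]
    · push Not at h2k
      have h1 := sum_le hΦ hn (K := K₀) (k := k) {0} (fun _ => c₁ / (K₀ + 1)) (by
        intro s hs
        rw [Finset.mem_singleton] at hs
        subst hs
        exact ⟨by omega, by omega, by omega⟩) Y₀ (by omega) hk (by
        intro s hs U hU hUr
        rw [Finset.mem_singleton] at hs
        subst hs
        exact hSS K₀ 0 le_rfl (by omega) U hU hUr)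
      refine le_trans ?_ h1
      refine mul_le_mul_of_nonneg_right ?_ hI
      rw [Finset.sum_singleton]
      exact le_trans (min_le_left _ _) (min_le_right _ _)
  · have h1 := sum_le hΦ hn (K := n) (k := k) (Finset.range (n / 3)) (fun _ => 1 / (4 * n)) (by
      intro s hs
      rw [Finset.mem_range] at hs
      refine ⟨by omega, by omega, by omega⟩) Y₀ hY' hk (by
      intro s hs U hU hUr
      rw [Finset.mem_range] at hs
      have hj : 16 ≤ n - s := by omega
      have h2 := h07 F U (Φ.on U) (isSp_on hΦ hU) (n - s) (by omega) hUr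
      have h3 : Nat.card ↥(Φ.on U).Bm ≤ Nat.card ↥{y : U ≃ₗ[F] U | y ∈ (Φ.on U).Iso ∧ LB n y} := by
        refine Nat.card_le_card_of_injective (fun y => ⟨y.1, y.2.1, lb_of_bm (by omega) y.2⟩) ?_
        intro a b e
        exact Subtype.ext (Subtype.mk.inj e)
      have h3' : (Nat.card ↥(Φ.on U).Bm : ℝ) ≤ Nat.card ↥{y : U ≃ₗ[F] U | y ∈ (Φ.on U).Iso ∧ LB n y} := by
        exact_mod_cast h3
      refine le_trans ?_ (le_trans h2 h3')
      refine mul_le_mul_of_nonneg_right ?_ (Nat.cast_nonneg _)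
      have h4 := ar_ge hj
      have h5 : ((n - s : ℕ) : ℝ) ≤ n := by exact_mod_cast Nat.sub_le n s
      have h6 : (0 : ℝ) < ((n - s : ℕ) : ℝ) := by
        have : 0 < n - s := by omega
        exact_mod_cast this
      have h7 : (0 : ℝ) < n := lt_of_lt_of_le h6 h5
      rw [div_le_div_iff₀ (by (clear * - h7; positivity)) (by positivity)]
      nlinarith only [h4, h5])
    refine le_trans ?_ h1
    refine mul_le_mul_of_nonneg_right ?_ hI
    rw [Finset.sum_const, Finset.card_range, nsmul_eq_mul]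
    refine le_trans (min_le_right _ _) ?_
    have h8 : n ≤ 6 * (n / 3) := by omega
    have h9 : (n : ℝ) ≤ 6 * ((n / 3 : ℕ) : ℝ) := by exact_mod_cast h8
    have h7 : (0 : ℝ) < n := by
      have : 0 < n := by omega
      exact_mod_cast this
    rw [mul_one_div, div_le_div_iff₀ (by norm_num) (by positivity)]
    linarith only [h9]

end

/-- **BS25**: reducible subgroups of the symplectic groups. -/
theorem sp_red (h07 : BlockSp.{u, v}) (h10 : CountSp.{u, v}) :
    ∃ c : ℝ, 0 < c ∧ ∃ n₀ : ℕ, ∀ (F : Type u) (V : Type v) [Field F] [Finite F] [AddCommGroup V] [Module F V]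
      [Module.Finite F V] (Φ : Frm F V), IsSp Φ → n₀ ≤ finrank F V → ∀ Y₀ : Submodule F V, Y₀ ≠ ⊥ → Y₀ ≠ ⊤ →
        (Φ.TI Y₀ ∨ Φ.NdOn Y₀) → c * Nat.card Φ.Iso ≤
          Nat.card {x : V ≃ₗ[F] V // x ∈ Φ.Iso ∧ ∀ g ∈ Φ.Iso, ¬ _root_.Cfsg.Agent.H847.Bs.Inv x (Y₀.map ((g : V ≃ₗ[F] V) : V →ₗ[F] V))} := by
  obtain ⟨c₁, hc₁, K₀, h10⟩ := h10
  refine ⟨min (min (c₁ / 3) (c₁ / (K₀ + 1))) (1 / 24), ?_, 2 * (K₀ + 50), ?_⟩
  · refine lt_min (lt_min (by positivity) (by positivity)) (by norm_num)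
  intro F V _ _ _ _ _ Φ hΦ hn0 Y₀ hY0 hY1 hY
  have : Finite V := Module.finite_of_finite F
  obtain ⟨n, hn⟩ := exists_finrank_eq hΦ
  have hpos : 0 < finrank F Y₀ := by
    rw [Nat.pos_iff_ne_zero]
    intro h
    exact hY0 (Submodule.finrank_eq_zero.mp h)
  have htop : Φ.NdOn ⊤ := fun x _ h => hΦ.nd x fun y => h y Submodule.mem_top
  -- nondegenerate subspaces of dimension at most `n`
  have key : ∀ Y : Submodule F V, Y ≠ ⊥ → Φ.NdOn Y → finrank F Y ≤ n →
      min (min (c₁ / 3) (c₁ / (K₀ + 1))) (1 / 24) * Nat.card Φ.Iso ≤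
        Nat.card {x : V ≃ₗ[F] V // x ∈ Φ.Iso ∧ ∀ g ∈ Φ.Iso, ¬ _root_.Cfsg.Agent.H847.Bs.Inv x (Y.map ((g : V ≃ₗ[F] V) : V →ₗ[F] V))} := by
    intro Y hYb hYnd hYn
    obtain ⟨k, hk⟩ := exists_finrank_ndOn hΦ hYnd
    have hYpos : 0 < finrank F Y := by
      rw [Nat.pos_iff_ne_zero]
      intro h
      exact hYb (Submodule.finrank_eq_zero.mp h)
    refine core h07 hc₁ h10 hΦ hn (by omega) (k := k) (by omega) Y hk.le hYn ?_
    intro W _ hW2 g _ hle
    have h1 := Submodule.finrank_mono hle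
    rw [finrank_map_equiv] at h1
    omega
  rcases hY with hTI | hnd
  · have h1 := two_finrank_le_of_ti hΦ hTI (le_top (a := Y₀)) htop
    rw [finrank_top, hn] at h1
    refine core h07 hc₁ h10 hΦ hn (by omega) (k := finrank F Y₀) hpos Y₀ (by omega) (by omega) ?_
    intro W hW hW2 g hg hle
    have h2 := two_finrank_le_of_ti hΦ (ti_map hTI hg) hle hW
    rw [finrank_map_equiv] at h2
    omega
  · by_cases hYn : finrank F Y₀ ≤ n
    · exact key Y₀ hY0 hnd hYn
    · have hd := dec_perp hΦ.s hnd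
      have h2 : finrank F Y₀ + finrank F (perp hΦ.s Y₀) = finrank F V :=
        Submodule.finrank_add_eq_of_isCompl hd.compl
      have h3 : perp hΦ.s Y₀ ≠ ⊥ := by
        intro h
        apply hY1
        have h4 := hd.compl.sup_eq_top
        rwa [h, sup_bot_eq] at h4
      refine le_trans (key _ h3 (ndOn_right hΦ.nd hd) (by omega)) ?_
      have h5 : Nat.card {x : V ≃ₗ[F] V // x ∈ Φ.Iso ∧
            ∀ g ∈ Φ.Iso, ¬ _root_.Cfsg.Agent.H847.Bs.Inv x ((perp hΦ.s Y₀).map ((g : V ≃ₗ[F] V) : V →ₗ[F] V))} ≤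
          Nat.card {x : V ≃ₗ[F] V // x ∈ Φ.Iso ∧ ∀ g ∈ Φ.Iso, ¬ _root_.Cfsg.Agent.H847.Bs.Inv x (Y₀.map ((g : V ≃ₗ[F] V) : V →ₗ[F] V))} := by
        refine Nat.card_le_card_of_injective (fun x => ⟨x.1, x.2.1, ?_⟩) ?_
        · intro g hg hinv
          exact x.2.2 g hg (inv_right Φ hΦ.nd (dec_map hd hg) x.2.1 hinv)
        · intro a b e
          exact Subtype.ext (Subtype.mk.inj e)
      exact_mod_cast h5

end Cfsg.Agent.H181.Bs
end

-- part: H59/Bs/SpPlus
section
/-!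
# S5733, BS07: symplectic blocks of type plus (helper59)
-/

set_option autoImplicit false
set_option linter.unusedSectionVars false

namespace Cfsg.Agent.H59.Bs

open Cfsg.Agent.H847.Bs Module

section Gen

variable {F V : Type*} [Field F] [AddCommGroup V] [Module F V]

/-- the irreducible submodules of the sum of two non isomorphic ones -/
theorem irr_eq [FiniteDimensional F V] {x : V ≃ₗ[F] V} {A A' X : Submodule F V} (hc : IsCompl A A') (hA : Irr x A)
    (hA' : Irr x A') (hX : Irr x X)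
    (hn : ¬ ∃ φ : A ≃ₗ[F] A', ∀ a : A, ∀ ha : x a ∈ A, ((φ ⟨x a, ha⟩ : A') : V) = x (φ a)) : X = A ∨ X = A' := by
  have inf_inv : ∀ {Y Z : Submodule F V}, _root_.Cfsg.Agent.H847.Bs.Inv x Y → _root_.Cfsg.Agent.H847.Bs.Inv x Z → _root_.Cfsg.Agent.H847.Bs.Inv x (Y ⊓ Z) := fun hY hZ v hv =>
    ⟨hY v hv.1, hZ v hv.2⟩
  rcases hX.min (X ⊓ A') inf_le_left (inf_inv hX.inv hA'.inv) with h1 | h1
  · rcases hX.min (X ⊓ A) inf_le_left (inf_inv hX.inv hA.inv) with h2 | h2
    · exfalso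
      apply hn
      let π := A.projectionOnto A' hc
      let π' := A'.projectionOnto A hc.symm
      have hπ : ∀ v, ((π v : A) : V) + (π' v : A') = v := by
        intro v
        obtain ⟨a, ha, b, hb, rfl⟩ := Submodule.mem_sup.1 (show v ∈ A ⊔ A' by rw [hc.sup_eq_top]; exact Submodule.mem_top)
        have h1 : π a = ⟨a, ha⟩ := Submodule.projectionOnto_apply_left hc ⟨a, ha⟩
        have h2 : π b = 0 := Submodule.projectionOnto_apply_right hc ⟨b, hb⟩
        have h3 : π' b = ⟨b, hb⟩ := Submodule.projectionOnto_apply_left hc.symm ⟨b, hb⟩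
        have h4 : π' a = 0 := Submodule.projectionOnto_apply_right hc.symm ⟨a, ha⟩
        rw [map_add, map_add, h1, h2, h3, h4, add_zero, zero_add]
      have huniq : ∀ (a : A) (b : A'), π (a + b) = a ∧ π' (a + b) = b := by
        intro a b
        constructor
        · rw [map_add]
          simp [π]
        · rw [map_add]
          simp [π']
      have heq : ∀ v, (π (x v) : V) = x (π v) ∧ (π' (x v) : V) = x (π' v) := by
        intro v
        have h3 : x v = ((⟨x (π v), hA.inv _ (π v).2⟩ : A) : V) + ((⟨x (π' v), hA'.inv _ (π' v).2⟩ : A') : V) := by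
          show x v = x (π v) + x (π' v)
          rw [← map_add, hπ]
        obtain ⟨h4, h5⟩ := huniq ⟨x (π v), hA.inv _ (π v).2⟩ ⟨x (π' v), hA'.inv _ (π' v).2⟩
        rw [← h3] at h4 h5
        exact ⟨congrArg Subtype.val h4, congrArg Subtype.val h5⟩
      let ρ : X →ₗ[F] A := π.comp X.subtype
      let ρ' : X →ₗ[F] A' := π'.comp X.subtype
      have hρ : Function.Injective ρ := by
        rw [← LinearMap.ker_eq_bot, LinearMap.ker_eq_bot']
        intro v hv
        have h3 : (v : V) ∈ X ⊓ A' := by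
          refine ⟨v.2, ?_⟩
          have h4 := hπ v
          have h5 : π (v : V) = 0 := hv
          rw [h5, Submodule.coe_zero, zero_add] at h4
          rw [← h4]; exact (π' (v : V)).2
        rw [h1] at h3
        exact Subtype.ext ((Submodule.mem_bot F).1 h3)
      have hρ' : Function.Injective ρ' := by
        rw [← LinearMap.ker_eq_bot, LinearMap.ker_eq_bot']
        intro v hv
        have h3 : (v : V) ∈ X ⊓ A := by
          refine ⟨v.2, ?_⟩
          have h4 := hπ v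
          have h5 : π' (v : V) = 0 := hv
          rw [h5, Submodule.coe_zero, add_zero] at h4
          rw [← h4]; exact (π (v : V)).2
        rw [h2] at h3
        exact Subtype.ext ((Submodule.mem_bot F).1 h3)
      have surj : ∀ {B : Submodule F V} (hB : Irr x B) (ψ : X →ₗ[F] B), Function.Injective ψ →
          (∀ v : X, ((ψ ⟨x v, hX.inv _ v.2⟩ : B) : V) = x (ψ v)) → Function.Surjective ψ := by
        intro B hB ψ hψ hψx
        have h3 : (LinearMap.range ψ).map B.subtype = B := by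
          refine (hB.min _ (Submodule.map_subtype_le _ _) ?_).resolve_left ?_
          · rintro _ ⟨_, ⟨v, rfl⟩, rfl⟩
            exact ⟨ψ ⟨x v, hX.inv _ v.2⟩, ⟨_, rfl⟩, hψx v⟩
          · intro h4
            obtain ⟨v, hv, hv0⟩ := Submodule.exists_mem_ne_zero_of_ne_bot hX.ne_bot
            have h5 : ((ψ ⟨v, hv⟩ : B) : V) ∈ (LinearMap.range ψ).map B.subtype := ⟨_, ⟨_, rfl⟩, rfl⟩
            rw [h4, Submodule.mem_bot] at h5
            have h6 : ψ ⟨v, hv⟩ = ψ 0 := by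
              rw [map_zero]; exact Subtype.ext h5
            exact hv0 (congrArg Subtype.val (hψ h6))
        intro b
        have h4 : (b : V) ∈ (LinearMap.range ψ).map B.subtype := by rw [h3]; exact b.2
        obtain ⟨_, ⟨v, rfl⟩, hv⟩ := h4
        exact ⟨v, Subtype.ext hv⟩
      have e1 : ∀ v : X, ((ρ ⟨x v, hX.inv _ v.2⟩ : A) : V) = x (ρ v) := fun v => (heq v).1
      have e2 : ∀ v : X, ((ρ' ⟨x v, hX.inv _ v.2⟩ : A') : V) = x (ρ' v) := fun v => (heq v).2
      let E := LinearEquiv.ofBijective ρ ⟨hρ, surj hA ρ hρ e1⟩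
      let E' := LinearEquiv.ofBijective ρ' ⟨hρ', surj hA' ρ' hρ' e2⟩
      refine ⟨E.symm ≪≫ₗ E', fun a ha => ?_⟩
      obtain ⟨v, rfl⟩ := E.surjective a
      have h3 : (⟨x (E v : A), ha⟩ : A) = E ⟨x v, hX.inv _ v.2⟩ := Subtype.ext (e1 v).symm
      rw [h3]
      simp only [LinearEquiv.trans_apply, LinearEquiv.symm_apply_apply]
      exact e2 v
    · left
      have h3 : X ≤ A := by rw [← h2]; exact inf_le_right
      exact (hA.min X h3 hX.inv).resolve_left hX.ne_bot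
  · right
    have h3 : X ≤ A' := by rw [← h1]; exact inf_le_right
    exact (hA'.min X h3 hX.inv).resolve_left hX.ne_bot

theorem charpoly_dualMap [FiniteDimensional F V] (f : V →ₗ[F] V) :
    LinearMap.charpoly (f.dualMap) = LinearMap.charpoly f := by
  classical
  let b := Module.finBasis F V
  rw [← LinearMap.charpoly_toMatrix f b, ← LinearMap.charpoly_toMatrix f.dualMap b.dualBasis]
  have h := LinearMap.toMatrix_transpose (B₁ := b) (B₂ := b) f
  have h2 : (LinearMap.toMatrix b.dualBasis b.dualBasis) f.dualMap = ((LinearMap.toMatrix b b) f).transpose := h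
  rw [h2, Matrix.charpoly_transpose]

end Gen

section Plus

variable {F W : Type*} [Field F] [AddCommGroup W] [Module F W]

/-- the symplectic form on `W × W*` -/
noncomputable def frmP (F W : Type*) [Field F] [AddCommGroup W] [Module F W] : Frm F (W × Dual F W) where
  B x y := y.2 x.1 - x.2 y.1
  q _ := 0
  s a := a
  add_left x y z := by simp only [_root_.Prod.fst_add, _root_.map_add, _root_.Prod.snd_add, _root_.LinearMap.add_apply]; ring
  add_right x y z := by simp only [_root_.Prod.snd_add, _root_.LinearMap.add_apply, _root_.Prod.fst_add, _root_.map_add]; ring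
  smul_left a x y := by simp; ring
  smul_right a x y := by simp; ring
  refl x y h := by
    have h1 : x.2 y.1 - y.2 x.1 = -(y.2 x.1 - x.2 y.1) := by ring
    show x.2 y.1 - y.2 x.1 = 0
    rw [h1, h, neg_zero]
  q_add _ _ _ := (add_zero _).symm

theorem frmP_B (x y : W × Dual F W) : (frmP F W).B x y = y.2 x.1 - x.2 y.1 := rfl

theorem isSp_frmP : IsSp (frmP F W) where
  nd x hx := by
    have h1 : x.1 = 0 := by
      rw [← Module.forall_dual_apply_eq_zero_iff F]
      intro f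
      have := hx (0, f)
      rw [frmP_B] at this
      simpa only [_root_.map_zero, _root_.sub_zero] using this
    have h2 : x.2 = 0 := by
      ext w
      have := hx (w, 0)
      rw [frmP_B] at this
      simpa only [_root_.LinearMap.zero_apply, _root_.zero_sub, _root_.neg_eq_zero] using this
    exact Prod.ext h1 h2
  s _ := rfl
  q _ := rfl
  alt x := by rw [frmP_B]; exact sub_self _

/-- the isometry `(a, a⁻ᵀ)` -/
noncomputable def xa (a : W ≃ₗ[F] W) : (W × Dual F W) ≃ₗ[F] (W × Dual F W) := a.prodCongr a.symm.dualMap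

theorem xa_apply (a : W ≃ₗ[F] W) (v : W × Dual F W) : xa a v = (a v.1, a.symm.dualMap v.2) := rfl

theorem xa_injective : Function.Injective (xa (F := F) (W := W)) := by
  intro a b h
  ext w
  exact congrArg (fun g : (W × Dual F W) ≃ₗ[F] (W × Dual F W) => (g (w, 0)).1) h

theorem xa_mem (a : W ≃ₗ[F] W) : xa a ∈ (frmP F W).Iso := by
  refine ⟨fun x y => ?_, fun _ => rfl⟩
  rw [frmP_B, frmP_B, xa_apply, xa_apply, LinearEquiv.dualMap_apply, LinearEquiv.dualMap_apply,
    LinearEquiv.symm_apply_apply, LinearEquiv.symm_apply_apply]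

/-- the first summand -/
def A1 (F W : Type*) [Field F] [AddCommGroup W] [Module F W] : Submodule F (W × Dual F W) := Submodule.prod ⊤ ⊥
/-- the second summand -/
def A2 (F W : Type*) [Field F] [AddCommGroup W] [Module F W] : Submodule F (W × Dual F W) := Submodule.prod ⊥ ⊤

theorem mem_A1 {v : W × Dual F W} : v ∈ A1 F W ↔ v.2 = 0 := by simp [A1, Submodule.mem_prod]
theorem mem_A2 {v : W × Dual F W} : v ∈ A2 F W ↔ v.1 = 0 := by simp [A2, Submodule.mem_prod]

theorem compl_A : IsCompl (A1 F W) (A2 F W) := by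
  refine ⟨?_, ?_⟩
  · rw [Submodule.disjoint_def]
    intro v h1 h2
    exact Prod.ext (mem_A2.1 h2) (mem_A1.1 h1)
  · rw [codisjoint_iff, eq_top_iff]
    intro v _
    have : v = (v.1, 0) + (0, v.2) := by simp
    rw [this]
    exact Submodule.add_mem_sup (mem_A1.2 rfl) (mem_A2.2 rfl)

theorem TI_A1 : (frmP F W).TI (A1 F W) := by
  refine ⟨fun x hx y hy => ?_, fun _ _ => rfl⟩
  rw [frmP_B, mem_A1.1 hx, mem_A1.1 hy]
  simp

theorem TI_A2 : (frmP F W).TI (A2 F W) := by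
  refine ⟨fun x hx y hy => ?_, fun _ _ => rfl⟩
  rw [frmP_B, mem_A2.1 hx, mem_A2.1 hy]
  simp

/-- `W ≃ A1` -/
def i1 (F W : Type*) [Field F] [AddCommGroup W] [Module F W] : W ≃ₗ[F] A1 F W where
  toFun w := ⟨(w, 0), mem_A1.2 rfl⟩
  invFun v := v.1.1
  map_add' x y := Subtype.ext (by simp)
  map_smul' c x := Subtype.ext (by simp)
  left_inv w := rfl
  right_inv v := Subtype.ext (Prod.ext rfl (mem_A1.1 v.2).symm)

/-- `W* ≃ A2` -/
def i2 (F W : Type*) [Field F] [AddCommGroup W] [Module F W] : Dual F W ≃ₗ[F] A2 F W where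
  toFun f := ⟨(0, f), mem_A2.2 rfl⟩
  invFun v := v.1.2
  map_add' x y := Subtype.ext (by simp)
  map_smul' c x := Subtype.ext (by simp)
  left_inv w := rfl
  right_inv v := Subtype.ext (Prod.ext (mem_A2.1 v.2).symm rfl)

end Plus

section Inv

variable {F V : Type*} [Field F] [AddCommGroup V] [Module F V]

theorem map_eq_of_inv [FiniteDimensional F V] {x : V ≃ₗ[F] V} {Y : Submodule F V} (h : _root_.Cfsg.Agent.H847.Bs.Inv x Y) :
    Y.map (x : V →ₗ[F] V) = Y := by
  apply Submodule.eq_of_le_of_finrank_eq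
  · rintro _ ⟨v, hv, rfl⟩
    exact h v hv
  · exact LinearEquiv.finrank_map_eq x Y

theorem inv_symm [FiniteDimensional F V] {x : V ≃ₗ[F] V} {Y : Submodule F V} (h : _root_.Cfsg.Agent.H847.Bs.Inv x Y) : _root_.Cfsg.Agent.H847.Bs.Inv x.symm Y := by
  intro v hv
  rw [← map_eq_of_inv h] at hv
  obtain ⟨w, hw, rfl⟩ := hv
  show x.symm (x w) ∈ Y
  rwa [x.symm_apply_apply]

theorem irr_of_sub {U : Type*} [AddCommGroup U] [Module F U] {A : Submodule F V} (i : U ≃ₗ[F] A) {y : U ≃ₗ[F] U}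
    {x : V ≃ₗ[F] V} (hxy : ∀ u, x (i u : A) = (i (y u) : A)) (hy : Irr y ⊤) : Irr x A := by
  have hinv : _root_.Cfsg.Agent.H847.Bs.Inv x A := by
    intro v hv
    obtain ⟨u, hu⟩ := i.surjective ⟨v, hv⟩
    have h1 := hxy u
    rw [hu] at h1
    rw [h1]
    exact (i (y u)).2
  refine ⟨hinv, ?_, ?_⟩
  · intro h0
    apply hy.ne_bot
    rw [eq_bot_iff]
    intro u _
    rw [Submodule.mem_bot]
    apply i.injective
    rw [map_zero]
    have h1 : ((i u : A) : V) ∈ (⊥ : Submodule F V) := h0.le (i u).2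
    exact Subtype.ext ((Submodule.mem_bot F).1 h1)
  · intro Y hY hYi
    let Y' : Submodule F U := Y.comap (A.subtype ∘ₗ (i : U →ₗ[F] A))
    have hY' : _root_.Cfsg.Agent.H847.Bs.Inv y Y' := by
      intro u hu
      show ((i (y u) : A) : V) ∈ Y
      rw [← hxy]
      exact hYi _ hu
    rcases hy.min Y' le_top hY' with h1 | h1
    · left
      rw [eq_bot_iff]
      intro v hv
      obtain ⟨u, hu⟩ := i.surjective ⟨v, hY hv⟩
      have h2 : u ∈ Y' := by
        show ((i u : A) : V) ∈ Y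
        rw [hu]; exact hv
      rw [h1, Submodule.mem_bot] at h2
      rw [h2, map_zero] at hu
      exact (Submodule.mem_bot F).2 (congrArg Subtype.val hu).symm
    · right
      apply le_antisymm hY
      intro v hv
      obtain ⟨u, hu⟩ := i.surjective ⟨v, hv⟩
      have h2 : u ∈ Y' := by rw [h1]; exact Submodule.mem_top
      have h3 : ((i u : A) : V) ∈ Y := h2
      rwa [hu] at h3

theorem irr_dual [FiniteDimensional F V] {a : V ≃ₗ[F] V} (h : Irr a ⊤) : Irr a.symm.dualMap ⊤ := by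
  refine ⟨fun _ _ => Submodule.mem_top, ?_, ?_⟩
  · intro h0
    apply h.ne_bot
    rw [eq_bot_iff]
    intro v _
    rw [Submodule.mem_bot, ← Module.forall_dual_apply_eq_zero_iff F]
    intro f
    have hf : f ∈ (⊤ : Submodule F (Dual F V)) := Submodule.mem_top
    rw [h0, Submodule.mem_bot] at hf
    rw [hf]; rfl
  · intro Y _ hY
    have h1 : _root_.Cfsg.Agent.H847.Bs.Inv a.symm Y.dualCoannihilator := by
      intro v hv
      rw [Submodule.mem_dualCoannihilator] at hv ⊢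
      intro f hf
      exact hv _ (hY f hf)
    have h2 : _root_.Cfsg.Agent.H847.Bs.Inv a Y.dualCoannihilator := (inv_symm h1 :)
    rcases h.min _ le_top h2 with h3 | h3
    · right
      rw [← Subspace.dualCoannihilator_dualAnnihilator_eq (W := Y), h3, Submodule.dualAnnihilator_bot]
    · left
      rw [← Subspace.dualCoannihilator_dualAnnihilator_eq (W := Y), h3, Submodule.dualAnnihilator_top]

end Inv

section Plus

variable {F W : Type*} [Field F] [AddCommGroup W] [Module F W]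

theorem irr_A1 {a : W ≃ₗ[F] W} (h : Irr a ⊤) : Irr (xa a) (A1 F W) :=
  irr_of_sub (i1 F W) (fun u => by
    show xa a (u, 0) = (a u, 0)
    rw [xa_apply, map_zero]) h

theorem irr_A2 [FiniteDimensional F W] {a : W ≃ₗ[F] W} (h : Irr a ⊤) : Irr (xa a) (A2 F W) :=
  irr_of_sub (i2 F W) (fun u => by
    show xa a (0, u) = (0, a.symm.dualMap u)
    rw [xa_apply, map_zero]) (irr_dual h)

theorem not_iso [FiniteDimensional F W] {a : W ≃ₗ[F] W}
    (h : LinearMap.charpoly (a : W →ₗ[F] W) ≠ LinearMap.charpoly ((a⁻¹ : W ≃ₗ[F] W) : W →ₗ[F] W)) :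
    ¬ ∃ φ : A1 F W ≃ₗ[F] A2 F W, ∀ v : A1 F W, ∀ hv : xa a v ∈ A1 F W,
      ((φ ⟨xa a v, hv⟩ : A2 F W) : W × Dual F W) = xa a (φ v) := by
  rintro ⟨φ, hφ⟩
  apply h
  let ψ : W ≃ₗ[F] Dual F W := i1 F W ≪≫ₗ φ ≪≫ₗ (i2 F W).symm
  have hψ : ∀ w, ψ (a w) = a.symm.dualMap (ψ w) := by
    intro w
    have h1 : xa a ((i1 F W w : A1 F W) : W × Dual F W) ∈ A1 F W := by
      rw [mem_A1, xa_apply]
      exact map_zero _
    have h2 := hφ (i1 F W w) h1
    have h3 : (⟨xa a ((i1 F W w : A1 F W) : W × Dual F W), h1⟩ : A1 F W) = i1 F W (a w) := by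
      apply Subtype.ext
      show xa a (w, 0) = (a w, 0)
      rw [xa_apply, map_zero]
    rw [h3] at h2
    exact congrArg Prod.snd h2
  have h4 : ψ.conj (a : W →ₗ[F] W) = (a.symm : W →ₗ[F] W).dualMap := by
    ext f
    obtain ⟨w, rfl⟩ := ψ.surjective f
    rw [LinearEquiv.conj_apply_apply, LinearEquiv.symm_apply_apply]
    exact congrArg (fun g : Dual F W => g _) (hψ w)
  have h5 := congrArg LinearMap.charpoly h4
  rw [LinearEquiv.charpoly_conj, charpoly_dualMap] at h5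
  exact h5

/-- an isometry stabilising both summands -/
theorem eq_xa [FiniteDimensional F W] {h : (W × Dual F W) ≃ₗ[F] (W × Dual F W)} (hi : h ∈ (frmP F W).Iso)
    (h1 : (A1 F W).map (h : (W × Dual F W) →ₗ[F] (W × Dual F W)) = A1 F W)
    (h2 : (A2 F W).map (h : (W × Dual F W) →ₗ[F] (W × Dual F W)) = A2 F W) : ∃ a, h = xa a := by
  have m1 : ∀ w : W, (h (w, 0)).2 = 0 := fun w => mem_A1.1 (by rw [← h1]; exact ⟨_, mem_A1.2 rfl, rfl⟩)
  have m2 : ∀ f : Dual F W, (h (0, f)).1 = 0 := fun f => mem_A2.1 (by rw [← h2]; exact ⟨_, mem_A2.2 rfl, rfl⟩)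
  let α : W →ₗ[F] W := LinearMap.fst F W (Dual F W) ∘ₗ (h : (W × Dual F W) →ₗ[F] (W × Dual F W)) ∘ₗ LinearMap.inl F W (Dual F W)
  have hα : ∀ w, α w = (h (w, 0)).1 := fun _ => rfl
  have hinj : Function.Injective α := by
    rw [← LinearMap.ker_eq_bot, LinearMap.ker_eq_bot']
    intro w hw
    have h3 : h (w, 0) = 0 := Prod.ext (by rw [← hα, hw]; rfl) (m1 w)
    have h4 : ((w, 0) : W × Dual F W) = 0 := (h.map_eq_zero_iff).1 h3
    exact congrArg Prod.fst h4
  let a : W ≃ₗ[F] W := LinearEquiv.ofInjectiveEndo α hinj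
  have ha : ∀ w, a w = (h (w, 0)).1 := fun _ => rfl
  refine ⟨a, ?_⟩
  have hf : ∀ f, (h (0, f)).2 = a.symm.dualMap f := by
    intro f
    ext w
    obtain ⟨w, rfl⟩ := a.surjective w
    rw [LinearEquiv.dualMap_apply, LinearEquiv.symm_apply_apply]
    have h5 := hi.1 (w, 0) (0, f)
    rw [frmP_B, frmP_B, m1, ← ha] at h5
    simpa using h5
  apply LinearEquiv.ext
  intro v
  have h6 : v = (v.1, 0) + (0, v.2) := by simp
  have h7 : h v = h (v.1, 0) + h (0, v.2) := by
    rw [← map_add]; congr 1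
  rw [h7, xa_apply]
  apply Prod.ext
  · rw [Prod.fst_add, m2, add_zero, ← ha]
  · rw [Prod.snd_add, m1, zero_add, hf]

/-- **blocks of type plus on `W × W*`** -/
theorem plus_W [Finite F] [FiniteDimensional F W] {j : ℕ}
    (H : ar j / j * Nat.card (W ≃ₗ[F] W) ≤ (Nat.card {x : W ≃ₗ[F] W // Irr x ⊤ ∧
      LinearMap.charpoly (x : W →ₗ[F] W) ≠ LinearMap.charpoly ((x⁻¹ : W ≃ₗ[F] W) : W →ₗ[F] W)} : ℝ)) :
    ar j / (2 * j) * Nat.card (frmP F W).Iso ≤ (Nat.card (frmP F W).Bp : ℝ) := by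
  classical
  have hWf : Finite W := Module.finite_of_finite F
  have hDf : Finite (Dual F W) := Module.finite_of_finite F
  have hfe : Finite ((W × Dual F W) ≃ₗ[F] (W × Dual F W)) := Finite.of_injective _ DFunLike.coe_injective
  have hfw : Finite (W ≃ₗ[F] W) := Finite.of_injective _ DFunLike.coe_injective
  set G := (frmP F W).Iso with hG
  let S : Set (W ≃ₗ[F] W) := {x | Irr x ⊤ ∧
      LinearMap.charpoly (x : W →ₗ[F] W) ≠ LinearMap.charpoly ((x⁻¹ : W ≃ₗ[F] W) : W →ₗ[F] W)}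
  let E : Set ((W × Dual F W) ≃ₗ[F] (W × Dual F W)) := xa '' S
  have hES : Nat.card E = Nat.card S := Nat.card_image_of_injective xa_injective S
  have hBp : ∀ a ∈ S, xa a ∈ (frmP F W).Bp := fun a ha =>
    ⟨xa_mem a, A1 F W, A2 F W, compl_A, TI_A1, TI_A2, irr_A1 ha.1, irr_A2 ha.1, by
      rw [← (i1 F W).finrank_eq, ← (i2 F W).finrank_eq, Subspace.dual_finrank_eq], not_iso ha.2⟩
  have key := card_pairs G E (frmP F W).Bp (2 * Nat.card (W ≃ₗ[F] W)) ?_ ?_
  · rw [hES] at key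
    have keyr : (Nat.card G : ℝ) * Nat.card S ≤ Nat.card (frmP F W).Bp * (2 * Nat.card (W ≃ₗ[F] W)) := by
      exact_mod_cast key
    have hW : (0 : ℝ) < Nat.card (W ≃ₗ[F] W) := by exact_mod_cast Nat.card_pos
    have h1 : (Nat.card G : ℝ) * (ar j / j * Nat.card (W ≃ₗ[F] W)) ≤
        Nat.card (frmP F W).Bp * (2 * Nat.card (W ≃ₗ[F] W)) :=
      (mul_le_mul_of_nonneg_left H (Nat.cast_nonneg _)).trans keyr
    have h2 : (ar j / (2 * j) * Nat.card G) * Nat.card (W ≃ₗ[F] W) ≤ Nat.card (frmP F W).Bp * Nat.card (W ≃ₗ[F] W) := by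
      have h3 : ar j / (2 * j) = ar j / j / 2 := by rw [mul_comm, div_div]
      rw [h3]
      linarith only [h1]
    exact le_of_mul_le_mul_right h2 hW
  · rintro _ ⟨a, ha, rfl⟩
    let m : ((W × Dual F W) ≃ₗ[F] (W × Dual F W)) → Submodule F (W × Dual F W) → Submodule F (W × Dual F W) :=
      fun h Y => Y.map (h : (W × Dual F W) →ₗ[F] (W × Dual F W))
    have hm : ∀ h h' Y, m (h * h') Y = m h (m h' Y) := by
      intro h h' Y
      exact Submodule.map_comp _ _ _
    let S0 : Set ((W × Dual F W) ≃ₗ[F] (W × Dual F W)) := {h | h ∈ G ∧ m h (A1 F W) = A1 F W ∧ m h (A2 F W) = A2 F W}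
    let S1 : Set ((W × Dual F W) ≃ₗ[F] (W × Dual F W)) := {h | h ∈ G ∧ m h (A1 F W) = A2 F W ∧ m h (A2 F W) = A1 F W}
    have c0 : Nat.card S0 ≤ Nat.card (W ≃ₗ[F] W) := by
      have h1 : S0 ⊆ Set.range xa := by
        rintro h ⟨hh, h1, h2⟩
        obtain ⟨b, rfl⟩ := eq_xa hh h1 h2
        exact ⟨b, rfl⟩
      calc Nat.card S0 ≤ Nat.card (Set.range (xa (F := F) (W := W))) := Nat.card_mono (Set.toFinite _) h1
        _ ≤ Nat.card (W ≃ₗ[F] W) := Finite.card_range_le _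
    have c1 : Nat.card S1 ≤ Nat.card S0 := by
      by_cases hne : Nonempty S1
      · obtain ⟨h1, hh1, e1, e2⟩ := hne
        refine Nat.card_le_card_of_injective (fun h => (⟨h1⁻¹ * h.1, G.mul_mem (G.inv_mem hh1) h.2.1, ?_, ?_⟩ : S0)) ?_
        · have h3 : m h1⁻¹ (m h1 (A1 F W)) = A1 F W := by
            rw [← hm, inv_mul_cancel]
            exact Submodule.map_id _
          rw [hm, h.2.2.1, ← e1]
          exact h3
        · have h3 : m h1⁻¹ (m h1 (A2 F W)) = A2 F W := by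
            rw [← hm, inv_mul_cancel]
            exact Submodule.map_id _
          rw [hm, h.2.2.2, ← e2]
          exact h3
        · intro h h' hh
          exact Subtype.ext (mul_left_cancel (congrArg Subtype.val hh))
      · rw [not_nonempty_iff] at hne
        rw [Nat.card_of_isEmpty]
        exact Nat.zero_le _
    have hsub : {h | h ∈ G ∧ h * xa a * h⁻¹ ∈ E} ⊆ S0 ∪ S1 := by
      rintro h ⟨hh, b, hb, hab⟩
      have g1 : ∀ {X : Submodule F (W × Dual F W)}, Irr (xa a) X → Irr (xa b) (m h X) := by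
        intro X hX
        have h1 := Irr_cj (e := h) hX
        rw [hab]
        exact h1
      have f1 := irr_eq compl_A (irr_A1 hb.1) (irr_A2 hb.1) (g1 (irr_A1 ha.1)) (not_iso hb.2)
      have f2 := irr_eq compl_A (irr_A1 hb.1) (irr_A2 hb.1) (g1 (irr_A2 ha.1)) (not_iso hb.2)
      have hne : m h (A1 F W) ≠ m h (A2 F W) := by
        intro h3
        have h4 : A1 F W = A2 F W := Submodule.map_injective_of_injective h.injective h3
        have h5 := (compl_A (F := F) (W := W)).inf_eq_bot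
        rw [← h4, inf_idem] at h5
        exact (irr_A1 ha.1).ne_bot h5
      rcases f1 with f1 | f1
      · rcases f2 with f2 | f2
        · exact absurd (f1.trans f2.symm) hne
        · exact Or.inl ⟨hh, f1, f2⟩
      · rcases f2 with f2 | f2
        · exact Or.inr ⟨hh, f1, f2⟩
        · exact absurd (f1.trans f2.symm) hne
    calc Nat.card {h // h ∈ G ∧ h * xa a * h⁻¹ ∈ E} ≤ Nat.card (S0 ∪ S1 : Set _) :=
          Nat.card_mono (Set.toFinite _) hsub
      _ ≤ Nat.card S0 + Nat.card S1 := Set.ncard_union_le _ _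
      _ ≤ _ := by omega
  · rintro g hg _ ⟨a, ha, rfl⟩
    exact (Bp_cj (e := g) hg.1 hg.2 (hBp a ha) :)

end Plus

/-- **blocks of type plus, symplectic case** (from the count of irreducible elements of `GL`) -/
theorem sp_plus_of {F V : Type*} [Field F] [Finite F] [AddCommGroup V] [Module F V] [FiniteDimensional F V] {Φ : Frm F V}
    (hΦ : IsSp Φ) {j : ℕ} (hj : 1 ≤ j) (hd : finrank F V = 2 * j)
    (H : ar j / j * Nat.card ((Fin j → F) ≃ₗ[F] (Fin j → F)) ≤ (Nat.card {x : (Fin j → F) ≃ₗ[F] (Fin j → F) // Irr x ⊤ ∧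
      LinearMap.charpoly (x : (Fin j → F) →ₗ[F] (Fin j → F)) ≠
        LinearMap.charpoly ((x⁻¹ : (Fin j → F) ≃ₗ[F] (Fin j → F)) : (Fin j → F) →ₗ[F] (Fin j → F))} : ℝ)) :
    ar j / (2 * j) * Nat.card Φ.Iso ≤ (Nat.card Φ.Bp : ℝ) := by
  have hV : Finite V := Module.finite_of_finite F
  have hd' : finrank F V = finrank F ((Fin j → F) × Dual F (Fin j → F)) := by
    rw [Module.finrank_prod, Subspace.dual_finrank_eq, Module.finrank_fin_fun, hd]
    ring
  obtain ⟨e, he, hq⟩ := exists_equiv hΦ (isSp_frmP (F := F) (W := Fin j → F)) hd'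
  obtain ⟨he', hq'⟩ := symm_isom he hq
  have hDf : Finite (Dual F (Fin j → F)) := Module.finite_of_finite F
  have h1 := plus_W (F := F) (W := Fin j → F) (j := j) H
  have h2 : Nat.card Φ.Iso ≤ Nat.card (frmP F (Fin j → F)).Iso := card_Iso_le he hq
  have h3 : Nat.card (frmP F (Fin j → F)).Bp ≤ Nat.card Φ.Bp := by
    have hfe : Finite (V ≃ₗ[F] V) := Finite.of_injective _ DFunLike.coe_injective
    exact Nat.card_le_card_of_injective (fun x => (⟨cj e.symm x.1, Bp_cj he' hq' x.2⟩ : Φ.Bp))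
      fun _ _ h => Subtype.ext (cj_injective e.symm (congrArg Subtype.val h))
  by_cases har : ar j ≤ 0
  · refine le_trans ?_ (Nat.cast_nonneg _)
    exact mul_nonpos_of_nonpos_of_nonneg (div_nonpos_of_nonpos_of_nonneg har (by positivity)) (Nat.cast_nonneg _)
  · push Not at har
    calc ar j / (2 * j) * (Nat.card Φ.Iso : ℝ) ≤ ar j / (2 * j) * Nat.card (frmP F (Fin j → F)).Iso :=
          mul_le_mul_of_nonneg_left (by exact_mod_cast h2) (by positivity)
      _ ≤ _ := h1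
      _ ≤ _ := by exact_mod_cast h3

end Cfsg.Agent.H59.Bs
end

-- part: H46/Bs/Singer
section
/-!
# S5733, BS05: the Singer cycle

`e : V ≃ₗ[F] L` identifies the `F`-space `V` with the field `L ⊇ F`; `mu e t` is the multiplication by `t : Lˣ`.

* `irr_mu` : `mu e t` is irreducible if `t` generates `L`;
* `exists_of_conj` : the elements which conjugate a generator into the Singer cycle;
* `card_mul_le` : for a class `P` of automorphisms, `|GL(V)| |{t : t generates L, P (mu e t)}| ≤ d |Lˣ| |{x : P x}|`.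
-/

set_option autoImplicit false

namespace Cfsg.Agent.H46.Bs

open Cfsg.Agent.H847.Bs

section Singer

variable {F V L : Type*} [Field F] [AddCommGroup V] [Module F V] [Field L] [Algebra F L] (e : V ≃ₗ[F] L)

/-- multiplication by `t` on `L` -/
def mL (F : Type*) {L : Type*} [Field F] [Field L] [Algebra F L] (t : Lˣ) : L ≃ₗ[F] L where
  toFun x := t * x
  invFun x := ↑(t⁻¹) * x
  left_inv x := by simp
  right_inv x := by simp
  map_add' x y := mul_add _ _ _
  map_smul' a x := by simp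

@[simp] theorem mL_apply (t : Lˣ) (x : L) : mL F t x = t * x := rfl

/-- the Singer cycle on `V` -/
def mu (t : Lˣ) : V ≃ₗ[F] V := (e.trans (mL F t)).trans e.symm

@[simp] theorem e_mu (t : Lˣ) (v : V) : e (mu e t v) = t * e v := by simp only [mu, _root_.LinearEquiv.trans_apply, _root_.Cfsg.Agent.H46.Bs.mL_apply, _root_.LinearEquiv.apply_symm_apply]

/-- field automorphisms acting on `V` -/
def au (σ : L ≃ₐ[F] L) : V ≃ₗ[F] V := (e.trans σ.toLinearEquiv).trans e.symm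

@[simp] theorem e_au (σ : L ≃ₐ[F] L) (v : V) : e (au e σ v) = σ (e v) := by simp [au]

theorem mu_mul (s t : Lˣ) : mu e (s * t) = mu e s * mu e t := by
  ext v
  apply e.injective
  rw [LinearEquiv.mul_apply, e_mu, e_mu, e_mu, Units.val_mul, mul_assoc]

theorem mu_one : mu e (1 : Lˣ) = 1 := by
  ext v
  apply e.injective
  rw [e_mu]
  simp

theorem mu_inv (t : Lˣ) : (mu e t)⁻¹ = mu e t⁻¹ := by
  rw [inv_eq_iff_mul_eq_one, ← mu_mul, mul_inv_cancel, mu_one]

theorem irr_mu {t : Lˣ} (ht : Algebra.adjoin F {(t : L)} = ⊤) : Irr (mu e t) ⊤ := by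
  have hne : (⊤ : Submodule F V) ≠ ⊥ := by
    intro h
    have h1 : e.symm 1 ∈ (⊤ : Submodule F V) := Submodule.mem_top
    rw [h, Submodule.mem_bot, LinearEquiv.map_eq_zero_iff] at h1
    exact one_ne_zero h1
  refine ⟨fun v _ => Submodule.mem_top, hne, fun Y _ hY => ?_⟩
  by_cases h0 : Y = ⊥
  · exact Or.inl h0
  · right
    obtain ⟨y, hy, hy0⟩ := Submodule.exists_mem_ne_zero_of_ne_bot h0
    -- `Y` is stable under `L`
    have hS : ∀ a : L, ∀ v ∈ Y, e.symm (a * e v) ∈ Y := by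
      intro a
      have ha : a ∈ Algebra.adjoin F {(t : L)} := by rw [ht]; exact Algebra.mem_top
      induction ha using Algebra.adjoin_induction with
      | mem x hx =>
        intro v hv
        rw [Set.mem_singleton_iff] at hx
        have := hY v hv
        rw [hx]
        have h2 : e.symm (t * e v) = mu e t v := by
          apply e.injective
          rw [e_mu, LinearEquiv.apply_symm_apply]
        rw [h2]
        exact this
      | algebraMap r =>
        intro v hv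
        rw [← Algebra.smul_def, map_smul, LinearEquiv.symm_apply_apply]
        exact Y.smul_mem _ hv
      | add x y _ _ hx hy =>
        intro v hv
        rw [add_mul, map_add]
        exact Y.add_mem (hx v hv) (hy v hv)
      | mul x y _ _ hx hy =>
        intro v hv
        have := hx _ (hy v hv)
        rwa [LinearEquiv.apply_symm_apply, ← mul_assoc] at this
    refine le_antisymm le_top fun v _ => ?_
    have hey : e y ≠ 0 := by simpa using hy0
    have := hS (e v * (e y)⁻¹) y hy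
    rwa [mul_assoc, inv_mul_cancel₀ hey, mul_one, LinearEquiv.symm_apply_apply] at this

/-- elements which map a generator of `L` into the Singer cycle -/
theorem exists_of_conj [Finite L] {t t₀ : Lˣ} (ht : Algebra.adjoin F {(t : L)} = ⊤) {h : V ≃ₗ[F] V}
    (hh : h * mu e t = mu e t₀ * h) : ∃ (σ : L ≃ₐ[F] L) (u : Lˣ), h = mu e u * au e σ ∧ σ t = t₀ := by
  -- transport to `L`
  set k : L → L := fun x => e (h (e.symm x)) with hk
  have kadd : ∀ x y, k (x + y) = k x + k y := fun x y => by simp only [hk, _root_.map_add]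
  have ksmul : ∀ (a : F) x, k (algebraMap F L a * x) = algebraMap F L a * k x := fun a x => by
    simp only [hk]
    rw [← Algebra.smul_def, map_smul, map_smul, map_smul, Algebra.smul_def]
  have kt : ∀ x, k (t * x) = t₀ * k x := fun x => by
    have := congrArg (fun g : V ≃ₗ[F] V => e (g (e.symm x))) hh
    simp only [LinearEquiv.mul_apply, e_mu] at this
    rw [← this]
    simp only [hk]
    congr 2
    apply e.injective
    rw [e_mu, LinearEquiv.apply_symm_apply, LinearEquiv.apply_symm_apply]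
  have kinj : Function.Injective k := fun x y hxy => by
    have := e.injective hxy
    exact e.symm.injective (h.injective this)
  have k0 : k 0 = 0 := by simp only [hk, _root_.map_zero]
  have hu : k 1 ≠ 0 := fun h1 => one_ne_zero (kinj (h1.trans k0.symm))
  have hS : ∀ x y, k (x * y) * k 1 = k x * k y := by
    intro x
    have ha : x ∈ Algebra.adjoin F {(t : L)} := by rw [ht]; exact Algebra.mem_top
    induction ha using Algebra.adjoin_induction with
    | mem x hx =>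
      intro y
      rw [Set.mem_singleton_iff] at hx
      have h1 : k t = t₀ * k 1 := by rw [← kt 1, mul_one]
      rw [hx, kt, h1]
      ring
    | algebraMap r =>
      intro y
      have h1 : k (algebraMap F L r) = algebraMap F L r * k 1 := by rw [← ksmul r 1, mul_one]
      rw [ksmul, h1]
      ring
    | add x x' _ _ hx hx' =>
      intro y
      rw [add_mul, kadd, kadd, add_mul, add_mul, hx, hx']
    | mul x x' _ _ hx hx' =>
      intro y
      apply mul_right_cancel₀ hu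
      rw [mul_assoc x x' y, hx (x' * y), mul_assoc, hx' y, ← mul_assoc, ← hx x']
      ring
  let σ₀ : L →ₐ[F] L :=
    { toFun := fun x => k x * (k 1)⁻¹
      map_one' := mul_inv_cancel₀ hu
      map_mul' := fun x y => by
        have := hS x y
        field_simp
        exact this
      map_zero' := by rw [k0, zero_mul]
      map_add' := fun x y => by rw [kadd, add_mul]
      commutes' := fun a => by
        have h1 : k (algebraMap F L a) = algebraMap F L a * k 1 := by rw [← ksmul a 1, mul_one]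
        rw [h1, mul_assoc, mul_inv_cancel₀ hu, mul_one] }
  have hbij : Function.Bijective σ₀ := Finite.injective_iff_bijective.1 σ₀.toRingHom.injective
  let σ : L ≃ₐ[F] L := AlgEquiv.ofBijective σ₀ hbij
  refine ⟨σ, Units.mk0 (k 1) hu, ?_, ?_⟩
  · ext v
    apply e.injective
    rw [LinearEquiv.mul_apply, e_mu, e_au, Units.val_mk0]
    show e (h v) = k 1 * (k (e v) * (k 1)⁻¹)
    have h1 : k (e v) = e (h v) := by simp [hk]
    rw [h1]
    field_simp
  · show k t * (k 1)⁻¹ = t₀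
    have h1 : k t = t₀ * k 1 := by rw [← kt 1, mul_one]
    rw [h1, mul_assoc, mul_inv_cancel₀ hu, mul_one]

/-- The count: `P` is a conjugation invariant class. -/
theorem card_mul_le [Finite L] (P : (V ≃ₗ[F] V) → Prop) (hP : ∀ g x, P x → P (g * x * g⁻¹)) :
    Nat.card (V ≃ₗ[F] V) * Nat.card {t : Lˣ // Algebra.adjoin F {(t : L)} = ⊤ ∧ P (mu e t)} ≤
      Module.finrank F L * Nat.card Lˣ * Nat.card {x : V ≃ₗ[F] V // P x} := by
  classical
  have hfV : Finite V := Finite.of_equiv L e.symm.toEquiv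
  have hfA : Finite (V ≃ₗ[F] V) := Finite.of_injective (fun g : V ≃ₗ[F] V => (g : V → V)) DFunLike.coe_injective
  have hfG : Finite (L ≃ₐ[F] L) := Finite.of_injective (fun g : L ≃ₐ[F] L => (g : L → L)) DFunLike.coe_injective
  have hfF : Finite F := Finite.of_injective (algebraMap F L) (algebraMap F L).injective
  have hfin : Module.Finite F L := Module.Finite.of_finite
  set E := {t : Lˣ // Algebra.adjoin F {(t : L)} = ⊤ ∧ P (mu e t)} with hE
  by_cases hne : Nonempty E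
  · have := hne
    let φ : (V ≃ₗ[F] V) × E → {x : V ≃ₗ[F] V // P x} := fun p => ⟨p.1 * mu e p.2.1 * p.1⁻¹, hP _ _ p.2.2.2⟩
    let ψ : {x : V ≃ₗ[F] V // P x} → (V ≃ₗ[F] V) × E := Function.invFun φ
    have key : ∀ p : (V ≃ₗ[F] V) × E, ∃ q : (L ≃ₐ[F] L) × Lˣ × {x : V ≃ₗ[F] V // P x},
        p.1 = (ψ q.2.2).1 * (mu e q.2.1 * au e q.1) ∧ ((p.2.1 : Lˣ) : L) = q.1.symm ((ψ q.2.2).2.1 : L) := by
      rintro ⟨g, t⟩
      set y := φ (g, t) with hy
      have h1 : φ (ψ y) = y := Function.invFun_eq ⟨(g, t), rfl⟩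
      set g₀ := (ψ y).1 with hg₀
      set t₀ := (ψ y).2 with ht₀
      have h2 : g₀ * mu e t₀.1 * g₀⁻¹ = g * mu e t.1 * g⁻¹ := by
        have := congrArg Subtype.val h1
        exact this
      have h3 : (g₀⁻¹ * g) * mu e t.1 = mu e t₀.1 * (g₀⁻¹ * g) := by
        have h4 : g₀⁻¹ * (g₀ * mu e t₀.1 * g₀⁻¹) * g = g₀⁻¹ * (g * mu e t.1 * g⁻¹) * g := by rw [h2]
        simp only [mul_assoc, inv_mul_cancel_left, inv_mul_cancel, mul_one] at h4 ⊢
        exact h4.symm
      obtain ⟨σ, u, h5, h6⟩ := exists_of_conj e t.2.1 h3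
      refine ⟨(σ, u, y), ?_, ?_⟩
      · show g = g₀ * (mu e u * au e σ)
        rw [← h5, mul_inv_cancel_left]
      · show ((t.1 : Lˣ) : L) = σ.symm ((t₀.1 : Lˣ) : L)
        rw [← h6, AlgEquiv.symm_apply_apply]
    choose f hf1 hf2 using key
    have hinj : Function.Injective f := by
      intro p p' hpp
      have h1 := hf1 p
      have h1' := hf1 p'
      have h2 := hf2 p
      have h2' := hf2 p'
      rw [hpp] at h1 h2
      refine Prod.ext (h1.trans h1'.symm) (Subtype.ext (Units.ext (h2.trans h2'.symm)))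
    have hcard := Nat.card_le_card_of_injective f hinj
    rw [Nat.card_prod, Nat.card_prod, Nat.card_prod] at hcard
    have hgal : Nat.card (L ≃ₐ[F] L) ≤ Module.finrank F L := by
      have : IsGalois F L := inferInstance
      exact (IsGalois.card_aut_eq_finrank F L).le
    calc _ ≤ Nat.card (L ≃ₐ[F] L) * (Nat.card Lˣ * Nat.card {x : V ≃ₗ[F] V // P x}) := hcard
      _ ≤ Module.finrank F L * (Nat.card Lˣ * Nat.card {x : V ≃ₗ[F] V // P x}) := Nat.mul_le_mul_right _ hgal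
      _ = _ := (mul_assoc _ _ _).symm
  · rw [not_nonempty_iff] at hne
    have := hne
    rw [Nat.card_of_isEmpty (α := E), mul_zero]
    exact Nat.zero_le _

end Singer

end Cfsg.Agent.H46.Bs
end

-- part: H46/Bs/FieldCount
section
/-!
# S5733, BS05: counting in a finite field extension

`L / F` finite fields, `d = [L : F]`, `q = |F|`.

* `card_nongen_le` : at most `∑ e ∈ [1, d/2], (q ^ e - 1)` units do not generate `L` over `F`;
* `card_norm_mul` : the number of units of given norm;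
* `card_twist_le` : at most `3 + s`, `s² ≤ |L|`, generators `t` satisfy `τ t = t⁻¹` for an involution `τ` of `L`.
-/

set_option autoImplicit false

namespace Cfsg.Agent.H46.Bs

section Count

theorem card_pow_eq_one_le (L : Type*) [Field L] (k : ℕ) (hk : 0 < k) : Nat.card {t : Lˣ // t ^ k = 1} ≤ k := by
  have : NeZero k := ⟨hk.ne'⟩
  exact _root_.card_rootsOfUnity L k

variable (F L : Type*) [Field F] [Field L] [Algebra F L] [Finite L]

open Classical in
/-- the units which do not generate -/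
theorem nongen {t : Lˣ} (ht : Algebra.adjoin F {(t : L)} ≠ ⊤) :
    ∃ e ∈ Finset.Icc 1 (Module.finrank F L / 2), t ^ (Nat.card F ^ e - 1) = 1 := by
  have hfF : Finite F := Finite.of_injective (algebraMap F L) (algebraMap F L).injective
  have hfin : Module.Finite F L := Module.Finite.of_finite
  set K := IntermediateField.adjoin F {(t : L)} with hK
  have hsub : K.toSubalgebra = Algebra.adjoin F {(t : L)} :=
    IntermediateField.adjoin_simple_toSubalgebra_of_isAlgebraic (IsAlgebraic.of_finite F _)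
  have hne : K ≠ ⊤ := by
    intro h
    apply ht
    rw [← hsub, h, IntermediateField.top_toSubalgebra]
  have hmul := Module.finrank_mul_finrank F K L
  have hKL : Module.finrank K L ≠ 1 := by
    intro h
    apply hne
    exact IntermediateField.finrank_eq_one_iff_eq_top.1 h
  have hKL0 : 0 < Module.finrank K L := Module.finrank_pos
  have hFK0 : 0 < Module.finrank F K := Module.finrank_pos
  refine ⟨Module.finrank F K, Finset.mem_Icc.2 ⟨hFK0, ?_⟩, ?_⟩
  · rw [Nat.le_div_iff_mul_le (by norm_num), ← hmul]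
    exact Nat.mul_le_mul_left _ (by omega)
  · have hcard : Nat.card K = Nat.card F ^ Module.finrank F K := Module.natCard_eq_pow_finrank
    have htK : (t : L) ∈ K := IntermediateField.mem_adjoin_simple_self F _
    have : Fintype K := Fintype.ofFinite K
    have h1 := FiniteField.pow_card_sub_one_eq_one (⟨(t : L), htK⟩ : K) (fun h => t.ne_zero (congrArg Subtype.val h))
    rw [← Nat.card_eq_fintype_card, hcard] at h1
    have h2 := congrArg Subtype.val h1
    ext
    simpa only [_root_.Units.val_pow_eq_pow_val, _root_.Units.val_one, _root_.SubmonoidClass.mk_pow, _root_.OneMemClass.coe_one] using h2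

theorem card_nongen_le : Nat.card {t : Lˣ // Algebra.adjoin F {(t : L)} ≠ ⊤} ≤
    ∑ e ∈ Finset.Icc 1 (Module.finrank F L / 2), (Nat.card F ^ e - 1) := by
  classical
  have hfF : Finite F := Finite.of_injective (algebraMap F L) (algebraMap F L).injective
  have hq : 1 < Nat.card F := Finite.one_lt_card
  have : Fintype Lˣ := Fintype.ofFinite _
  have h1 : Nat.card {t : Lˣ // Algebra.adjoin F {(t : L)} ≠ ⊤} =
      (Finset.univ.filter fun t : Lˣ => Algebra.adjoin F {(t : L)} ≠ ⊤).card := by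
    rw [Nat.card_eq_fintype_card, Fintype.card_subtype]
  rw [h1]
  calc _ ≤ ((Finset.Icc 1 (Module.finrank F L / 2)).biUnion
        fun e => Finset.univ.filter fun t : Lˣ => t ^ (Nat.card F ^ e - 1) = 1).card := by
        apply Finset.card_le_card
        intro t ht
        rw [Finset.mem_filter] at ht
        obtain ⟨e, he, h2⟩ := nongen F L ht.2
        exact Finset.mem_biUnion.2 ⟨e, he, Finset.mem_filter.2 ⟨Finset.mem_univ _, h2⟩⟩
    _ ≤ ∑ e ∈ Finset.Icc 1 (Module.finrank F L / 2), (Finset.univ.filter fun t : Lˣ => t ^ (Nat.card F ^ e - 1) = 1).card :=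
        Finset.card_biUnion_le
    _ ≤ _ := by
        apply Finset.sum_le_sum
        intro e he
        rw [Finset.mem_Icc] at he
        have h3 := card_pow_eq_one_le L (Nat.card F ^ e - 1) (Nat.sub_pos_of_lt (Nat.one_lt_pow (by omega) hq))
        rwa [Nat.card_eq_fintype_card, Fintype.card_subtype] at h3

/-- the number of generators with a property -/
theorem card_le_gen (P : Lˣ → Prop) : Nat.card {t : Lˣ // P t} ≤
    Nat.card {t : Lˣ // Algebra.adjoin F {(t : L)} = ⊤ ∧ P t} +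
      ∑ e ∈ Finset.Icc 1 (Module.finrank F L / 2), (Nat.card F ^ e - 1) := by
  classical
  refine le_trans ?_ (Nat.add_le_add_left (card_nongen_le F L) _)
  have : Fintype Lˣ := Fintype.ofFinite _
  simp only [Nat.card_eq_fintype_card, Fintype.card_subtype]
  rw [← Finset.card_union_of_disjoint]
  · apply Finset.card_le_card
    intro t ht
    rw [Finset.mem_filter] at ht
    rw [Finset.mem_union, Finset.mem_filter, Finset.mem_filter]
    by_cases h : Algebra.adjoin F {(t : L)} = ⊤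
    · exact Or.inl ⟨Finset.mem_univ _, h, ht.2⟩
    · exact Or.inr ⟨Finset.mem_univ _, h⟩
  · rw [Finset.disjoint_filter]
    intro t _ h1 h2
    exact h2 h1.1

theorem card_norm_mul (κ : F) (hκ : κ ≠ 0) : Nat.card {t : Lˣ // Algebra.norm F (t : L) = κ} * (Nat.card F - 1) =
    Nat.card Lˣ := by
  classical
  have hfF : Finite F := Finite.of_injective (algebraMap F L) (algebraMap F L).injective
  set f : Lˣ →* Fˣ := Units.map (Algebra.norm F (S := L)) with hf
  have hs : Function.Surjective f := FiniteField.unitsMap_norm_surjective F L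
  have h1 : Nat.card {t : Lˣ // Algebra.norm F (t : L) = κ} = Nat.card f.ker := by
    apply Nat.card_congr
    refine Equiv.trans (Equiv.subtypeEquivRight ?_) (MonoidHom.fiberEquivKerOfSurjective hs (Units.mk0 κ hκ))
    intro t
    rw [Set.mem_preimage, Set.mem_singleton_iff, Units.ext_iff]
    rfl
  have h2 : Nat.card f.ker * Nat.card f.range = Nat.card Lˣ := by
    rw [← Subgroup.index_ker f]
    exact Subgroup.card_mul_index _
  rw [h1, ← h2, MonoidHom.range_eq_top.2 hs, Subgroup.card_top, Nat.card_units]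

/-- A ring endomorphism `τ` of a finite field with `τ² = 1` -/
theorem exists_root_of_invol (L : Type*) [Field L] [Finite L] : ∃ s : ℕ, s ^ 2 ≤ Nat.card L ∧
    ∀ τ : L →+* L, (∀ x, τ (τ x) = x) → ∀ t : Lˣ, τ t = (t : L)⁻¹ → t ^ 2 = 1 ∨ t ^ (s + 1) = 1 := by
  classical
  set p := ringChar L with hp
  have hpp : Fact p.Prime := ⟨CharP.char_is_prime L p⟩
  let _ := ZMod.algebra L p
  have hfL : Fintype L := Fintype.ofFinite L
  set N := Module.finrank (ZMod p) L with hN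
  have hN0 : 0 < N := Module.finrank_pos
  have hcard : Nat.card L = p ^ N := by
    have h0 : Nat.card L = Nat.card (ZMod p) ^ N := Module.natCard_eq_pow_finrank
    rwa [Nat.card_zmod] at h0
  have hp1 : 1 < p := hpp.1.one_lt
  refine ⟨p ^ (N / 2), ?_, ?_⟩
  · rw [hcard, ← pow_mul]
    exact Nat.pow_le_pow_right (by omega) (Nat.div_mul_le_self _ _)
  · intro τ hτ t ht
    let τ₁ : L ≃ₐ[ZMod p] L := AlgEquiv.ofRingEquiv (f := RingEquiv.ofBijective τ
      (Finite.injective_iff_bijective.1 τ.injective)) (fun r => by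
        show τ (algebraMap (ZMod p) L r) = algebraMap (ZMod p) L r
        exact RingHom.congr_fun (Subsingleton.elim (τ.comp (algebraMap (ZMod p) L)) (algebraMap (ZMod p) L)) r)
    obtain ⟨⟨i, hi⟩, hi'⟩ := (FiniteField.bijective_frobeniusAlgEquivOfAlgebraic_pow (ZMod p) L).2 τ₁
    have hτi : ∀ x, τ x = x ^ (p ^ i) := by
      intro x
      have h1 : τ₁ x = τ x := rfl
      rw [← h1, ← hi']
      show (FiniteField.frobeniusAlgEquivOfAlgebraic (ZMod p) L ^ i) x = _
      rw [AlgEquiv.coe_pow, FiniteField.coe_frobeniusAlgEquivOfAlgebraic_iterate, ZMod.card]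
    have hτ1 : τ₁ ^ 2 = 1 := by
      ext x
      rw [pow_two]
      exact hτ x
    have hord : N ∣ i * 2 := by
      rw [hN, ← FiniteField.orderOf_frobeniusAlgEquivOfAlgebraic (ZMod p) L, orderOf_dvd_iff_pow_eq_one, pow_mul]
      have h2 : FiniteField.frobeniusAlgEquivOfAlgebraic (ZMod p) L ^ i = τ₁ := hi'
      rw [h2, hτ1]
    obtain ⟨c, hc⟩ := hord
    have hi2 : i * 2 < N * 2 := Nat.mul_lt_mul_of_pos_right hi (by norm_num)
    have hc2 : c < 2 := by
      rw [hc] at hi2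
      exact Nat.lt_of_mul_lt_mul_left hi2
    have htt : t ^ (p ^ i + 1) = 1 := by
      ext
      rw [Units.val_pow_eq_pow_val, pow_succ, ← hτi, ht, inv_mul_cancel₀ t.ne_zero]
      rfl
    interval_cases c
    · left
      have : i = 0 := by omega
      rw [this] at htt
      simpa only [_root_.pow_zero, _root_.Nat.reduceAdd] using htt
    · right
      have : i = N / 2 := by omega
      rwa [this] at htt

end Count

end Cfsg.Agent.H46.Bs
end

-- part: H46/Bs/GL
section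
/-!
# S5733, BS05: block counts in `GL(V)`

* `gl_irr` : at least `ar d / d |GL(V)|` elements are irreducible;
* `gl_irr_det` : `|GL(V)| ≤ 4 d (q - 1) |{x irreducible of determinant κ}|` (`8 ≤ d`);
* `gl_irr_ns` : at least `ar d / d |GL(V)|` elements are irreducible and not conjugate to the `σ`-twisted inverse.
-/

set_option autoImplicit false

namespace Cfsg.Agent.H46.Bs

open Cfsg.Agent.H847.Bs Polynomial

section Tools

variable {F V L : Type*} [Field F] [AddCommGroup V] [Module F V] [Field L] [Algebra F L] (e : V ≃ₗ[F] L)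

theorem mu_eq_conj (t : Lˣ) : (mu e t : V →ₗ[F] V) = e.symm.conj (Algebra.lmul F L (t : L)) := by
  ext v
  apply e.injective
  simp only [LinearEquiv.conj_apply, _root_.LinearEquiv.coe_coe, _root_.Cfsg.Agent.H46.Bs.e_mu, _root_.Algebra.coe_lmul_eq_mul, _root_.LinearEquiv.symm_symm, _root_.LinearMap.coe_comp, _root_.Function.comp_apply, _root_.LinearMap.mul_apply_apply, _root_.LinearEquiv.apply_symm_apply]

theorem det_mu (t : Lˣ) : LinearMap.det (mu e t : V →ₗ[F] V) = Algebra.norm F (t : L) := by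
  rw [mu_eq_conj, LinearEquiv.conj_apply, LinearMap.comp_assoc, LinearMap.det_conj]
  rfl

theorem aeval_mu (t : Lˣ) (f : F[X]) : Polynomial.aeval (mu e t : V →ₗ[F] V) f =
    e.symm.conj (Algebra.lmul F L (Polynomial.aeval (t : L) f)) := by
  rw [mu_eq_conj, ← Polynomial.aeval_algHom_apply (Algebra.lmul F L)]
  have h : ∀ g : Module.End F L, e.symm.conj g = (LinearEquiv.conjAlgEquiv F e.symm : Module.End F L →ₐ[F] Module.End F V) g := fun _ => rfl
  rw [h, h, Polynomial.aeval_algHom_apply]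

theorem aeval_mu_eq_zero {t : Lˣ} {f : F[X]} (h : Polynomial.aeval (mu e t : V →ₗ[F] V) f = 0) :
    Polynomial.aeval (t : L) f = 0 := by
  rw [aeval_mu] at h
  have h1 : Algebra.lmul F L (Polynomial.aeval (t : L) f) = 0 := by
    apply e.symm.conj.injective
    rw [h, map_zero]
  have h2 := LinearMap.congr_fun h1 1
  simpa only [_root_.Algebra.coe_lmul_eq_mul, _root_.LinearMap.mul_apply_apply, _root_.mul_one, _root_.LinearMap.zero_apply] using h2

end Tools

section Twist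

variable {F L : Type*} [Field F] [Field L] [Algebra F L] [Finite L]

theorem adjoin_inv {t : Lˣ} (ht : Algebra.adjoin F {(t : L)} = ⊤) : Algebra.adjoin F {((t⁻¹ : Lˣ) : L)} = ⊤ := by
  have hfin : Module.Finite F L := Module.Finite.of_finite
  have h1 : (IntermediateField.adjoin F {((t⁻¹ : Lˣ) : L)}).toSubalgebra = Algebra.adjoin F {((t⁻¹ : Lˣ) : L)} :=
    IntermediateField.adjoin_simple_toSubalgebra_of_isAlgebraic (IsAlgebraic.of_finite F _)
  rw [← h1, eq_top_iff, ← ht]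
  apply Algebra.adjoin_le
  intro x hx
  rw [Set.mem_singleton_iff] at hx
  rw [hx]
  show (t : L) ∈ IntermediateField.adjoin F {((t⁻¹ : Lˣ) : L)}
  have h2 := inv_mem (IntermediateField.mem_adjoin_simple_self F ((t⁻¹ : Lˣ) : L))
  simpa using h2

theorem natDegree_minpoly {t : Lˣ} (ht : Algebra.adjoin F {(t : L)} = ⊤) :
    (minpoly F (t : L)).natDegree = Module.finrank F L := by
  have hfin : Module.Finite F L := Module.Finite.of_finite
  have h1 : (IntermediateField.adjoin F {(t : L)}).toSubalgebra = Algebra.adjoin F {(t : L)} :=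
    IntermediateField.adjoin_simple_toSubalgebra_of_isAlgebraic (IsAlgebraic.of_finite F _)
  have h2 : IntermediateField.adjoin F {(t : L)} = ⊤ := by
    rw [← IntermediateField.toSubalgebra_inj, h1, ht, IntermediateField.top_toSubalgebra]
  rw [← IntermediateField.adjoin.finrank (IsIntegral.of_finite F (t : L)), h2, IntermediateField.finrank_top']

/-- the twisting endomorphism -/
theorem exists_tau (σ : F →+* F) (hσ : ∀ a, σ (σ a) = a) {t : Lˣ} (ht : Algebra.adjoin F {(t : L)} = ⊤)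
    {f : F[X]} (hf : f.Monic) (hdeg : f.natDegree ≤ Module.finrank F L)
    (h1 : Polynomial.aeval ((t⁻¹ : Lˣ) : L) f = 0) (h2 : Polynomial.aeval (t : L) (f.map σ) = 0) :
    ∃ τ : L →+* L, (∀ x, τ (τ x) = x) ∧ τ t = (t : L)⁻¹ := by
  have hfin : Module.Finite F L := Module.Finite.of_finite
  set u : L := ((t⁻¹ : Lˣ) : L) with hu
  have hut : u = (t : L)⁻¹ := Units.val_inv_eq_inv_val t
  have hui : IsIntegral F u := IsIntegral.of_finite F u
  have hadj := adjoin_inv ht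
  have hdm : (minpoly F u).natDegree = Module.finrank F L := natDegree_minpoly hadj
  have hfeq : minpoly F u = f := by
    apply Polynomial.eq_of_monic_of_associated (minpoly.monic hui) hf
    apply Polynomial.associated_of_dvd_of_natDegree_le (minpoly.dvd F u h1) hf.ne_zero
    rw [hdm]
    exact hdeg
  have hirr : Fact (Irreducible f) := ⟨hfeq ▸ minpoly.irreducible hui⟩
  -- `L = F[X] / (f)`
  let α : AdjoinRoot f →ₐ[F] L := AdjoinRoot.liftAlgHom f (Algebra.ofId F L) u (by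
    rw [Polynomial.aeval_def] at h1
    exact h1)
  have hαr : α (AdjoinRoot.root f) = u := AdjoinRoot.liftAlgHom_root _ _ _ _
  have hαs : Function.Surjective α := by
    rw [← AlgHom.range_eq_top, eq_top_iff, ← hadj]
    apply Algebra.adjoin_le
    intro x hx
    rw [Set.mem_singleton_iff] at hx
    rw [hx]
    exact ⟨AdjoinRoot.root f, hαr⟩
  have hαi : Function.Injective α := α.toRingHom.injective
  let β : AdjoinRoot f ≃ₐ[F] L := AlgEquiv.ofBijective α ⟨hαi, hαs⟩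
  have hβ : β.symm u = AdjoinRoot.root f := by
    rw [AlgEquiv.symm_apply_eq]
    exact hαr.symm
  have h3 : f.eval₂ ((algebraMap F L).comp σ) (t : L) = 0 := by
    rw [Polynomial.aeval_def, Polynomial.eval₂_map] at h2
    exact h2
  let τ : L →+* L := (AdjoinRoot.lift ((algebraMap F L).comp σ) (t : L) h3).comp (β.symm : L →+* AdjoinRoot f)
  have hτu : τ u = t := by
    show AdjoinRoot.lift ((algebraMap F L).comp σ) (t : L) h3 (β.symm u) = t
    rw [hβ, AdjoinRoot.lift_root]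
  have hτF : ∀ a : F, τ (algebraMap F L a) = algebraMap F L (σ a) := by
    intro a
    show AdjoinRoot.lift ((algebraMap F L).comp σ) (t : L) h3 (β.symm (algebraMap F L a)) = _
    rw [AlgEquiv.commutes]
    exact AdjoinRoot.lift_of h3
  have hτt : τ t = (t : L)⁻¹ := by
    have h4 : (t : L) = u⁻¹ := by rw [hut, inv_inv]
    rw [← hut]
    nth_rw 1 [h4]
    rw [map_inv₀, hτu, hut]
  refine ⟨τ, ?_, hτt⟩
  intro x
  have hx : x ∈ Algebra.adjoin F {(t : L)} := by rw [ht]; exact Algebra.mem_top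
  induction hx using Algebra.adjoin_induction with
  | mem x hx =>
    rw [Set.mem_singleton_iff] at hx
    rw [hx, hτt, ← hut, hτu]
  | algebraMap r => rw [hτF, hτF, hσ]
  | add x y _ _ hx hy => rw [map_add, map_add, hx, hy]
  | mul x y _ _ hx hy => rw [map_mul, map_mul, hx, hy]

end Twist

section Main

variable {F V : Type*} [Field F] [Finite F] [AddCommGroup V] [Module F V] [Module.Finite F V]

/-- the Singer field -/
theorem exists_singer (F V : Type*) [Field F] [Finite F] [AddCommGroup V] [Module F V] [Module.Finite F V]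
    (hd : 1 ≤ Module.finrank F V) : ∃ (L : Type) (_ : Field L) (_ : Algebra F L) (_ : Finite L),
      Nonempty (V ≃ₗ[F] L) ∧ Module.finrank F L = Module.finrank F V := by
  classical
  obtain ⟨p, hp⟩ := CharP.exists F
  have hpp : Fact p.Prime := ⟨CharP.char_is_prime F p⟩
  have hn : NeZero (Module.finrank F V) := ⟨by omega⟩
  refine ⟨FiniteField.Extension F p (Module.finrank F V), inferInstance, inferInstance, inferInstance, ?_, ?_⟩
  · exact ⟨LinearEquiv.ofFinrankEq _ _ (FiniteField.finrank_extension F p _).symm⟩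
  · exact FiniteField.finrank_extension F p _

omit [Finite F] [Module.Finite F V] in
theorem irr_conj {x : V ≃ₗ[F] V} (g : V ≃ₗ[F] V) (h : Irr x ⊤) : Irr (g * x * g⁻¹) ⊤ := by
  refine ⟨fun _ _ => Submodule.mem_top, h.ne_bot, fun Y _ hY => ?_⟩
  have h1 : _root_.Cfsg.Agent.H847.Bs.Inv x (Y.comap (g : V →ₗ[F] V)) := by
    intro v hv
    have h2 : g v ∈ Y := hv
    have h3 := hY _ h2
    have h4 : (g * x * g⁻¹) (g v) = g (x v) := by
      rw [LinearEquiv.mul_apply, LinearEquiv.mul_apply]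
      have : g⁻¹ (g v) = v := g.symm_apply_apply v
      rw [this]
    rw [h4] at h3
    exact h3
  have hsurj : ∀ v, ∃ w, g w = v := g.surjective
  rcases h.min _ le_top h1 with h2 | h2
  · left
    rw [eq_bot_iff]
    intro v hv
    obtain ⟨w, rfl⟩ := hsurj v
    have h3 : w ∈ Y.comap (g : V →ₗ[F] V) := hv
    rw [h2, Submodule.mem_bot] at h3
    rw [h3, map_zero]
    exact Submodule.zero_mem _
  · right
    rw [eq_top_iff]
    intro v _
    obtain ⟨w, rfl⟩ := hsurj v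
    have h3 : w ∈ Y.comap (g : V →ₗ[F] V) := by rw [h2]; exact Submodule.mem_top
    exact h3

omit [Finite F] [Module.Finite F V] in
theorem coe_conj (g x : V ≃ₗ[F] V) : ((g * x * g⁻¹ : V ≃ₗ[F] V) : V →ₗ[F] V) = g.conj (x : V →ₗ[F] V) := rfl

theorem geom_le (q m : ℕ) (hq : 2 ≤ q) : (q - 1) * (∑ e ∈ Finset.Icc 1 m, (q ^ e - 1)) ≤ q ^ (m + 1) := by
  induction m with
  | zero => simp only [_root_.Order.lt_one_iff, _root_.Finset.Icc_eq_empty_of_lt, _root_.Finset.sum_empty, _root_.MulZeroClass.mul_zero, _root_.zero_add, _root_.pow_one, _root_.zero_le]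
  | succ m ih =>
    rw [Finset.sum_Icc_succ_top (by omega), mul_add]
    have h1 : (q - 1) * (q ^ (m + 1) - 1) ≤ (q - 1) * q ^ (m + 1) := Nat.mul_le_mul_left _ (Nat.sub_le _ _)
    have h2 : q ^ (m + 1) + (q - 1) * q ^ (m + 1) = q ^ (m + 1 + 1) := by
      obtain ⟨k, rfl⟩ : ∃ k, q = k + 1 := ⟨q - 1, by omega⟩
      rw [Nat.add_sub_cancel, pow_succ (k + 1) (m + 1)]
      ring
    omega

/-- irreducible elements of given determinant -/
theorem gl_irr_det (F V : Type*) [Field F] [Finite F] [AddCommGroup V] [Module F V] [Module.Finite F V] {d : ℕ}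
    (hd : Module.finrank F V = d) (h8 : 8 ≤ d) (κ : F) (hκ : κ ≠ 0) :
    Nat.card (V ≃ₗ[F] V) ≤ 4 * d * (Nat.card F - 1) *
      Nat.card {x : V ≃ₗ[F] V // Irr x ⊤ ∧ LinearMap.det (x : V →ₗ[F] V) = κ} := by
  obtain ⟨L, _, _, _, ⟨e⟩, hfr⟩ := exists_singer F V (by omega)
  have hfin : Module.Finite F L := Module.Finite.of_finite
  have hmain := card_mul_le e (fun x => Irr x ⊤ ∧ LinearMap.det (x : V →ₗ[F] V) = κ) (by
    rintro g x ⟨h1, h2⟩
    refine ⟨irr_conj g h1, ?_⟩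
    rw [coe_conj, LinearEquiv.conj_apply, LinearMap.comp_assoc, LinearMap.det_conj]
    exact h2)
  rw [hfr, hd] at hmain
  have hE : Nat.card {t : Lˣ // Algebra.adjoin F {(t : L)} = ⊤ ∧ Irr (mu e t) ⊤ ∧
      LinearMap.det (mu e t : V →ₗ[F] V) = κ} =
      Nat.card {t : Lˣ // Algebra.adjoin F {(t : L)} = ⊤ ∧ Algebra.norm F (t : L) = κ} := by
    apply Nat.card_congr
    apply Equiv.subtypeEquivRight
    intro t
    rw [det_mu]
    exact ⟨fun h => ⟨h.1, h.2.2⟩, fun h => ⟨h.1, irr_mu e h.1, h.2⟩⟩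
  rw [hE] at hmain
  have hq : 1 < Nat.card F := Finite.one_lt_card
  set q := Nat.card F with hqdef
  have hgen := card_le_gen F L (fun t : Lˣ => Algebra.norm F (t : L) = κ)
  have hnorm := card_norm_mul F L κ hκ
  rw [hfr, hd] at hgen
  rw [← hqdef] at hgen hnorm
  set A := Nat.card {t : Lˣ // Algebra.norm F (t : L) = κ} with hA
  set B := Nat.card {t : Lˣ // Algebra.adjoin F {(t : L)} = ⊤ ∧ Algebra.norm F (t : L) = κ} with hB
  set S := ∑ e ∈ Finset.Icc 1 (d / 2), (q ^ e - 1) with hS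
  set T := Nat.card Lˣ with hT
  set I := Nat.card {x : V ≃ₗ[F] V // Irr x ⊤ ∧ LinearMap.det (x : V →ₗ[F] V) = κ} with hI
  set G := Nat.card (V ≃ₗ[F] V) with hG
  have hTcard : T = q ^ d - 1 := by
    rw [hT, Nat.card_units, Module.natCard_eq_pow_finrank (K := F) (V := L), hfr, hd]
  have hgeom : (q - 1) * S ≤ q ^ (d / 2 + 1) := geom_le q (d / 2) hq
  have hpow : 8 * q ^ (d / 2 + 1) ≤ q ^ d := by
    have h1 : q ^ d = q ^ (d - (d / 2 + 1)) * q ^ (d / 2 + 1) := by
      rw [← pow_add]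
      congr 1
      (clear * - h8; omega)
    rw [h1]
    apply Nat.mul_le_mul_right
    calc 8 = 2 ^ 3 := by norm_num
      _ ≤ q ^ 3 := Nat.pow_le_pow_left hq 3
      _ ≤ q ^ (d - (d / 2 + 1)) := Nat.pow_le_pow_right (by omega) (by (clear * - h8; omega))
  have hpos : 0 < q ^ (d / 2 + 1) := pow_pos (by omega) _
  have h4 : T ≤ 4 * (q - 1) * B := by
    have h5 : A * (q - 1) ≤ (B + S) * (q - 1) := Nat.mul_le_mul_right _ hgen
    rw [hnorm, add_mul, mul_comm S] at h5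
    have h6 : 4 * (q - 1) * B = 4 * (B * (q - 1)) := by ring
    rw [h6]
    (clear * - hTcard hgeom hpow h5; omega)
  have hT0 : 0 < T := by omega
  -- conclusion
  apply Nat.le_of_mul_le_mul_left _ hT0
  calc T * G ≤ (4 * (q - 1) * B) * G := Nat.mul_le_mul_right _ h4
    _ = 4 * (q - 1) * (G * B) := by ring
    _ ≤ 4 * (q - 1) * (d * T * I) := Nat.mul_le_mul_left _ hmain
    _ = T * (4 * d * (q - 1) * I) := by ring

omit [Finite F] in
/-- the number of bad generators of the Singer cycle -/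
theorem card_bad_le {L : Type*} [Field L] [Algebra F L] [Finite L] (e : V ≃ₗ[F] L)
    (σ : F →+* F) (hσ : ∀ a, σ (σ a) = a) :
    ∃ s : ℕ, s ^ 2 ≤ Nat.card L ∧ Nat.card {t : Lˣ // Algebra.adjoin F {(t : L)} = ⊤ ∧
      LinearMap.charpoly (mu e t : V →ₗ[F] V) = (LinearMap.charpoly ((mu e t)⁻¹ : V ≃ₗ[F] V).toLinearMap).map σ} ≤ s + 3 := by
  classical
  obtain ⟨s, hs, hroot⟩ := exists_root_of_invol L
  refine ⟨s, hs, ?_⟩
  have : Fintype Lˣ := Fintype.ofFinite _
  rw [Nat.card_eq_fintype_card, Fintype.card_subtype]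
  have h2 := card_pow_eq_one_le L 2 (by norm_num)
  have h3 := card_pow_eq_one_le L (s + 1) (by omega)
  rw [Nat.card_eq_fintype_card, Fintype.card_subtype] at h2 h3
  calc _ ≤ ((Finset.univ.filter fun t : Lˣ => t ^ 2 = 1) ∪ Finset.univ.filter fun t : Lˣ => t ^ (s + 1) = 1).card := by
        apply Finset.card_le_card
        intro t ht
        rw [Finset.mem_filter] at ht
        obtain ⟨_, ht1, ht2⟩ := ht
        rw [mu_inv] at ht2
        have hfr : Module.finrank F L = Module.finrank F V := e.symm.finrank_eq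
        obtain ⟨τ, hτ1, hτ2⟩ := exists_tau σ hσ ht1 (LinearMap.charpoly_monic (mu e t⁻¹ : V →ₗ[F] V))
          (by rw [LinearMap.charpoly_natDegree, hfr])
          (aeval_mu_eq_zero e (LinearMap.aeval_self_charpoly _))
          (by
            rw [← ht2]
            exact aeval_mu_eq_zero e (LinearMap.aeval_self_charpoly _))
        rw [Finset.mem_union, Finset.mem_filter, Finset.mem_filter]
        rcases hroot τ hτ1 t hτ2 with h | h
        · exact Or.inl ⟨Finset.mem_univ _, h⟩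
        · exact Or.inr ⟨Finset.mem_univ _, h⟩
    _ ≤ _ := Finset.card_union_le _ _
    _ ≤ s + 3 := by omega

theorem real_ineq (q d s : ℕ) (hq : 2 ≤ q) (hd : 1 ≤ d) (hs : s ^ 2 ≤ q ^ d) :
    (2 * q ^ (d / 2) + s + 3 : ℝ) ≤ 16 * (4 / 5 : ℝ) ^ d * (q ^ d - 1) := by
  have hq' : (2 : ℝ) ≤ q := by exact_mod_cast hq
  set Q : ℝ := (q : ℝ) ^ d with hQ
  set A : ℝ := (4 / 5 : ℝ) ^ d * Q with hA
  have hQ2 : 2 ≤ Q := by
    calc (2 : ℝ) = 2 ^ 1 := by norm_num
      _ ≤ 2 ^ d := pow_le_pow_right₀ (by norm_num) hd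
      _ ≤ Q := pow_le_pow_left₀ (by norm_num) hq' d
  have hA0 : 0 ≤ A := by positivity
  have hAsq : Q ≤ A ^ 2 := by
    have h1 : A ^ 2 = ((16 / 25 : ℝ) * q * q) ^ d := by
      rw [hA, hQ, mul_pow, ← pow_mul, ← pow_mul, mul_comm d 2, pow_mul, pow_mul, ← mul_pow]
      congr 1
      ring
    rw [h1, hQ]
    apply pow_le_pow_left₀ (by positivity)
    nlinarith only [hq']
  have hle : ∀ x : ℝ, 0 ≤ x → x ^ 2 ≤ Q → x ≤ A := fun x hx h => by
    exact (sq_le_sq₀ hx hA0).1 (h.trans hAsq)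
  have h1 : (1 : ℝ) ≤ A := hle 1 (by norm_num) (by linarith only [hQ2])
  have h2 : (s : ℝ) ≤ A := hle s (by positivity) (by rw [hQ]; exact_mod_cast hs)
  have h3 : (q : ℝ) ^ (d / 2) ≤ A := by
    apply hle _ (by positivity)
    rw [← pow_mul, hQ]
    exact pow_le_pow_right₀ (by linarith only [hq']) (Nat.div_mul_le_self _ _)
  have h4 : 16 * (4 / 5 : ℝ) ^ d * (Q - 1) = 16 * A - 16 * (4 / 5 : ℝ) ^ d := by rw [hA]; ring
  have h5 : 16 * (4 / 5 : ℝ) ^ d ≤ 8 * A := by
    rw [hA]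
    have : 0 ≤ (4 / 5 : ℝ) ^ d := by positivity
    nlinarith only [hQ2, this]
  rw [h4]
  linarith only [h1, h2, h3, h5]

theorem geom_le' (q m : ℕ) (hq : 2 ≤ q) : (∑ e ∈ Finset.Icc 1 m, (q ^ e - 1)) ≤ 2 * q ^ m := by
  induction m with
  | zero => simp only [_root_.Order.lt_one_iff, _root_.Finset.Icc_eq_empty_of_lt, _root_.Finset.sum_empty, _root_.pow_zero, _root_.mul_one, _root_.zero_le]
  | succ m ih =>
    rw [Finset.sum_Icc_succ_top (by omega)]
    have h2 : 2 * q ^ m ≤ q ^ (m + 1) := by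
      rw [pow_succ, mul_comm]
      exact Nat.mul_le_mul_left _ hq
    omega

/-- irreducible elements which are not conjugate to the twisted inverse -/
theorem gl_irr_ns (F V : Type*) [Field F] [Finite F] [AddCommGroup V] [Module F V] [Module.Finite F V] {d : ℕ}
    (hd : Module.finrank F V = d) (h1 : 1 ≤ d) (σ : F →+* F) (hσ : ∀ a, σ (σ a) = a) :
    ar d / d * Nat.card (V ≃ₗ[F] V) ≤ Nat.card {x : V ≃ₗ[F] V // Irr x ⊤ ∧
      LinearMap.charpoly (x : V →ₗ[F] V) ≠ (LinearMap.charpoly (x⁻¹ : V ≃ₗ[F] V).toLinearMap).map σ} := by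
  classical
  obtain ⟨L, _, _, _, ⟨e⟩, hfr⟩ := exists_singer F V (by omega)
  have hfin : Module.Finite F L := Module.Finite.of_finite
  have hconj : ∀ g x : V ≃ₗ[F] V, LinearMap.charpoly ((g * x * g⁻¹ : V ≃ₗ[F] V) : V →ₗ[F] V) =
      LinearMap.charpoly (x : V →ₗ[F] V) := fun g x => by
    rw [coe_conj, LinearEquiv.charpoly_conj]
  have hmain := card_mul_le e (fun x => Irr x ⊤ ∧ LinearMap.charpoly (x : V →ₗ[F] V) ≠
    (LinearMap.charpoly (x⁻¹ : V ≃ₗ[F] V).toLinearMap).map σ) (by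
    rintro g x ⟨h2, h3⟩
    refine ⟨irr_conj g h2, ?_⟩
    have h4 : (g * x * g⁻¹)⁻¹ = g * x⁻¹ * g⁻¹ := by group
    rw [h4, hconj, hconj]
    exact h3)
  rw [hfr, hd] at hmain
  obtain ⟨s, hs, hbad⟩ := card_bad_le e σ hσ
  have hq : 1 < Nat.card F := Finite.one_lt_card
  set q := Nat.card F with hqdef
  have hLcard : Nat.card L = q ^ d := by
    rw [Module.natCard_eq_pow_finrank (K := F) (V := L), hfr, hd]
  rw [hLcard] at hs
  have hfinu : Fintype Lˣ := Fintype.ofFinite _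
  have hall := card_le_gen F L (fun _ : Lˣ => True)
  rw [hfr, hd, ← hqdef] at hall
  set S := ∑ e ∈ Finset.Icc 1 (d / 2), (q ^ e - 1) with hS
  have hS2 : S ≤ 2 * q ^ (d / 2) := geom_le' q (d / 2) hq
  set T := Nat.card Lˣ with hT
  have hTcard : T = q ^ d - 1 := by rw [hT, Nat.card_units, hLcard]
  have hqd : 1 < q ^ d := Nat.one_lt_pow (by omega) hq
  have hT0 : 0 < T := by omega
  have hTt : Nat.card {t : Lˣ // True} = T := Nat.card_congr (Equiv.subtypeUnivEquiv fun _ => trivial)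
  rw [hTt] at hall
  set B := Nat.card {t : Lˣ // Algebra.adjoin F {(t : L)} = ⊤ ∧ Irr (mu e t) ⊤ ∧
    LinearMap.charpoly (mu e t : V →ₗ[F] V) ≠ (LinearMap.charpoly ((mu e t)⁻¹ : V ≃ₗ[F] V).toLinearMap).map σ} with hB
  have hsplit : Nat.card {t : Lˣ // Algebra.adjoin F {(t : L)} = ⊤ ∧ True} ≤ B + (s + 3) := by
    refine le_trans ?_ (Nat.add_le_add_left hbad B)
    rw [hB]
    simp only [Nat.card_eq_fintype_card, Fintype.card_subtype]
    refine le_trans (Finset.card_le_card ?_) (Finset.card_union_le _ _)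
    intro t ht
    rw [Finset.mem_filter] at ht
    rw [Finset.mem_union, Finset.mem_filter, Finset.mem_filter]
    by_cases h : LinearMap.charpoly (mu e t : V →ₗ[F] V) =
        (LinearMap.charpoly ((mu e t)⁻¹ : V ≃ₗ[F] V).toLinearMap).map σ
    · exact Or.inr ⟨Finset.mem_univ _, ht.2.1, h⟩
    · exact Or.inl ⟨Finset.mem_univ _, ht.2.1, irr_mu e ht.2.1, h⟩
  have hT1 : T ≤ B + 2 * q ^ (d / 2) + s + 3 := by omega
  set I := Nat.card {x : V ≃ₗ[F] V // Irr x ⊤ ∧
      LinearMap.charpoly (x : V →ₗ[F] V) ≠ (LinearMap.charpoly (x⁻¹ : V ≃ₗ[F] V).toLinearMap).map σ} with hI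
  set G := Nat.card (V ≃ₗ[F] V) with hG
  have hreal := real_ineq q d s hq h1 hs
  have hTr : (T : ℝ) = (q : ℝ) ^ d - 1 := by
    rw [hTcard, Nat.cast_sub hqd.le]
    push_cast
    ring
  rw [← hTr] at hreal
  have hT1' : (T : ℝ) ≤ B + 2 * q ^ (d / 2) + s + 3 := by exact_mod_cast hT1
  have har : ar d * T ≤ B := by
    rw [ar, sub_mul, one_mul]
    linarith only [hreal, hT1']
  have hmain' : (G : ℝ) * B ≤ d * T * I := by exact_mod_cast hmain
  have hT0' : (0 : ℝ) < T := by exact_mod_cast hT0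
  have hd0 : (0 : ℝ) < d := by exact_mod_cast h1
  have hG0 : (0 : ℝ) ≤ G := by (clear * -; positivity)
  rw [div_mul_eq_mul_div, div_le_iff₀ hd0]
  apply le_of_mul_le_mul_right _ hT0'
  calc ar d * G * T = G * (ar d * T) := by ring
    _ ≤ G * B := mul_le_mul_of_nonneg_left har hG0
    _ ≤ d * T * I := hmain'
    _ = I * d * T := by ring

/-- irreducible elements -/
theorem gl_irr (F V : Type*) [Field F] [Finite F] [AddCommGroup V] [Module F V] [Module.Finite F V] {d : ℕ}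
    (hd : Module.finrank F V = d) (h1 : 1 ≤ d) :
    ar d / d * Nat.card (V ≃ₗ[F] V) ≤ Nat.card {x : V ≃ₗ[F] V // Irr x ⊤} := by
  refine (gl_irr_ns F V hd h1 (RingHom.id F) (fun _ => rfl)).trans ?_
  have hV : Finite V := Module.finite_of_finite F
  have hA : Finite (V ≃ₗ[F] V) := Finite.of_injective (fun g : V ≃ₗ[F] V => (g : V → V)) DFunLike.coe_injective
  exact_mod_cast Nat.card_mono (s := {x : V ≃ₗ[F] V | Irr x ⊤ ∧ LinearMap.charpoly (x : V →ₗ[F] V) ≠
      (LinearMap.charpoly (x⁻¹ : V ≃ₗ[F] V).toLinearMap).map (RingHom.id F)}) (t := {x : V ≃ₗ[F] V | Irr x ⊤})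
    (Set.toFinite _) (fun x hx => hx.1)

end Main

end Cfsg.Agent.H46.Bs
end

-- part: H59/Bs/Sp
section
/-!
# S5733, BS07: block counts, symplectic case (helper59)

`sp_minus`, `sp_plus`.
-/

set_option autoImplicit false

namespace Cfsg.Agent.H59.Bs

open Cfsg.Agent.H847.Bs Module

/-- **blocks of type plus, symplectic case** -/
theorem sp_plus {F V : Type*} [Field F] [Finite F] [AddCommGroup V] [Module F V] [FiniteDimensional F V] {Φ : Frm F V}
    (hΦ : IsSp Φ) {j : ℕ} (hj : 1 ≤ j) (hd : finrank F V = 2 * j) :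
    ar j / (2 * j) * Nat.card Φ.Iso ≤ (Nat.card Φ.Bp : ℝ) := by
  refine sp_plus_of hΦ hj hd ?_
  have h := Cfsg.Agent.H46.Bs.gl_irr_ns F (Fin j → F) (Module.finrank_fin_fun F) hj (RingHom.id F) (fun _ => rfl)
  simpa only [Polynomial.map_id] using h

end Cfsg.Agent.H59.Bs
end

-- part: H59/Bs/CountSp
section
/-!
# S5733, BS10: the count, symplectic case (helper59)

`s10 : S10`.
-/

set_option autoImplicit false

namespace Cfsg.Agent.H59.Bs

open Cfsg.Agent.H847.Bs Module Cfsg.Agent.H440.Bs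

/-- the proportion of the large block elements in the symplectic group of dimension `2 * N` -/
noncomputable def pr (F : Type) [Field F] (K N m : ℕ) : ℝ :=
  (Nat.card ↥((frmP F (Fin N → F)).SS K (2 * m)) : ℝ) / Nat.card (frmP F (Fin N → F)).Iso

section

variable {F V : Type} [Field F] [Finite F] [AddCommGroup V] [Module F V] [Module.Finite F V] {Φ : Frm F V}

theorem card_Iso_pos (Φ : Frm F V) : (0 : ℝ) < Nat.card Φ.Iso := by
  have : Finite (V ≃ₗ[F] V) := finite_lin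
  exact_mod_cast Nat.card_pos

theorem card_SS_eq (hΦ : IsSp Φ) {N : ℕ} (hN : finrank F V = 2 * N) (K m : ℕ) :
    (Nat.card ↥(Φ.SS K (2 * m)) : ℝ) = pr F K N m * Nat.card Φ.Iso := by
  obtain ⟨e, he1, he2⟩ := exists_equiv (Φ' := frmP F (Fin N → F)) hΦ isSp_frmP (by
    rw [hN, finrank_prod, Subspace.dual_finrank_eq, Module.finrank_fin_fun]
    omega)
  have h : IsoTo Φ (frmP F (Fin N → F)) e := ⟨he1, he2⟩
  rw [card_SS h, card_iso h, pr, div_mul_cancel₀]
  exact (card_Iso_pos _).ne'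

theorem pr_nonneg (K N m : ℕ) : 0 ≤ pr F K N m := by
  unfold pr
  positivity

theorem finrank_std (N : ℕ) : finrank F ((Fin N → F) × Dual F (Fin N → F)) = 2 * N := by
  rw [finrank_prod, Subspace.dual_finrank_eq, Module.finrank_fin_fun]
  omega

theorem pr_zero (K m : ℕ) : pr F K 0 m = 1 := by
  unfold pr
  have h0 : finrank F ((Fin 0 → F) × Dual F (Fin 0 → F)) = 0 := finrank_std (F := F) 0
  rw [card_SS_zero (Φ := frmP F (Fin 0 → F)) h0, card_iso_zero (Φ := frmP F (Fin 0 → F)) h0]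
  norm_num

theorem card_mono {α : Type*} [Finite α] {s t : Set α} (h : s ⊆ t) : Nat.card s ≤ Nat.card t :=
  Nat.card_mono (Set.toFinite t) h

theorem pr_mono (K N m : ℕ) : pr F K N m ≤ pr F K N (m + 1) := by
  unfold pr
  have : Finite (((Fin N → F) × Dual F (Fin N → F)) ≃ₗ[F] ((Fin N → F) × Dual F (Fin N → F))) := finite_lin
  gcongr ?_ / _
  exact_mod_cast card_mono (SS_mono (Φ := frmP F (Fin N → F)) (K := K) (show 2 * m ≤ 2 * (m + 1) by omega))

/-- the union of three disjoint sets -/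
theorem card_three {α : Type*} [Finite α] {a b c s : Set α} (ha : a ⊆ s) (hb : b ⊆ s) (hc : c ⊆ s) (hab : Disjoint a b)
    (hac : Disjoint a c) (hbc : Disjoint b c) : Nat.card a + Nat.card b + Nat.card c ≤ Nat.card s := by
  simp only [Nat.card_coe_set_eq]
  rw [← Set.ncard_union_eq hab (Set.toFinite _) (Set.toFinite _),
    ← Set.ncard_union_eq (Set.disjoint_union_left.2 ⟨hac, hbc⟩) (Set.toFinite _) (Set.toFinite _)]
  exact Set.ncard_le_ncard (Set.union_subset (Set.union_subset ha hb) hc) (Set.toFinite _)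

/-- one term of the recursion -/
theorem term {v d u x y c a P : ℝ} (hd : 0 < d) (hu : 0 < u) (hP : 0 ≤ P) (hx : a * d ≤ x) (hy : y = P * u)
    (h : v * x * y ≤ d * u * c) (hv : 0 ≤ v) : a * P * v ≤ c := by
  have h1 : v * (a * d) * (P * u) ≤ v * x * y := by
    rw [hy]
    have : 0 ≤ P * u := mul_nonneg hP hu.le
    gcongr
  have h2 : d * u * (a * P * v) ≤ d * u * c := by
    calc d * u * (a * P * v) = v * (a * d) * (P * u) := by ring
      _ ≤ _ := h1.trans h
  exact le_of_mul_le_mul_left h2 (mul_pos hd hu)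

theorem rec_step (hΦ : IsSp Φ) {N m K : ℕ} (hN : finrank F V = 2 * N) (hK : K < m) (hm : m ≤ N) :
    pr F K N (m - 1) + ar m / m * pr F K (N - m) (m - 1) ≤ pr F K N m := by
  have hfin : Finite (V ≃ₗ[F] V) := finite_lin
  obtain ⟨D, U, hdec, hD⟩ := Cfsg.Agent.H181.Bs.exists_dec hΦ m (by omega)
  have hsum := Submodule.finrank_add_eq_of_isCompl hdec.compl
  have hU : finrank F U = 2 * (N - m) := by omega
  have hΦD : IsSp (Φ.on D) := Cfsg.Agent.H181.Bs.isSp_on hΦ (Cfsg.Agent.H181.Bs.ndOn_left hΦ.nd hdec)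
  have hΦU : IsSp (Φ.on U) := Cfsg.Agent.H181.Bs.isSp_on hΦ (Cfsg.Agent.H181.Bs.ndOn_right hΦ.nd hdec)
  have hsub : (Φ.on U).SS K (2 * (m - 1)) ⊆ (Φ.on U).SS K (2 * m - 1) := SS_mono (by omega)
  obtain ⟨h1, h2, h3⟩ := rec_minus hdec hΦ.nd hD (by omega : K < 2 * m) (X := (Φ.on D).Bm) subset_rfl hsub
  obtain ⟨h4, h5, h6⟩ := rec_plus hdec hΦ.nd hD (by omega : 2 * K < 2 * m) (X := (Φ.on D).Bp) subset_rfl hsub
  have h7 := disjoint_minus_plus' (Φ := Φ) hdec.compl hdec.compl hD hD (X := (Φ.on D).Bm) (X' := (Φ.on D).Bp)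
    (Y := (Φ.on U).SS K (2 * (m - 1))) (Y' := (Φ.on U).SS K (2 * (m - 1))) subset_rfl subset_rfl hsub
  have hS : Φ.SS K (2 * (m - 1)) ⊆ Φ.SS K (2 * m - 1) := SS_mono (by omega)
  have hS' : Φ.SS K (2 * (m - 1)) ⊆ Φ.SS K (2 * m) := SS_mono (by omega)
  have h8 := card_three hS' h2 h5 (h3.symm.mono_left hS) (h6.symm.mono_left hS) h7
  have b1 := sp_minus hΦD (show 1 ≤ m by omega) hD
  have b2 := sp_plus hΦD (show 1 ≤ m by omega) hD
  have b3 := card_SS_eq hΦU hU K (m - 1)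
  have b4 := card_SS_eq hΦ hN K (m - 1)
  have b5 := card_SS_eq hΦ hN K m
  have hpos := card_Iso_pos Φ
  have h1' := (Nat.cast_le (α := ℝ)).2 h1
  have h4' := (Nat.cast_le (α := ℝ)).2 h4
  rw [Nat.cast_mul, Nat.cast_mul, Nat.cast_mul, Nat.cast_mul] at h1' h4'
  have c1 := term (card_Iso_pos (Φ.on D)) (card_Iso_pos (Φ.on U)) (pr_nonneg (F := F) K (N - m) (m - 1)) b1 b3
    h1' hpos.le
  have c2 := term (card_Iso_pos (Φ.on D)) (card_Iso_pos (Φ.on U)) (pr_nonneg (F := F) K (N - m) (m - 1)) b2 b3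
    h4' hpos.le
  have h9 : (Nat.card ↥(Φ.SS K (2 * (m - 1))) : ℝ) +
      Nat.card ↥(cset Φ.Iso hdec.compl (Φ.on D).Bm ((Φ.on U).SS K (2 * (m - 1)))) +
      Nat.card ↥(cset Φ.Iso hdec.compl (Φ.on D).Bp ((Φ.on U).SS K (2 * (m - 1)))) ≤ Nat.card ↥(Φ.SS K (2 * m)) := by
    exact_mod_cast h8
  rw [b4, b5] at h9
  refine le_of_mul_le_mul_right ?_ hpos
  have hm0 : (m : ℝ) ≠ 0 := by
    have : m ≠ 0 := by omega
    exact_mod_cast this
  calc (pr F K N (m - 1) + ar m / m * pr F K (N - m) (m - 1)) * Nat.card Φ.Iso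
      = pr F K N (m - 1) * Nat.card Φ.Iso + ar m / (2 * m) * pr F K (N - m) (m - 1) * Nat.card Φ.Iso +
        ar m / (2 * m) * pr F K (N - m) (m - 1) * Nat.card Φ.Iso := by
        field_simp
        ring
    _ ≤ _ := by linarith only [c1, c2, h9]

end

/-- **BS10** -/
theorem s10 : S10 := by
  obtain ⟨K₀, h⟩ := Cfsg.Agent.H796.Bs.comb
  refine ⟨1 / 16, by norm_num, K₀, ?_⟩
  intro F V _ _ _ _ _ Φ n K hΦ hK hn hKn
  have h1 := h K hK (pr F K) (fun N m => pr_nonneg K N m) (fun m => (pr_zero K m).ge) (fun N m => pr_mono K N m)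
    (fun N m hKm hm => rec_step (Φ := frmP F (Fin N → F)) isSp_frmP (finrank_std N) hKm hm) n hKn
  rw [card_SS_eq hΦ hn]
  have h2 := card_Iso_pos Φ
  gcongr
  calc (1 / 16 : ℝ) / (K + 1) = 1 / (16 * (K + 1)) := by rw [div_div]
    _ ≤ _ := h1

end Cfsg.Agent.H59.Bs
end

private theorem dce_4350552cd8da : _root_.True := by
  try have : _root_.True := by simp only [_root_.Cfsg.Agent.H181.Bs.perp.congr_simp]
  try have : _root_.True := by simp only [_root_.Cfsg.Agent.H59.Bs.A2.eq_1]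
  try have : _root_.True := by simp only [_root_.Cfsg.Agent.H59.Bs.A1.eq_1]
  try have : _root_.True := by simp only [_root_.Cfsg.Agent.H59.Bs.pr.eq_1]
  try have : _root_.True := by simp only [_root_.Cfsg.Agent.H46.Bs.au.eq_1]
  try have : _root_.True := by simp only [_root_.Cfsg.Agent.H46.Bs.mu.eq_1]
  try have : _root_.True := by simp only [_root_.Cfsg.Agent.H847.Bs.ar.eq_1]
  exact _root_.True.intro
end

-- part: H548/BS/S21
section
prune_inst 0x300000000000000000000000000000000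
set_option linter.all false
open scoped Cfsg.Agent.FastGrp

-- part: H2/Bs/Glue
section
/-!
# S5733, BS21: glueing, symplectic planes (helper2)

* `glue_left`, `glue_right`, `glue_mul`, `glueHom`;
* `glue_mem_iso`, `exists_glue` : isometries;
* `isSp_on`, `exists_plane`, `even_finrank` : symplectic spaces;
* `rb_plane` : the isometry group of a symplectic plane is `SL₂`.
-/

set_option autoImplicit false
set_option linter.unusedSectionVars false

namespace Cfsg.Agent.H2.Bs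

open Cfsg.Agent.H847.Bs Module

universe u v

section lin

variable {F V : Type*} [Field F] [AddCommGroup V] [Module F V] {D U : Submodule F V}

theorem glue_left (h : IsCompl D U) (x : D ≃ₗ[F] D) (y : U ≃ₗ[F] U) (d : D) : glue h x y (d : V) = x d := by
  unfold glue
  rw [LinearEquiv.trans_apply, LinearEquiv.trans_apply, Submodule.prodEquivOfIsCompl_symm_apply_left]
  simp [Submodule.coe_prodEquivOfIsCompl']

theorem glue_right (h : IsCompl D U) (x : D ≃ₗ[F] D) (y : U ≃ₗ[F] U) (u : U) : glue h x y (u : V) = y u := by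
  unfold glue
  rw [LinearEquiv.trans_apply, LinearEquiv.trans_apply, Submodule.prodEquivOfIsCompl_symm_apply_right]
  simp [Submodule.coe_prodEquivOfIsCompl']

theorem exists_add (h : IsCompl D U) (v : V) : ∃ d : D, ∃ u : U, v = d + u := by
  have h1 : v ∈ D ⊔ U := by rw [h.sup_eq_top]; trivial
  obtain ⟨d, hd, u, hu, e⟩ := Submodule.mem_sup.1 h1
  exact ⟨⟨d, hd⟩, ⟨u, hu⟩, e.symm⟩

theorem ext_compl (h : IsCompl D U) {f g : V ≃ₗ[F] V} (h1 : ∀ d : D, f d = g d) (h2 : ∀ u : U, f u = g u) : f = g := by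
  ext v
  obtain ⟨d, u, rfl⟩ := exists_add h v
  rw [map_add, map_add, h1, h2]

theorem glue_mul (h : IsCompl D U) (x x' : D ≃ₗ[F] D) (y y' : U ≃ₗ[F] U) :
    glue h (x * x') (y * y') = glue h x y * glue h x' y' := by
  refine ext_compl h (fun d => ?_) fun u => ?_
  · change _ = glue h x y (glue h x' y' d)
    rw [glue_left, glue_left, glue_left]
    rfl
  · change _ = glue h x y (glue h x' y' u)
    rw [glue_right, glue_right, glue_right]
    rfl

theorem glue_one (h : IsCompl D U) : glue h (1 : D ≃ₗ[F] D) (1 : U ≃ₗ[F] U) = 1 := by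
  refine ext_compl h (fun d => ?_) fun u => ?_
  · rw [glue_left]; rfl
  · rw [glue_right]; rfl

theorem glue_inj (h : IsCompl D U) {x x' : D ≃ₗ[F] D} {y y' : U ≃ₗ[F] U} (e : glue h x y = glue h x' y') :
    x = x' ∧ y = y' := by
  constructor
  · ext d
    rw [← glue_left h x y, ← glue_left h x' y', e]
  · ext u
    rw [← glue_right h x y, ← glue_right h x' y', e]

end lin

section form

variable {F V : Type*} [Field F] [AddCommGroup V] [Module F V] {Φ : Frm F V} {D U : Submodule F V}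

theorem orth' (h : Φ.Dec D U) (d : D) (u : U) : Φ.B (u : V) d = 0 := Φ.refl _ _ (h.orth _ d.2 _ u.2)

theorem glue_mem_iso (h : Φ.Dec D U) {x : D ≃ₗ[F] D} {y : U ≃ₗ[F] U} (hx : x ∈ (Φ.on D).Iso) (hy : y ∈ (Φ.on U).Iso) :
    glue h.compl x y ∈ Φ.Iso := by
  have hx1 : ∀ a b : D, Φ.B (x a : V) (x b) = Φ.B (a : V) b := hx.1
  have hy1 : ∀ a b : U, Φ.B (y a : V) (y b) = Φ.B (a : V) b := hy.1
  have hx2 : ∀ a : D, Φ.q (x a : V) = Φ.q (a : V) := hx.2
  have hy2 : ∀ a : U, Φ.q (y a : V) = Φ.q (a : V) := hy.2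
  constructor
  · intro v w
    obtain ⟨d, u, rfl⟩ := exists_add h.compl v
    obtain ⟨d', u', rfl⟩ := exists_add h.compl w
    rw [map_add, map_add, glue_left, glue_left, glue_right, glue_right]
    simp only [Φ.add_left, Φ.add_right]
    rw [hx1, hy1, h.orth _ (x d).2 _ (y u').2, h.orth _ d.2 _ u'.2, orth' h (x d') (y u), orth' h d' u]
  · intro v
    obtain ⟨d, u, rfl⟩ := exists_add h.compl v
    rw [map_add, glue_left, glue_right, Φ.q_add _ _ (h.orth _ (x d).2 _ (y u).2), Φ.q_add _ _ (h.orth _ d.2 _ u.2),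
      hx2, hy2]

theorem inv_map [FiniteDimensional F V] {g : V ≃ₗ[F] V} {D : Submodule F V} (h : _root_.Cfsg.Agent.H847.Bs.Inv g D) :
    D.map (g : V →ₗ[F] V) = D := by
  have h1 : D.map (g : V →ₗ[F] V) ≤ D := by
    rintro _ ⟨v, hv, rfl⟩
    exact h v hv
  refine Submodule.eq_of_le_of_finrank_eq h1 ?_
  exact LinearEquiv.finrank_map_eq g D

/-- the restriction to an invariant subspace -/
noncomputable def res [FiniteDimensional F V] (g : V ≃ₗ[F] V) (D : Submodule F V) (h : _root_.Cfsg.Agent.H847.Bs.Inv g D) : D ≃ₗ[F] D :=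
  LinearEquiv.ofBijective ((g : V →ₗ[F] V).restrict (p := D) (q := D) h) (by
    have h1 : Function.Injective ((g : V →ₗ[F] V).restrict (p := D) (q := D) h) := by
      intro a b e
      apply Subtype.ext
      apply g.injective
      exact congrArg Subtype.val e
    exact ⟨h1, LinearMap.injective_iff_surjective.1 h1⟩)

theorem res_mem_iso [FiniteDimensional F V] {g : V ≃ₗ[F] V} (hg : g ∈ Φ.Iso) (h : _root_.Cfsg.Agent.H847.Bs.Inv g D) :
    res g D h ∈ (Φ.on D).Iso :=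
  ⟨fun a b => hg.1 a b, fun a => hg.2 a⟩

/-- nondegenerate parts of an orthogonal decomposition -/
theorem ndOn_left (hnd : Φ.Nd) (h : Φ.Dec D U) : Φ.NdOn D := by
  intro x hx h1
  refine hnd x fun y => ?_
  obtain ⟨d, u, rfl⟩ := exists_add h.compl y
  rw [Φ.add_right, h1 _ d.2, h.orth _ hx _ u.2, add_zero]

theorem ndOn_right (hnd : Φ.Nd) (h : Φ.Dec D U) : Φ.NdOn U := by
  intro x hx h1
  refine hnd x fun y => ?_
  obtain ⟨d, u, rfl⟩ := exists_add h.compl y
  rw [Φ.add_right, h1 _ u.2, orth' h d ⟨x, hx⟩, zero_add]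

theorem zero_left (Φ : Frm F V) (y : V) : Φ.B 0 y = 0 := by
  have := Φ.smul_left 0 0 y
  rwa [zero_smul, zero_mul] at this

/-- the second part is the orthogonal space of the first one -/
theorem mem_right_iff (hnd : Φ.Nd) (h : Φ.Dec D U) {v : V} : v ∈ U ↔ ∀ d ∈ D, Φ.B v d = 0 := by
  constructor
  · intro hv d hd
    exact orth' h ⟨d, hd⟩ ⟨v, hv⟩
  · intro h1
    obtain ⟨d, u, rfl⟩ := exists_add h.compl v
    have h2 : (d : V) = 0 := by
      refine ndOn_left hnd h d d.2 fun y hy => ?_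
      have h3 := h1 y hy
      rwa [Φ.add_left, orth' h ⟨y, hy⟩ u, add_zero] at h3
    rw [h2, zero_add]
    exact u.2

theorem inv_right [FiniteDimensional F V] (hnd : Φ.Nd) (h : Φ.Dec D U) {g : V ≃ₗ[F] V} (hg : g ∈ Φ.Iso)
    (hD : _root_.Cfsg.Agent.H847.Bs.Inv g D) : _root_.Cfsg.Agent.H847.Bs.Inv g U := by
  intro v hv
  rw [mem_right_iff hnd h] at hv ⊢
  intro d hd
  rw [← inv_map hD] at hd
  obtain ⟨d', hd', rfl⟩ := hd
  change Φ.B (g v) (g d') = 0
  rw [hg.1]
  exact hv _ hd'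

theorem exists_glue [FiniteDimensional F V] (hnd : Φ.Nd) (h : Φ.Dec D U) {g : V ≃ₗ[F] V} (hg : g ∈ Φ.Iso)
    (hD : _root_.Cfsg.Agent.H847.Bs.Inv g D) : ∃ x ∈ (Φ.on D).Iso, ∃ y ∈ (Φ.on U).Iso, g = glue h.compl x y := by
  have hU := inv_right hnd h hg hD
  refine ⟨res g D hD, res_mem_iso hg hD, res g U hU, res_mem_iso hg hU, ?_⟩
  refine ext_compl h.compl (fun d => ?_) fun u => ?_
  · rw [glue_left]; rfl
  · rw [glue_right]; rfl

end form

section sp

variable {F V : Type*} [Field F] [AddCommGroup V] [Module F V] {Φ : Frm F V} {D U : Submodule F V}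

theorem isSp_left (hΦ : IsSp Φ) (h : Φ.Dec D U) : IsSp (Φ.on D) where
  nd x hx := Subtype.ext (ndOn_left hΦ.nd h x x.2 fun y hy => hx ⟨y, hy⟩)
  s := hΦ.s
  q x := hΦ.q x
  alt x := hΦ.alt x

theorem isSp_right (hΦ : IsSp Φ) (h : Φ.Dec D U) : IsSp (Φ.on U) where
  nd x hx := Subtype.ext (ndOn_right hΦ.nd h x x.2 fun y hy => hx ⟨y, hy⟩)
  s := hΦ.s
  q x := hΦ.q x
  alt x := hΦ.alt x

theorem sp_symm (hΦ : IsSp Φ) (x y : V) : Φ.B y x = -Φ.B x y := by
  have h1 := hΦ.alt (x + y)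
  rw [Φ.add_left, Φ.add_right, Φ.add_right, hΦ.alt, hΦ.alt, zero_add, add_zero] at h1
  rw [eq_neg_iff_add_eq_zero, add_comm]
  exact h1

/-- a hyperbolic plane -/
theorem exists_plane [FiniteDimensional F V] (hΦ : IsSp Φ) (h0 : finrank F V ≠ 0) :
    ∃ D U : Submodule F V, Φ.Dec D U ∧ finrank F D = 2 := by
  have hnt : Nontrivial V := by
    rw [← not_subsingleton_iff_nontrivial]
    intro hs
    exact h0 (finrank_zero_iff.2 hs)
  obtain ⟨x, hx⟩ := exists_ne (0 : V)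
  obtain ⟨z, hz⟩ : ∃ z, Φ.B x z ≠ 0 := by
    by_contra hcon
    push Not at hcon
    exact hx (hΦ.nd x hcon)
  set y := (Φ.B x z)⁻¹ • z with hy
  have hxy : Φ.B x y = 1 := by
    rw [hy, Φ.smul_right, hΦ.s, inv_mul_cancel₀ hz]
  have hyx : Φ.B y x = -1 := by rw [sp_symm hΦ x y, hxy]
  let U : Submodule F V :=
    { carrier := {v | Φ.B v x = 0 ∧ Φ.B v y = 0}
      add_mem' := by
        rintro a b ⟨h1, h2⟩ ⟨h3, h4⟩
        exact ⟨by rw [Φ.add_left, h1, h3, add_zero], by rw [Φ.add_left, h2, h4, add_zero]⟩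
      zero_mem' := ⟨zero_left Φ x, zero_left Φ y⟩
      smul_mem' := by
        rintro c a ⟨h1, h2⟩
        exact ⟨by rw [Φ.smul_left, h1, mul_zero], by rw [Φ.smul_left, h2, mul_zero]⟩ }
  have hli : LinearIndependent F ![x, y] := by
    rw [LinearIndependent.pair_iff]
    intro a b hab
    have h1 := congrArg (fun v => Φ.B v y) hab
    have h2 := congrArg (fun v => Φ.B v x) hab
    simp only [Φ.add_left, Φ.smul_left, hxy, hyx, hΦ.alt, zero_left, mul_one, mul_zero, add_zero, zero_add, mul_neg,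
      neg_eq_zero] at h1 h2
    exact ⟨h1, h2⟩
  refine ⟨Submodule.span F (Set.range ![x, y]), U, ⟨⟨?_, ?_⟩, ?_⟩, ?_⟩
  · rw [disjoint_iff, eq_bot_iff]
    rintro v ⟨hv1, hv2⟩
    have hv2 : Φ.B v x = 0 ∧ Φ.B v y = 0 := hv2
    rw [SetLike.mem_coe, Matrix.range_cons, Matrix.range_cons, Matrix.range_empty, Set.union_empty,
      Set.singleton_union, Submodule.mem_span_pair] at hv1
    obtain ⟨a, b, rfl⟩ := hv1
    simp only [Φ.add_left, Φ.smul_left, hxy, hyx, hΦ.alt, mul_one, mul_zero, add_zero, zero_add, mul_neg,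
      neg_eq_zero] at hv2
    rw [hv2.1, hv2.2, zero_smul, zero_smul, add_zero]
    exact Submodule.zero_mem _
  · rw [codisjoint_iff, eq_top_iff]
    intro v _
    rw [Submodule.mem_sup]
    refine ⟨Φ.B v y • x - Φ.B v x • y, ?_, v - (Φ.B v y • x - Φ.B v x • y), ⟨?_, ?_⟩, by abel⟩
    · rw [Matrix.range_cons, Matrix.range_cons, Matrix.range_empty, Set.union_empty,
        Set.singleton_union, Submodule.mem_span_pair]
      exact ⟨Φ.B v y, -Φ.B v x, by rw [neg_smul, sub_eq_add_neg]⟩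
    · have e : v - (Φ.B v y • x - Φ.B v x • y) = v + ((-Φ.B v y) • x + Φ.B v x • y) := by
        rw [neg_smul]; abel
      rw [e]
      simp only [Φ.add_left, Φ.smul_left, hyx, hΦ.alt, mul_zero, zero_add, mul_neg, mul_one, add_neg_cancel]
    · have e : v - (Φ.B v y • x - Φ.B v x • y) = v + ((-Φ.B v y) • x + Φ.B v x • y) := by
        rw [neg_smul]; abel
      rw [e]
      simp only [Φ.add_left, Φ.smul_left, hxy, hΦ.alt, mul_zero, add_zero, mul_one, add_neg_cancel]
  · intro v hv w hw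
    obtain ⟨h1, h2⟩ : Φ.B w x = 0 ∧ Φ.B w y = 0 := hw
    rw [Matrix.range_cons, Matrix.range_cons, Matrix.range_empty, Set.union_empty,
      Set.singleton_union, Submodule.mem_span_pair] at hv
    obtain ⟨a, b, rfl⟩ := hv
    rw [Φ.add_left, Φ.smul_left, Φ.smul_left, Φ.refl _ _ h1, Φ.refl _ _ h2, mul_zero, mul_zero, add_zero]
  · rw [finrank_span_eq_card hli, Fintype.card_fin]

theorem finrank_dec [FiniteDimensional F V] (h : Φ.Dec D U) : finrank F D + finrank F U = finrank F V :=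
  Submodule.finrank_add_eq_of_isCompl h.compl

theorem even_finrank' (N : ℕ) : ∀ (F : Type u) [Field F] (V : Type v) [AddCommGroup V] [Module F V]
    [FiniteDimensional F V] (Φ : Frm F V), IsSp Φ → finrank F V ≤ N → ∃ n, finrank F V = 2 * n := by
  induction N with
  | zero =>
    intro F _ V _ _ _ Φ _ h
    exact ⟨0, by omega⟩
  | succ N ih =>
    intro F _ V _ _ _ Φ hΦ h
    by_cases h0 : finrank F V = 0
    · exact ⟨0, by omega⟩
    obtain ⟨D, U, hD, h2⟩ := exists_plane hΦ h0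
    have h3 := finrank_dec hD
    obtain ⟨n, hn⟩ := ih F U (Φ.on U) (isSp_right hΦ hD) (by omega)
    exact ⟨n + 1, by omega⟩

theorem even_finrank {F : Type u} [Field F] {V : Type v} [AddCommGroup V] [Module F V]
    [FiniteDimensional F V] {Φ : Frm F V} (hΦ : IsSp Φ) : ∃ n, finrank F V = 2 * n :=
  even_finrank' _ F V Φ hΦ le_rfl

end sp

end Cfsg.Agent.H2.Bs
end

-- part: H2/Bs/Plane
section
/-!
# S5733, BS21: the isometry group of a symplectic plane is `SL₂` (helper2)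
-/

set_option autoImplicit false

namespace Cfsg.Agent.H2.Bs

open Cfsg.Agent.H847.Bs Module
open Cfsg.Agent.H851.Dg (nd nd_comap_equiv)

section plane

variable {F V : Type*} [Field F] [AddCommGroup V] [Module F V] [FiniteDimensional F V] {Φ : Frm F V}

end plane

theorem rb_congr {G : Type*} {G' : Type*} [Group G] [Group G'] (e : G ≃* G') {c : ℝ} (h : RB c G) : RB c G' := by
  intro K hK
  rw [← nd_comap_equiv e K, ← Nat.card_congr e.toEquiv]
  refine h _ fun h1 => hK ?_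
  rw [eq_top_iff]
  intro x _
  have h2 : e.symm x ∈ K.comap e.toMonoidHom := by rw [h1]; trivial
  rw [Subgroup.mem_comap] at h2
  simpa using h2

end Cfsg.Agent.H2.Bs
end

-- part: H2/Bs/TrickSp
section
/-!
# S5733, BS21: the fixed point trick for symplectic groups (helper2)

* `ndV_eq` : `ndV G H = nd (H.subgroupOf G)`;
* `core` : the trick in one space;
* `trickSp` : BS21.
-/

set_option autoImplicit false

namespace Cfsg.Agent.H2.Bs

open Cfsg.Agent.H847.Bs Module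
open Cfsg.Agent.H851.Dg (nd nd_comap_equiv)

universe u v

/-- the statement of BS01 (`trick`) -/
def TrickP : Prop :=
  ∀ (G : Type u) [Group G] [Finite G] (M K₀ : Subgroup G) (E : Set G) (c ε : ℝ), 0 < c → 0 < ε → K₀ ≤ M →
    E ⊆ M → (∀ y ∈ E, ∀ k ∈ K₀, y * k ∈ E) → (∀ g, ∀ x ∈ E, g * x * g⁻¹ ∈ E → g ∈ M) →
    (∀ y ∈ E, ∃ z, ∃ k ∈ K₀, (∀ l ∈ K₀, z * l = l * z) ∧ y = z * k) →
    c * (Nat.card M : ℝ) ≤ Nat.card E → RB ε K₀ → ∀ H : Subgroup G,
    4 * (nd H : ℝ) < c * min 1 ε * Nat.card G → ∃ g : G, ∀ k ∈ K₀, g * k * g⁻¹ ∈ H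

theorem ndV_eq {F V : Type*} [Field F] [AddCommGroup V] [Module F V] (G H : Subgroup (V ≃ₗ[F] V)) :
    ndV G H = nd (H.subgroupOf G) := by
  unfold ndV nd
  refine Nat.card_congr ⟨fun x => ⟨⟨x.1, x.2.1⟩, fun g hg => x.2.2 g g.2 ?_⟩,
    fun x => ⟨x.1, x.1.2, fun g hg h => x.2 ⟨g, hg⟩ ?_⟩, fun x => rfl, fun x => rfl⟩
  · exact hg
  · exact h

theorem finite_equiv (F V : Type*) [Field F] [Finite F] [AddCommGroup V] [Module F V] [FiniteDimensional F V] :
    Finite (V ≃ₗ[F] V) := by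
  have : Finite V := Module.finite_of_finite F
  exact Finite.of_injective (fun g : V ≃ₗ[F] V => (g : V → V)) DFunLike.coe_injective

section core

variable {F : Type u} [Field F] {V : Type v} [AddCommGroup V] [Module F V] {Φ : Frm F V} {W U : Submodule F V}

/-- the product of the isometry groups -/
noncomputable def gam (h : Φ.Dec W U) : (Φ.on W).Iso × (Φ.on U).Iso →* Φ.Iso where
  toFun p := ⟨glue h.compl p.1 p.2, glue_mem_iso h p.1.2 p.2.2⟩
  map_one' := Subtype.ext (glue_one h.compl)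
  map_mul' p p' := Subtype.ext (glue_mul h.compl p.1 p'.1 p.2 p'.2)

theorem gam_inj (h : Φ.Dec W U) : Function.Injective (gam h) := by
  intro p p' e
  obtain ⟨h1, h2⟩ := glue_inj h.compl (congrArg Subtype.val e)
  exact Prod.ext (Subtype.ext h1) (Subtype.ext h2)

/-- a subspace of dimension at most `K` which is invariant under `glue a u`, where `u` has no invariant subspace of
dimension at most `K`, lies in `W` -/
theorem le_of_inv [FiniteDimensional F V] (h : IsCompl W U) {a : W ≃ₗ[F] W} {u : U ≃ₗ[F] U} {K : ℕ}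
    (hu : ∀ Y : Submodule F U, _root_.Cfsg.Agent.H847.Bs.Inv u Y → Y ≠ ⊥ → K < finrank F Y) {Y : Submodule F V} (hY : _root_.Cfsg.Agent.H847.Bs.Inv (glue h a u) Y)
    (hK : finrank F Y ≤ K) : Y ≤ W := by
  let π : V →ₗ[F] U := U.projectionOnto W h.symm
  have hπ1 : ∀ w : W, π w = 0 := fun w => Submodule.projectionOnto_apply_right h.symm w
  have hπ2 : ∀ x : U, π x = x := fun x => Submodule.projectionOnto_apply_left h.symm x
  have hπ : ∀ (w : W) (x : U), π ((w : V) + x) = x := by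
    intro w x
    rw [map_add, hπ1, hπ2, zero_add]
  have h1 : _root_.Cfsg.Agent.H847.Bs.Inv u (Y.map π) := by
    rintro _ ⟨y, hy, rfl⟩
    have h2 := hY y hy
    obtain ⟨w, x, rfl⟩ := exists_add h y
    rw [map_add, glue_left, glue_right] at h2
    refine ⟨_, h2, ?_⟩
    rw [hπ, hπ]
  have h2 : Y.map π = ⊥ := by
    by_contra h3
    have h4 := hu _ h1 h3
    have h5 := Submodule.finrank_map_le π Y
    omega
  intro y hy
  have h3 : π y ∈ Y.map π := ⟨y, hy, rfl⟩
  rw [h2, Submodule.mem_bot] at h3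
  obtain ⟨w, x, rfl⟩ := exists_add h y
  rw [hπ] at h3
  rw [h3]
  simp

end core

end Cfsg.Agent.H2.Bs
end

-- part: H2/Bs/BS21
section
/-!
# S5733, BS21: final form (helper2); the count BS10 is a hypothesis
-/

set_option autoImplicit false

namespace Cfsg.Agent.H2.Bs

open Cfsg.Agent.H847.Bs Module
open Cfsg.Agent.H851.Dg (nd)

universe u v

theorem trickP : TrickP.{v} := fun _ _ _ _ _ _ _ _ hc hε h1 h2 h3 h4 h5 h6 h7 H hH =>
  Cfsg.Agent.H358.Bs.trick hc hε h1 h2 h3 h4 h5 h6 h7 H hH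

end Cfsg.Agent.H2.Bs
end

-- part: H548/BS/S21
section
/-!
# S5733, BS21 with a base of dimension four (after `H2.Bs.core`, helper2)
-/

set_option autoImplicit false

namespace Cfsg.Agent.H548.BS

open Cfsg.Agent.H847.Bs Module Cfsg.Agent.H2.Bs
open Cfsg.Agent.H851.Dg (nd nd_comap_equiv)

section core

variable {F : Type} [Field F] {V : Type} [AddCommGroup V] [Module F V] {Φ : Frm F V} {W U : Submodule F V}

theorem core4 [Finite F] [FiniteDimensional F V] (hΦ : IsSp Φ) (htrick : TrickP.{0}) (h : Φ.Dec W U)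
    {K d : ℕ} (hK : finrank F W ≤ K) {c ε : ℝ} (hc : 0 < c) (hε : 0 < ε)
    (hcard : c * (Nat.card (Φ.on U).Iso : ℝ) ≤ Nat.card ((Φ.on U).SS K d))
    (hRB : RB ε (Φ.on W).Iso) (H : Subgroup (V ≃ₗ[F] V))
    (hnd : 4 * (ndV Φ.Iso H : ℝ) < c * min 1 ε * Nat.card Φ.Iso) :
    ∃ W' U' : Submodule F V, Φ.Dec W' U' ∧ finrank F W' = finrank F W ∧ HasOn Φ.Iso H W' U' := by
  have hfin := finite_equiv F V
  have hfinW := finite_equiv F W
  have hfinU := finite_equiv F U
  set γ := gam h with hγ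
  have hγi := gam_inj h
  let E : Set Φ.Iso := {g | ∃ a : (Φ.on W).Iso, ∃ x : (Φ.on U).Iso, (x : U ≃ₗ[F] U) ∈ (Φ.on U).SS K d ∧ g = γ (a, x)}
  have hK0 : ∀ k ∈ (γ.comp (MonoidHom.inl (Φ.on W).Iso (Φ.on U).Iso)).range, ∃ a, k = γ (a, 1) := by
    rintro _ ⟨a, rfl⟩
    exact ⟨a, rfl⟩
  obtain ⟨g, hg⟩ := htrick Φ.Iso γ.range (γ.comp (MonoidHom.inl (Φ.on W).Iso (Φ.on U).Iso)).range E c ε hc hε
    (by
      rintro _ ⟨a, rfl⟩
      exact ⟨_, rfl⟩)
    (by
      rintro _ ⟨a, x, _, rfl⟩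
      exact ⟨_, rfl⟩)
    (by
      rintro _ ⟨a, x, hx, rfl⟩ k hk
      obtain ⟨b, rfl⟩ := hK0 k hk
      refine ⟨a * b, x, hx, ?_⟩
      rw [← map_mul, Prod.mk_mul_mk, mul_one])
    (by
      rintro g _ ⟨a, x, hx, rfl⟩ ⟨a', x', hx', e⟩
      have e1 : (g : V ≃ₗ[F] V) * glue h.compl a x = glue h.compl a' x' * g := by
        have e2 : g * γ (a, x) = γ (a', x') * g := by rw [← e, inv_mul_cancel_right]
        exact congrArg Subtype.val e2
      have h1 : W.map ((g : V ≃ₗ[F] V) : V →ₗ[F] V) ≤ W := by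
        refine le_of_inv h.compl (a := (a' : W ≃ₗ[F] W)) (u := (x' : U ≃ₗ[F] U)) hx'.2.1 (K := K) ?_ ?_
        · rintro _ ⟨w, hw, rfl⟩
          refine ⟨(a : W ≃ₗ[F] W) ⟨w, hw⟩, ((a : W ≃ₗ[F] W) ⟨w, hw⟩).2, ?_⟩
          have e3 := congrArg (fun f : V ≃ₗ[F] V => f w) e1
          change (g : V ≃ₗ[F] V) (glue h.compl a x w) = glue h.compl a' x' ((g : V ≃ₗ[F] V) w) at e3
          rw [← LinearEquiv.coe_coe, ← LinearEquiv.coe_coe] at e3 
          change _ = glue h.compl a' x' ((g : V ≃ₗ[F] V) w)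
          rw [LinearEquiv.coe_coe] at e3
          rw [LinearEquiv.coe_coe, ← e3]
          exact congrArg _ (glue_left h.compl (a : W ≃ₗ[F] W) x ⟨w, hw⟩).symm
        · have h2 := LinearEquiv.finrank_map_eq (g : V ≃ₗ[F] V) W
          rw [h2]
          exact hK
      have h2 : _root_.Cfsg.Agent.H847.Bs.Inv (g : V ≃ₗ[F] V) W := fun v hv => h1 ⟨v, hv, rfl⟩
      obtain ⟨a₁, ha₁, x₁, hx₁, e⟩ := exists_glue hΦ.nd h g.2 h2
      exact ⟨(⟨a₁, ha₁⟩, ⟨x₁, hx₁⟩), Subtype.ext e.symm⟩)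
    (by
      rintro _ ⟨a, x, hx, rfl⟩
      refine ⟨γ (1, x), γ (a, 1), ⟨a, rfl⟩, ?_, ?_⟩
      · intro l hl
        obtain ⟨b, rfl⟩ := hK0 l hl
        rw [← map_mul, ← map_mul, Prod.mk_mul_mk, Prod.mk_mul_mk, one_mul, one_mul, mul_one, mul_one]
      · rw [← map_mul, Prod.mk_mul_mk, one_mul, mul_one])
    (by
      have h1 : Nat.card γ.range = Nat.card (Φ.on W).Iso * Nat.card (Φ.on U).Iso := by
        rw [← Nat.card_congr (MonoidHom.ofInjective hγi).toEquiv, Nat.card_prod]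
      have h2 : Nat.card E = Nat.card (Φ.on W).Iso * Nat.card ((Φ.on U).SS K d) := by
        rw [← Nat.card_prod]
        refine (Nat.card_congr (Equiv.ofBijective (fun p : (Φ.on W).Iso × (Φ.on U).SS K d =>
          (⟨γ (p.1, ⟨p.2.1, p.2.2.1⟩), p.1, ⟨p.2.1, p.2.2.1⟩, p.2.2, rfl⟩ : E)) ⟨?_, ?_⟩)).symm
        · intro p p' e
          have e1 := hγi (congrArg Subtype.val e)
          rw [Prod.mk.injEq] at e1
          refine Prod.ext e1.1 (Subtype.ext ?_)
          exact Subtype.mk.inj e1.2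
        · rintro ⟨_, a, x, hx, rfl⟩
          exact ⟨(a, ⟨x, hx⟩), rfl⟩
      rw [h1, h2]
      push_cast
      have h3 : (0 : ℝ) ≤ Nat.card (Φ.on W).Iso := Nat.cast_nonneg _
      calc c * ((Nat.card (Φ.on W).Iso : ℝ) * Nat.card (Φ.on U).Iso)
          = Nat.card (Φ.on W).Iso * (c * Nat.card (Φ.on U).Iso) := by ring
        _ ≤ _ := mul_le_mul_of_nonneg_left hcard h3)
    (by
      refine H2.Bs.rb_congr (MonoidHom.ofInjective (f := γ.comp (MonoidHom.inl (Φ.on W).Iso (Φ.on U).Iso)) ?_) hRB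
      exact hγi.comp (Prod.mk_left_injective _))
    (H.subgroupOf Φ.Iso) (by rw [← ndV_eq]; exact hnd)
  have hginv : ∀ v, (g : V ≃ₗ[F] V) ((g : V ≃ₗ[F] V)⁻¹ v) = v := fun v => LinearEquiv.apply_symm_apply _ v
  have hginv' : ∀ v, (g : V ≃ₗ[F] V)⁻¹ ((g : V ≃ₗ[F] V) v) = v := fun v => LinearEquiv.symm_apply_apply _ v
  refine ⟨W.map ((g : V ≃ₗ[F] V) : V →ₗ[F] V), U.map ((g : V ≃ₗ[F] V) : V →ₗ[F] V), ⟨?_, ?_⟩, ?_, ?_⟩
  · exact h.compl.map (Submodule.orderIsoMapComap (g : V ≃ₗ[F] V))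
  · rintro _ ⟨w, hw, rfl⟩ _ ⟨x, hx, rfl⟩
    change Φ.B ((g : V ≃ₗ[F] V) w) ((g : V ≃ₗ[F] V) x) = 0
    rw [g.2.1]
    exact h.orth w hw x hx
  · rw [LinearEquiv.finrank_map_eq (g : V ≃ₗ[F] V) W]
  · intro t ht hW' hU'
    set s : V ≃ₗ[F] V := (g : V ≃ₗ[F] V)⁻¹ * t * g with hs
    have hsv : ∀ v, s v = (g : V ≃ₗ[F] V)⁻¹ (t ((g : V ≃ₗ[F] V) v)) := fun v => rfl
    have hsI : s ∈ Φ.Iso := mul_mem (mul_mem (inv_mem g.2) ht) g.2
    have hsW : _root_.Cfsg.Agent.H847.Bs.Inv s W := by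
      intro w hw
      obtain ⟨w', hw', e⟩ := hW' _ ⟨w, hw, rfl⟩
      rw [hsv]
      change (g : V ≃ₗ[F] V) w' = t ((g : V ≃ₗ[F] V) w) at e
      rw [← e, hginv']
      exact hw'
    obtain ⟨a, ha, y, hy, e⟩ := exists_glue hΦ.nd h hsI hsW
    have hy1 : y = 1 := by
      ext x
      have h1 : s (x : V) = x := by
        have h2 : t ((g : V ≃ₗ[F] V) x) = (g : V ≃ₗ[F] V) x := hU' _ ⟨x, x.2, rfl⟩
        rw [hsv, h2]
        exact hginv' _
      rw [e, glue_right] at h1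
      exact h1
    have h1 := hg (γ (⟨a, ha⟩, 1)) ⟨⟨a, ha⟩, rfl⟩
    rw [Subgroup.mem_subgroupOf] at h1
    have h2 : ((g * γ (⟨a, ha⟩, 1) * g⁻¹ : Φ.Iso) : V ≃ₗ[F] V) = t := by
      have h3 : ((γ (⟨a, ha⟩, 1) : Φ.Iso) : V ≃ₗ[F] V) = s := by
        rw [e, hy1]
        rfl
      rw [Subgroup.coe_mul, Subgroup.coe_mul, h3, hs, Subgroup.coe_inv]
      group
    rwa [h2] at h1

end core

theorem s21 : S21 := by
  rintro ⟨ε, hε, h2⟩
  obtain ⟨c, hc, K₀, h1⟩ := H59.Bs.s10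
  set K := max K₀ 4 with hK
  set c' : ℝ := c / (K + 1) with hc'
  have hc'0 : 0 < c' := by positivity
  refine ⟨c' * min 1 ε / 4, by positivity, 2 * K + 6, fun F V _ _ _ _ _ Φ hΦ hn H _ hH => ?_⟩
  obtain ⟨W, U, h, hW⟩ := H181.Bs.exists_dec hΦ 2 (by omega)
  obtain ⟨n, hn'⟩ := even_finrank (isSp_right hΦ h)
  have h3 := finrank_dec h
  obtain ⟨W', U', h5, h6, h7⟩ := core4 hΦ trickP h (K := K) (d := 2 * n) (by rw [hW]; exact le_max_right _ _) hc'0 hε
    (h1 F U (Φ.on U) n K (isSp_right hΦ h) (le_max_left _ _) hn' (by omega)) (h2 F W (Φ.on W) (isSp_left hΦ h) hW) H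
    (by linarith only [hH])
  exact ⟨W', U', h5, by rw [h6, hW], h7⟩

end Cfsg.Agent.H548.BS
end
end
end
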